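import Cfsg.Agent.ReeInvolveThree.Frame
import Cfsg.Agent.Coprime.Sylow

/-!
A group of Ree type without a section `S₃`: centralisers of elements of order three.
-/

set_option autoImplicit false
set_option linter.style.haveILetI false
set_option linter.unusedSectionVars false

namespace Cfsg.Lib.ReeThree

open Subgroup

universe u

variable {G : Type u} [Group G]

theorem orderOf_conj_eq (g x : G) : orderOf (g * x * g⁻¹) = orderOf x :=
  orderOf_injective (MulAut.conj g).toMonoidHom (MulAut.conj g).injective x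

/-- An element of odd order is a power of its square. -/
theorem mem_zpowers_sq {x : G} (hx : Odd (orderOf x)) : x ∈ zpowers (x * x) := by
  obtain ⟨j, hj⟩ := hx
  refine mem_zpowers_iff.2 ⟨(j + 1 : ℕ), ?_⟩
  rw [zpow_natCast, ← pow_two, ← pow_mul, show 2 * (j + 1) = orderOf x + 1 by omega, pow_succ,
    pow_orderOf_eq_one, one_mul]

/-- An element of odd order with trivial square is trivial. -/
theorem eq_one_of_odd_sq {x : G} (hx : Odd (orderOf x)) (h : x * x = 1) : x = 1 := by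
  have := mem_zpowers_sq hx
  rwa [h, zpowers_one_eq_bot, mem_bot] at this

theorem eq_one_of_dvd_coprime {x : G} {a b : ℕ} (ha : orderOf x ∣ a) (hb : orderOf x ∣ b) (h : a.Coprime b) :
    x = 1 :=
  orderOf_eq_one_iff.1 (Nat.eq_one_of_dvd_coprimes h ha hb)

/-- An involution without fixed points inverts. -/
theorem fpf_inverts [Finite G] {S : Subgroup G} {t : G} (htt : t * t = 1) (hinv : ∀ a ∈ S, t * a * t⁻¹ ∈ S)
    (hfix : ∀ a ∈ S, a * t = t * a → a = 1) :
    (∀ a ∈ S, t * a * t⁻¹ = a⁻¹) ∧ ∀ a ∈ S, ∀ b ∈ S, a * b = b * a := by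
  let φ : S →* S :=
    { toFun := fun a => ⟨t * a * t⁻¹, hinv a a.2⟩
      map_one' := Subtype.ext (by simp)
      map_mul' := fun a b => Subtype.ext (by simp only [Subgroup.coe_mul]; group) }
  have hφ : MonoidHom.FixedPointFree φ := fun a h => by
    have h' : t * a * t⁻¹ = (a : G) := congrArg Subtype.val h
    exact Subtype.ext (hfix a a.2 (mul_inv_eq_iff_eq_mul.1 h').symm)
  have h2 : Function.Involutive φ := fun a => Subtype.ext (by
    show t * (t * a * t⁻¹) * t⁻¹ = (a : G)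
    rw [show t * (t * a * t⁻¹) * t⁻¹ = (t * t) * a * (t * t)⁻¹ by group, htt]
    group)
  refine ⟨fun a ha => ?_, fun a ha b hb => congrArg Subtype.val (hφ.commute_all_of_involutive h2 ⟨a, ha⟩ ⟨b, hb⟩).eq⟩
  exact congrArg Subtype.val (congrFun (hφ.coe_eq_inv_of_involutive h2) ⟨a, ha⟩)

section Cent

variable [Finite G] {t s z : G} {K U H R : Subgroup G} {q m r : ℕ} (D : Frame t K q m r U H R s z)
include D

theorem Frame.tinv : t⁻¹ = t := inv_eq_of_mul_eq_one_right D.tt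

theorem Frame.orderOf_U {g : G} (h : g ∈ U) : orderOf g ∣ q :=
  D.cardU ▸ orderOf_mk g h ▸ orderOf_dvd_natCard (⟨g, h⟩ : U)

theorem Frame.orderOf_H {g : G} (h : g ∈ H) : orderOf g ∣ m :=
  D.cardH ▸ orderOf_mk g h ▸ orderOf_dvd_natCard (⟨g, h⟩ : H)

theorem Frame.orderOf_R {g : G} (h : g ∈ R) : orderOf g ∣ r :=
  D.cardR ▸ orderOf_mk g h ▸ orderOf_dvd_natCard (⟨g, h⟩ : R)

theorem Frame.odd_U {g : G} (h : g ∈ U) : Odd (orderOf g) := D.odd_q.of_dvd_nat (D.orderOf_U h)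

theorem Frame.odd_H {g : G} (h : g ∈ H) : Odd (orderOf g) := D.odd_m.of_dvd_nat (D.orderOf_H h)

theorem Frame.odd_R {g : G} (h : g ∈ R) : Odd (orderOf g) := D.odd_r.of_dvd_nat (D.orderOf_R h)

theorem Frame.typesOrder {g : G} (hg : g ∈ K) (ho : Odd (orderOf g)) :
    ∃ a ∈ K, (a * g * a⁻¹ ∈ U ∧ orderOf g ∣ q) ∨ (a * g * a⁻¹ ∈ H ∧ orderOf g ∣ m) ∨
      (a * g * a⁻¹ ∈ R ∧ orderOf g ∣ r) := by
  obtain ⟨a, ha, h | h | h⟩ := D.types g hg ho
  · exact ⟨a, ha, Or.inl ⟨h, orderOf_conj_eq a g ▸ D.orderOf_U h⟩⟩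
  · exact ⟨a, ha, Or.inr (Or.inl ⟨h, orderOf_conj_eq a g ▸ D.orderOf_H h⟩)⟩
  · exact ⟨a, ha, Or.inr (Or.inr ⟨h, orderOf_conj_eq a g ▸ D.orderOf_R h⟩)⟩

theorem Frame.conj_U {g : G} (hg : g ∈ K) (h3 : g ^ 3 = 1) (h1 : g ≠ 1) : ∃ a ∈ K, a * g * a⁻¹ ∈ U := by
  have hd : orderOf g ∣ 3 := orderOf_dvd_of_pow_eq_one h3
  obtain ⟨a, ha, ⟨h, -⟩ | ⟨-, h⟩ | ⟨-, h⟩⟩ := D.typesOrder hg ((by decide : Odd 3).of_dvd_nat hd)
  · exact ⟨a, ha, h⟩
  · exact absurd (eq_one_of_dvd_coprime hd h (Nat.prime_three.coprime_iff_not_dvd.2 D.three_not_dvd_m)) h1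
  · exact absurd (eq_one_of_dvd_coprime hd h (Nat.prime_three.coprime_iff_not_dvd.2 D.three_not_dvd_r)) h1

theorem Frame.conj_H {g : G} (hg : g ∈ K) (hm : orderOf g ∣ m) (h1 : g ≠ 1) : ∃ a ∈ K, a * g * a⁻¹ ∈ H := by
  obtain ⟨a, ha, ⟨-, h⟩ | ⟨h, -⟩ | ⟨-, h⟩⟩ := D.typesOrder hg (D.odd_m.of_dvd_nat hm)
  · exact absurd (eq_one_of_dvd_coprime h hm D.coprime_qm) h1
  · exact ⟨a, ha, h⟩
  · exact absurd (eq_one_of_dvd_coprime hm h D.coprime_mr) h1

theorem Frame.conj_R {g : G} (hg : g ∈ K) (hr : orderOf g ∣ r) (h1 : g ≠ 1) : ∃ a ∈ K, a * g * a⁻¹ ∈ R := by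
  obtain ⟨a, ha, ⟨-, h⟩ | ⟨-, h⟩ | ⟨h, -⟩⟩ := D.typesOrder hg (D.odd_r.of_dvd_nat hr)
  · exact absurd (eq_one_of_dvd_coprime h hr D.coprime_qr) h1
  · exact absurd (eq_one_of_dvd_coprime h hr D.coprime_mr) h1
  · exact ⟨a, ha, h⟩

/-- The kernel of odd order of a centraliser. -/
theorem Frame.exists_odd_kernel {x : G} (hxt : x * t = t * x) {A : Subgroup G} (hA : Odd (Nat.card A))
    (hC : ∀ k ∈ K, k * x = x * k → k ∈ A) :
    ∃ O : Subgroup G, O ≤ centralizer ({x} : Set G) ∧ Odd (Nat.card O) ∧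
      (∀ c, c * x = x * c → c ∈ O ∨ c * t ∈ O) ∧
      (∀ c, c * x = x * c → Odd (orderOf c) → c ∈ O) ∧
      (∀ o ∈ O, o * t = t * o → o ∈ A) := by
  classical
  haveI : Fact (Nat.Prime 2) := ⟨Nat.prime_two⟩
  set X : Subgroup G := centralizer ({x} : Set G) with hXdef
  have htX : t ∈ X := mem_centralizer_singleton_iff.2 hxt.symm
  have hA1 : ∀ k ∈ A, k * k = 1 → k = 1 := fun k hk hkk =>
    eq_one_of_odd_sq (hA.of_dvd_nat (orderOf_mk k hk ▸ orderOf_dvd_natCard (⟨k, hk⟩ : A))) hkk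
  obtain ⟨P, hP⟩ := (show IsPGroup 2 (zpowers (⟨t, htX⟩ : X)) from IsPGroup.of_card (n := 1) (by
    rw [Nat.card_zpowers, pow_one]
    exact orderOf_eq_prime (Subtype.ext (by simpa [pow_two] using D.tt)) (fun h => D.t1 (congrArg Subtype.val h)))).exists_le_sylow
  have htP : (⟨t, htX⟩ : X) ∈ (P : Subgroup X) := hP (mem_zpowers _)
  have hsmall : ∀ e ∈ (P : Subgroup X), (e : G) = 1 ∨ (e : G) = t := by
    intro e he
    have hpG : IsPGroup 2 ((P : Subgroup X).map X.subtype) := P.2.map _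
    have hemem : (e : G) ∈ (P : Subgroup X).map X.subtype := ⟨e, he, rfl⟩
    have hec : (e : G) * t = t * e := D.two_comm hpG hemem ⟨_, htP, rfl⟩
    obtain ⟨j, hj⟩ := hpG ⟨e, hemem⟩
    have hee : (e : G) * e = 1 := D.two_sq (congrArg Subtype.val hj)
    have hex : (e : G) * x = x * e := mem_centralizer_singleton_iff.1 e.2
    obtain ⟨k, hk, h | h⟩ := D.split _ hec
    · left
      rw [h] at hee hex
      rw [h]
      exact hA1 k (hC k hk hex) hee
    · right
      have hkx : k * x = x * k := by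
        rw [h] at hex
        refine mul_left_cancel (a := t) ?_
        rw [← mul_assoc, hex, ← mul_assoc, hxt, ← mul_assoc]
      have hkk : k * k = 1 := by
        rw [h, show t * k * (t * k) = t * (k * t) * k by group, ← D.comm k hk,
          show t * (t * k) * k = (t * t) * (k * k) by group, D.tt, one_mul] at hee
        exact hee
      rw [h, hA1 k (hC k hk hkx) hkk, mul_one]
  have hN : normalizer ((P : Subgroup X) : Set X) ≤ centralizer ((P : Subgroup X) : Set X) := by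
    intro n hn
    refine mem_centralizer_iff.2 fun e he => ?_
    rcases hsmall e he with h | h
    · rw [show e = 1 from Subtype.ext h, one_mul, mul_one]
    · have hne : n * e * n⁻¹ ∈ (P : Subgroup X) := (mem_normalizer_iff.1 hn e).1 he
      rcases hsmall _ hne with h' | h'
      · have h1 : e = 1 := conj_eq_one_iff.1 (Subtype.ext h')
        rw [h1, one_mul, mul_one]
      · refine (mul_inv_eq_iff_eq_mul.1 (Subtype.ext ?_ : n * e * n⁻¹ = e)).symm
        rw [h', h]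
  set N := (MonoidHom.transferSylow P hN).ker with hNdef
  have hcompl : N.IsComplement' (P : Subgroup X) := MonoidHom.ker_transferSylow_isComplement' P hN
  have hNodd : Odd (Nat.card N) :=
    Nat.not_even_iff_odd.1 fun h => MonoidHom.not_dvd_card_ker_transferSylow P hN (even_iff_two_dvd.1 h)
  have hcases : ∀ c, c * x = x * c → c ∈ N.map X.subtype ∨ c * t ∈ N.map X.subtype := by
    intro c hc
    obtain ⟨⟨o, e⟩, h⟩ := hcompl.2 ⟨c, mem_centralizer_singleton_iff.2 hc⟩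
    have h' : ((o : X) : G) * ((e : X) : G) = c := congrArg Subtype.val h
    rcases hsmall e e.2 with he | he
    · exact Or.inl ⟨o, o.2, by rw [← h', he, mul_one]; rfl⟩
    · exact Or.inr ⟨o, o.2, by rw [← h', he, mul_assoc, D.tt, mul_one]; rfl⟩
  refine ⟨N.map X.subtype, map_subtype_le N, ?_, hcases, ?_, ?_⟩
  · rwa [card_map_of_injective X.subtype_injective]
  · intro c hc hco
    rcases hcases c hc with h | ⟨o, ho, h⟩
    · exact h
    · -- the square of `c` lies in the kernel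
      have hc' : c = (o : G) * t := by
        rw [show ((o : G) : G) = c * t from h, mul_assoc, D.tt, mul_one]
      have hsq : c * c ∈ N.map X.subtype := by
        refine ⟨o * ((⟨t, htX⟩ : X) * o * (⟨t, htX⟩ : X)⁻¹),
          mul_mem ho ((inferInstance : N.Normal).conj_mem o ho _), ?_⟩
        show (o : G) * (t * o * t⁻¹) = c * c
        rw [hc', D.tinv]; group
      exact zpowers_le.2 hsq (mem_zpowers_sq hco)
  · rintro o ⟨o, ho, rfl⟩ hot
    have hodd : Odd (orderOf (o : G)) := by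
      rw [orderOf_coe]
      exact hNodd.of_dvd_nat (orderOf_mk o ho ▸ orderOf_dvd_natCard (⟨o, ho⟩ : N))
    exact hC _ (D.odd_mem hot hodd) (mem_centralizer_singleton_iff.1 o.2)

theorem Frame.U_comm_t {v : G} (hv : v ∈ U) : v * t = t * v := (D.comm v (D.UK hv)).symm

theorem Frame.exists_U_ne : ∃ u ∈ U, u ≠ 1 := by
  refine (Subgroup.bot_or_exists_ne_one U).resolve_left fun h => ?_
  have := D.cardU
  rw [h, Subgroup.card_bot] at this
  have := D.q27
  omega

/-- An involution centralises the Sylow `3`-subgroup of the kernel. -/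
theorem Frame.sylow_three_cent {u : G} (hu : u ∈ U) (hu1 : u ≠ 1) {Q : Subgroup G} (hQ : IsPGroup 3 Q)
    (hUQ : U ≤ Q) (hQc : Q ≤ centralizer ({u} : Set G)) : Q = U := by
  haveI : Fact (Nat.Prime 3) := ⟨Nat.prime_three⟩
  obtain ⟨O, hOX, hOodd, hOcases, hOmem, hOt⟩ :=
    D.exists_odd_kernel (D.U_comm_t hu) (A := U) (D.cardU ▸ D.odd_q) (fun k hk h => D.Ucent u hu hu1 k hk h)
  have hodd3 : ∀ {S : Subgroup G}, IsPGroup 3 S → ∀ a ∈ S, Odd (orderOf a) := by
    intro S hS a ha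
    obtain ⟨j, hj⟩ := hS ⟨a, ha⟩
    exact (Odd.pow (by decide : Odd 3)).of_dvd_nat (orderOf_dvd_of_pow_eq_one (congrArg Subtype.val hj))
  have hQO : Q ≤ O := fun a ha => hOmem a (mem_centralizer_singleton_iff.1 (hQc ha)) (hodd3 hQ a ha)
  have htO : zpowers t ≤ normalizer (O : Set G) := zpowers_le.2 (by
    have key : ∀ o ∈ O, t * o * t⁻¹ ∈ O := by
      intro o ho
      refine hOmem _ ?_ ((orderOf_conj_eq t o).symm ▸ hOodd.of_dvd_nat (orderOf_mk o ho ▸ orderOf_dvd_natCard (⟨o, ho⟩ : O)))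
      have htu : Commute t u := (D.U_comm_t hu).symm
      exact ((htu.mul_left (mem_centralizer_singleton_iff.1 (hOX ho))).mul_left htu.inv_left).eq
    refine mem_normalizer_iff.2 fun o => ⟨key o, fun h => ?_⟩
    have := key _ h
    rwa [show t * (t * o * t⁻¹) * t⁻¹ = (t * t) * o * (t * t)⁻¹ by group, D.tt, one_mul, inv_one, mul_one] at this)
  have hcop : (Nat.card (zpowers t)).Coprime (Nat.card O) := by
    rw [Nat.card_zpowers, orderOf_eq_prime (p := 2) (by rw [pow_two, D.tt]) D.t1]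
    exact hOodd.coprime_two_left
  have hU3 : IsPGroup 3 U := fun a => ⟨1, Subtype.ext (by simpa using D.Ucube a a.2)⟩
  obtain ⟨T, hUT, hTt⟩ := Cfsg.Lib.Coprime.exists_invariant_sylow_ge htO hcop
    (Or.inl (Group.isSolvable_of_comm fun a b => mul_comm' a b)) 3 (hUQ.trans hQO) hU3
    (zpowers_le.2 (centralizer_le_normalizer (U : Set G) (mem_centralizer_iff.2 fun v hv => D.U_comm_t hv)))
  set T₀ := (T : Subgroup O).map O.subtype with hT₀
  have hT3 : IsPGroup 3 T₀ := T.2.map _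
  have hTO : T₀ ≤ O := map_subtype_le _
  have hfix : ∀ a ∈ T₀, t * a * t⁻¹ = a := by
    intro a ha
    have hat : t * a * t⁻¹ ∈ T₀ := (mem_normalizer_iff.1 (hTt (mem_zpowers t)) a).1 ha
    set w := a⁻¹ * (t * a * t⁻¹) with hw
    have hwinv : t * w * t⁻¹ = w⁻¹ := by
      rw [hw, mul_inv_rev, inv_inv, mul_inv_rev, mul_inv_rev, inv_inv,
        show t * (a⁻¹ * (t * a * t⁻¹)) * t⁻¹ = t * a⁻¹ * (t * (a * (t⁻¹ * t⁻¹))) by group, ← mul_inv_rev,
        D.tt, inv_one, mul_one, D.tinv]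
      group
    obtain ⟨j, hj⟩ := hT3 ⟨w, mul_mem (inv_mem ha) hat⟩
    have hwj : w ^ 3 ^ j = 1 := congrArg Subtype.val hj
    have key : ∀ i, w ^ 3 ^ i = 1 → w = 1 := by
      intro i
      induction i with
      | zero => simp
      | succ i ih =>
        intro h
        refine ih (D.not_real_three (x := t) (by rw [← pow_mul, ← pow_succ, h]) ?_)
        rw [← conj_pow, hwinv, inv_pow]
    exact (inv_mul_eq_one.1 (key j hwj)).symm
  have hTU : T₀ = U := le_antisymm (fun a ha => hOt a (hTO ha) (mul_inv_eq_iff_eq_mul.1 (hfix a ha)).symm) hUT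
  obtain ⟨T', hT'⟩ := (hQ.of_equiv (subgroupOfEquivOfLe hQO).symm).exists_le_sylow
  refine (eq_of_le_of_card_ge hUQ ?_).symm
  calc Nat.card Q = Nat.card (Q.subgroupOf O) := (Nat.card_congr (subgroupOfEquivOfLe hQO).toEquiv).symm
    _ ≤ Nat.card (T' : Subgroup O) := Nat.card_le_card_of_injective _ (inclusion_injective hT')
    _ = Nat.card (T : Subgroup O) := Nat.card_congr (Sylow.equiv T' T).toEquiv
    _ = Nat.card U := by rw [← hTU, hT₀, card_map_of_injective O.subtype_injective]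

/-- `U` is a maximal `3`-subgroup. -/
theorem Frame.U_sylow {P : Subgroup G} (hP : IsPGroup 3 P) (hUP : U ≤ P) : P = U := by
  haveI : Fact (Nat.Prime 3) := ⟨Nat.prime_three⟩
  obtain ⟨u, hu, hu1⟩ := D.exists_U_ne
  haveI : Nontrivial P := ⟨⟨u, hUP hu⟩, 1, fun h => hu1 (congrArg Subtype.val h)⟩
  obtain ⟨a, ha, ha1⟩ : ∃ a ∈ center P, a ≠ 1 := by
    haveI := hP.center_nontrivial
    exact (Subgroup.bot_or_exists_ne_one _).resolve_left ((nontrivial_iff_ne_bot _).1 inferInstance)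
  have hcomm : ∀ b ∈ P, b * (a : G) = (a : G) * b := fun b hb => congrArg Subtype.val (mem_center_iff.1 ha ⟨b, hb⟩)
  have haU : (a : G) ∈ U := by
    have h := D.sylow_three_cent hu hu1 (Q := U ⊔ zpowers (a : G))
      (hP.to_le (sup_le hUP (zpowers_le.2 a.2))) le_sup_left
      (sup_le (fun v hv => mem_centralizer_singleton_iff.2 (D.Ucomm v hv u hu))
        (zpowers_le.2 (mem_centralizer_singleton_iff.2 (hcomm u (hUP hu)).symm)))
    exact h ▸ mem_sup_right (mem_zpowers (a : G))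
  exact D.sylow_three_cent haU (fun h => ha1 (Subtype.ext h)) hP hUP
    (fun b hb => mem_centralizer_singleton_iff.2 (hcomm b hb))

/-- The `{2,3}'`-part of the centraliser of an element of order three. -/
theorem Frame.exists_W {u : G} (hu : u ∈ U) (hu1 : u ≠ 1) :
    ∃ W : Subgroup G, W ≤ centralizer ({u} : Set G) ∧ Odd (Nat.card W) ∧ ¬ 3 ∣ Nat.card W ∧
      (∀ w ∈ W, t * w * t⁻¹ = w⁻¹) ∧ (∀ a ∈ W, ∀ b ∈ W, a * b = b * a) ∧
      (∀ c, c * u = u * c → ∀ w ∈ W, c * w * c⁻¹ ∈ W) ∧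
      (∀ c, c * u = u * c → ∃ w ∈ W, ∃ v ∈ U, c = w * v ∨ c = w * v * t) ∧
      (∀ c, c * u = u * c → Odd (orderOf c) → ¬ 3 ∣ orderOf c → c ∈ W) := by
  classical
  haveI : Fact (Nat.Prime 3) := ⟨Nat.prime_three⟩
  obtain ⟨O, hOX, hOodd, hOcases, hOmem, hOt⟩ :=
    D.exists_odd_kernel (D.U_comm_t hu) (A := U) (D.cardU ▸ D.odd_q) (fun k hk h => D.Ucent u hu hu1 k hk h)
  have hUO : U ≤ O := fun v hv => hOmem v (D.Ucomm v hv u hu) (D.odd_U hv)
  have hoddO : ∀ o ∈ O, Odd (orderOf o) := fun o ho =>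
    hOodd.of_dvd_nat (orderOf_mk o ho ▸ orderOf_dvd_natCard (⟨o, ho⟩ : O))
  have htu : t * u = u * t := (D.U_comm_t hu).symm
  have hconjO : ∀ c, c * u = u * c → ∀ o ∈ O, c * o * c⁻¹ ∈ O := by
    intro c hc o ho
    refine hOmem _ ?_ ((orderOf_conj_eq c o).symm ▸ hoddO o ho)
    exact (((show Commute c u from hc).mul_left (mem_centralizer_singleton_iff.1 (hOX ho))).mul_left
      (show Commute c u from hc).inv_left).eq
  have hU3 : IsPGroup 3 U := fun a => ⟨1, Subtype.ext (by simpa using D.Ucube a a.2)⟩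
  obtain ⟨P, hP⟩ := (hU3.of_equiv (subgroupOfEquivOfLe hUO).symm).exists_le_sylow
  have hPU : (P : Subgroup O).map O.subtype = U := D.U_sylow (P.2.map _) (fun v hv => ⟨⟨v, hUO hv⟩, hP hv, rfl⟩)
  have htvt : ∀ v ∈ U, t * v * t⁻¹ = v := fun v hv => mul_inv_eq_iff_eq_mul.2 (D.U_comm_t hv).symm
  -- Burnside
  have hN : normalizer ((P : Subgroup O) : Set O) ≤ centralizer ((P : Subgroup O) : Set O) := by
    intro n hn
    have hnU : ∀ v ∈ U, (n : G) * v * (n : G)⁻¹ ∈ U := by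
      intro v hv
      obtain ⟨e, he, rfl⟩ := hPU.symm ▸ hv
      rw [← hPU]
      exact ⟨n * e * n⁻¹, (mem_normalizer_iff.1 hn e).1 he, rfl⟩
    set Cc : Subgroup G := O ⊓ centralizer (U : Set G) with hCc
    have htCc : zpowers t ≤ normalizer (Cc : Set G) := zpowers_le.2 (by
      have key : ∀ a ∈ Cc, t * a * t⁻¹ ∈ Cc := by
        intro a ha
        refine ⟨hconjO t htu a ha.1, mem_centralizer_iff.2 fun v hv => ?_⟩
        have hva : Commute v a := mem_centralizer_iff.1 ha.2 v hv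
        have hvt : Commute v t := D.U_comm_t hv
        exact ((hvt.mul_right hva).mul_right hvt.inv_right).eq
      refine mem_normalizer_iff.2 fun a => ⟨key a, fun h => ?_⟩
      have := key _ h
      rwa [show t * (t * a * t⁻¹) * t⁻¹ = (t * t) * a * (t * t)⁻¹ by group, D.tt, one_mul, inv_one, mul_one]
        at this)
    have hcop : (Nat.card (zpowers t)).Coprime (Nat.card Cc) := by
      rw [Nat.card_zpowers, orderOf_eq_prime (p := 2) (by rw [pow_two, D.tt]) D.t1]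
      exact (hOodd.of_dvd_nat (card_dvd_of_le inf_le_left)).coprime_two_left
    have hfix : ∀ a ∈ zpowers t, (n : G)⁻¹ * a * n * a⁻¹ ∈ Cc := by
      have h1 : (n : G)⁻¹ * t * n * t⁻¹ ∈ Cc := by
        refine mem_inf.2 ⟨?_, mem_centralizer_iff.2 fun v hv => ?_⟩
        · rw [show (n : G)⁻¹ * t * n * t⁻¹ = (n : G)⁻¹ * (t * n * t⁻¹) by group]
          exact mul_mem (inv_mem n.2) (hconjO t htu n n.2)
        · have e2 : (n : G)⁻¹ * t * n * t⁻¹ * v * ((n : G)⁻¹ * t * n * t⁻¹)⁻¹ = v := by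
            calc (n : G)⁻¹ * t * n * t⁻¹ * v * ((n : G)⁻¹ * t * n * t⁻¹)⁻¹
                = (n : G)⁻¹ * (t * ((n : G) * (t⁻¹ * v * t) * (n : G)⁻¹) * t⁻¹) * n := by group
              _ = (n : G)⁻¹ * (t * ((n : G) * v * (n : G)⁻¹) * t⁻¹) * n := by
                  rw [show t⁻¹ * v * t = v by rw [mul_assoc, D.U_comm_t hv, ← mul_assoc, inv_mul_cancel, one_mul]]
              _ = (n : G)⁻¹ * ((n : G) * v * (n : G)⁻¹) * n := by rw [htvt _ (hnU v hv)]
              _ = v := by group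
          exact (mul_inv_eq_iff_eq_mul.1 e2).symm
      intro a ha
      obtain ⟨i, rfl⟩ := mem_zpowers_iff.1 ha
      rcases Int.even_or_odd i with ⟨j, rfl⟩ | ⟨j, rfl⟩
      · rw [← two_mul, _root_.zpow_mul, zpow_two, D.tt, one_zpow]; simp
      · rw [zpow_add_one, _root_.zpow_mul, zpow_two, D.tt, one_zpow, one_mul]; exact h1
    obtain ⟨d, hd, hnd⟩ := Cfsg.Lib.Coprime.exists_fixed_in_coset htCc hcop
      (Or.inl (Group.isSolvable_of_comm fun a b => mul_comm' a b)) hfix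
    have hndU : (n : G) * d ∈ U :=
      hOt _ (mul_mem n.2 hd.1) ((mem_centralizer_iff.1 hnd) t (mem_zpowers t)).symm
    refine mem_centralizer_iff.2 fun e he => Subtype.ext ?_
    have heU : (e : G) ∈ U := hPU ▸ ⟨e, he, rfl⟩
    have h1 : Commute (e : G) ((n : G) * d) := D.Ucomm _ heU _ hndU
    have h2 : Commute (e : G) d := mem_centralizer_iff.1 hd.2 _ heU
    have h3 : Commute (e : G) ((n : G) * d * d⁻¹) := h1.mul_right h2.inv_right
    rw [mul_inv_cancel_right] at h3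
    exact h3.eq
  set N := (MonoidHom.transferSylow P hN).ker with hNdef
  have hcompl : N.IsComplement' (P : Subgroup O) := MonoidHom.ker_transferSylow_isComplement' P hN
  obtain ⟨hNc, j, hj⟩ := Cfsg.Lib.Transfer.complement_props hcompl
  have hN3 : ¬ 3 ∣ Nat.card N := MonoidHom.not_dvd_card_ker_transferSylow P hN
  have hmem : ∀ o : O, o ∈ N ↔ ¬ 3 ∣ orderOf (o : G) := fun o => by
    rw [Cfsg.Lib.Transfer.mem_iff_coprime_orderOf hNc hj o, orderOf_coe, Nat.coprime_comm,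
      Nat.prime_three.coprime_iff_not_dvd]
  set W := N.map O.subtype with hW
  have hWmem : ∀ c, c * u = u * c → Odd (orderOf c) → ¬ 3 ∣ orderOf c → c ∈ W := fun c hc ho h3 =>
    ⟨⟨c, hOmem c hc ho⟩, (hmem _).2 h3, rfl⟩
  have hWconj : ∀ c, c * u = u * c → ∀ w ∈ W, c * w * c⁻¹ ∈ W := by
    rintro c hc _ ⟨w, hw, rfl⟩
    exact ⟨⟨_, hconjO c hc w w.2⟩, (hmem _).2 (by
      show ¬ 3 ∣ orderOf (c * (w : G) * c⁻¹)
      rw [orderOf_conj_eq]; exact (hmem w).1 hw), rfl⟩
  obtain ⟨hinv, hab⟩ := fpf_inverts D.tt (S := W) (hWconj t htu) (by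
    rintro _ ⟨w, hw, rfl⟩ hwt
    refine orderOf_eq_one_iff.1 ?_
    have hwU : (w : G) ∈ U := hOt w w.2 hwt
    obtain ⟨i, -, hi⟩ := (Nat.dvd_prime_pow Nat.prime_three).1
      (orderOf_dvd_of_pow_eq_one (show (w : G) ^ 3 ^ 1 = 1 by simpa using D.Ucube _ hwU))
    rcases i with _ | i
    · simpa using hi
    · exact absurd ⟨3 ^ i, by show orderOf (w : G) = _; rw [hi, pow_succ']⟩ ((hmem w).1 hw))
  refine ⟨W, (map_subtype_le N).trans hOX, ?_, ?_, hinv, hab, hWconj, ?_, hWmem⟩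
  · exact hOodd.of_dvd_nat (card_dvd_of_le (map_subtype_le N))
  · rwa [hW, card_map_of_injective O.subtype_injective]
  · intro c hc
    have hdec : ∀ o ∈ O, ∃ w ∈ W, ∃ v ∈ U, o = w * v := by
      intro o ho
      obtain ⟨⟨w, e⟩, h⟩ := hcompl.2 ⟨o, ho⟩
      exact ⟨_, ⟨w, w.2, rfl⟩, ((e : O) : G), hPU ▸ ⟨e, e.2, rfl⟩, (congrArg Subtype.val h).symm⟩
    rcases hOcases c hc with h | h
    · obtain ⟨w, hw, v, hv, h'⟩ := hdec c h
      exact ⟨w, hw, v, hv, Or.inl h'⟩
    · obtain ⟨w, hw, v, hv, h'⟩ := hdec _ h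
      exact ⟨w, hw, v, hv, Or.inr (by rw [← h', mul_assoc, D.tt, mul_one])⟩

/-- An involution centralising an element of order three inverts the elements of order prime to six
in the centraliser of that element. -/
theorem Frame.inverted_of_three {x e y : G} (hx : x ^ 3 = 1) (hx1 : x ≠ 1) (he : e * e = 1) (he1 : e ≠ 1)
    (hex : e * x = x * e) (hyx : y * x = x * y) (hyo : Odd (orderOf y)) (hy3 : ¬ 3 ∣ orderOf y) :
    e * y * e⁻¹ = y⁻¹ := by
  obtain ⟨g, hg⟩ := D.conj_invol he he1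
  set c : G →* G := (MulAut.conj g).toMonoidHom with hc
  have hce : c e = t := hg
  have hxK : c x ∈ K := by
    refine D.odd_mem ?_ ?_
    · rw [← hce, ← map_mul, ← map_mul, hex]
    · rw [show orderOf (c x) = orderOf x from orderOf_conj_eq g x]
      exact (by decide : Odd 3).of_dvd_nat (orderOf_dvd_of_pow_eq_one hx)
  obtain ⟨a, ha, hau⟩ := D.conj_U hxK (by rw [← map_pow, hx, map_one])
    (fun h => hx1 ((MulAut.conj g).injective (h.trans (map_one c).symm)))
  set d : G →* G := (MulAut.conj (a * g)).toMonoidHom with hd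
  have hde : d e = t := by
    show a * g * e * (a * g)⁻¹ = t
    rw [show a * g * e * (a * g)⁻¹ = a * (g * e * g⁻¹) * a⁻¹ by group, hg, ← D.comm a ha, mul_inv_cancel_right]
  have hdx : d x ∈ U := by
    show a * g * x * (a * g)⁻¹ ∈ U
    rw [show a * g * x * (a * g)⁻¹ = a * (g * x * g⁻¹) * a⁻¹ by group]
    exact hau
  have hdx1 : d x ≠ 1 := fun h => hx1 ((MulAut.conj (a * g)).injective (h.trans (map_one d).symm))
  obtain ⟨W, -, -, -, hinv, -, -, -, hWmem⟩ := D.exists_W hdx hdx1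
  have hy : d y ∈ W := hWmem _ (by rw [← map_mul, ← map_mul, hyx])
    (by rw [show orderOf (d y) = orderOf y from orderOf_conj_eq _ y]; exact hyo)
    (by rw [show orderOf (d y) = orderOf y from orderOf_conj_eq _ y]; exact hy3)
  refine (MulAut.conj (a * g)).injective ?_
  show d (e * y * e⁻¹) = d y⁻¹
  rw [map_mul, map_mul, map_inv, map_inv, hde, hinv _ hy]

end Cent

end Cfsg.Lib.ReeThree
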