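import Cfsg.Agent.ReeInvolveThree.Inverted
import Cfsg.Agent.Coprime.Generation

/-!
A group of Ree type without a section `S₃`: tools for the centraliser of an element of the torus.
-/

set_option autoImplicit false
set_option linter.style.haveILetI false
set_option linter.unusedSectionVars false

namespace Cfsg.Lib.ReeThree

open Subgroup

universe u

variable {G : Type u} [Group G]

theorem mem_normalizer_of_forall [Finite G] {X : Subgroup G} {g : G} (h : ∀ a ∈ X, g * a * g⁻¹ ∈ X) :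
    g ∈ normalizer (X : Set G) := by
  refine mem_normalizer_iff.2 fun e => ⟨h e, fun he => ?_⟩
  have hinj : Function.Injective (fun a : X => (⟨g * a * g⁻¹, h a a.2⟩ : X)) := fun a b h' =>
    Subtype.ext ((MulAut.conj g).injective (congrArg Subtype.val h'))
  obtain ⟨a, ha⟩ := (Finite.injective_iff_surjective.1 hinj) ⟨_, he⟩
  have : (a : G) = e := (MulAut.conj g).injective (congrArg Subtype.val ha)
  exact this ▸ a.2

/-- An element of odd order has a square root among its powers. -/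
theorem exists_root {x : G} (hx : Odd (orderOf x)) : ∃ w ∈ zpowers x, w * w = x := by
  obtain ⟨i, hi⟩ := mem_zpowers_iff.1 (mem_zpowers_sq hx)
  exact ⟨x ^ i, zpow_mem (mem_zpowers x) i, by rw [← (Commute.refl x).mul_zpow, hi]⟩

theorem odd_of_pgroup {p : ℕ} (hp : Odd p) {X : Subgroup G} (hX : IsPGroup p X) {a : G} (ha : a ∈ X) :
    Odd (orderOf a) := by
  obtain ⟨k, hk⟩ := hX ⟨a, ha⟩
  exact (Odd.pow hp).of_dvd_nat (orderOf_dvd_of_pow_eq_one (congrArg Subtype.val hk))

/-- A nontrivial element of a `p`-group has a power of order `p`. -/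
theorem exists_pow_order [Finite G] {p : ℕ} [hp : Fact p.Prime] {X : Subgroup G} (hX : IsPGroup p X) {a : G}
    (ha : a ∈ X) (ha1 : a ≠ 1) : ∃ n : ℕ, orderOf (a ^ n) = p := by
  obtain ⟨k, hk⟩ := hX ⟨a, ha⟩
  obtain ⟨i, -, hi⟩ := (Nat.dvd_prime_pow hp.out).1
    (orderOf_dvd_of_pow_eq_one (show a ^ p ^ k = 1 from congrArg Subtype.val hk))
  rcases i with _ | i
  · exact absurd (orderOf_eq_one_iff.1 (by rw [hi, pow_zero])) ha1
  refine ⟨p ^ i, ?_⟩
  rw [orderOf_pow_of_dvd (pow_ne_zero _ hp.out.ne_zero) (hi ▸ pow_dvd_pow p i.le_succ), hi, pow_succ,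
    Nat.mul_div_cancel_left _ (pow_pos hp.out.pos i)]

theorem zpowers_eq_of_order [Finite G] {h b : G} {p : ℕ} [hp : Fact p.Prime] (hh : orderOf h = p)
    (hb : b ∈ zpowers h) (hb1 : b ≠ 1) : zpowers b = zpowers h := by
  refine eq_of_le_of_card_ge (zpowers_le.2 hb) ?_
  rw [Nat.card_zpowers, Nat.card_zpowers, hh]
  have hd : orderOf b ∣ p := by
    have := Subgroup.card_dvd_of_le (zpowers_le.2 hb)
    rwa [Nat.card_zpowers, Nat.card_zpowers, hh] at this
  rcases (Nat.dvd_prime hp.out).1 hd with h1 | h1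
  · exact absurd (orderOf_eq_one_iff.1 h1) hb1
  · rw [h1]

theorem commute_of_mem_zpowers {a b c : G} (h : a ∈ zpowers b) (hc : c * b = b * c) : c * a = a * c := by
  obtain ⟨i, rfl⟩ := mem_zpowers_iff.1 h
  exact ((show Commute c b from hc).zpow_right i).eq

section Tools

variable [Finite G] {t s z : G} {K U H R : Subgroup G} {q m r : ℕ} (D : Frame t K q m r U H R s z)
include D

theorem Frame.H_comm {a b : G} (ha : a ∈ H) (hb : b ∈ H) : a * b = b * a :=
  haveI := D.Hcyc
  letI := IsCyclic.commGroup (α := H)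
  congrArg Subtype.val (mul_comm (⟨a, ha⟩ : H) ⟨b, hb⟩)

theorem Frame.t_fix_inv {e : G} (he : Odd (orderOf e)) (het : e * t = t * e) (hinv : t * e * t⁻¹ = e⁻¹) : e = 1 := by
  rw [← het, mul_inv_cancel_right] at hinv
  exact eq_one_of_odd_sq he (eq_inv_iff_mul_eq_one.1 hinv)

/-- The four-group `⟨t, s⟩`. -/
theorem Frame.exists_four : ∃ A : Subgroup G, t ∈ A ∧ s ∈ A ∧ IsPGroup 2 A ∧ IsMulCommutative A ∧ ¬ IsCyclic A ∧
    (∀ a ∈ A, a = 1 ∨ a = t ∨ a = s ∨ a = t * s) := by
  classical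
  have hts := D.comm s D.sK
  have hst : t ≠ s := fun h => D.tK (h ▸ D.sK)
  let A : Subgroup G :=
    { carrier := {e | e = 1 ∨ e = t ∨ e = s ∨ e = t * s}
      one_mem' := Or.inl rfl
      inv_mem' := by
        rintro e (rfl | rfl | rfl | rfl)
        · exact Or.inl inv_one
        · exact Or.inr (Or.inl D.tinv)
        · exact Or.inr (Or.inr (Or.inl (inv_eq_of_mul_eq_one_right D.ss)))
        · refine Or.inr (Or.inr (Or.inr ?_))
          rw [mul_inv_rev, inv_eq_of_mul_eq_one_right D.ss, D.tinv, hts]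
      mul_mem' := by
        rintro a b (ha | ha | ha | ha) (hb | hb | hb | hb) <;> rw [ha, hb]
        · exact Or.inl (one_mul _)
        · exact Or.inr (Or.inl (one_mul _))
        · exact Or.inr (Or.inr (Or.inl (one_mul _)))
        · exact Or.inr (Or.inr (Or.inr (one_mul _)))
        · exact Or.inr (Or.inl (mul_one _))
        · exact Or.inl D.tt
        · exact Or.inr (Or.inr (Or.inr rfl))
        · exact Or.inr (Or.inr (Or.inl (by rw [← mul_assoc, D.tt, one_mul])))
        · exact Or.inr (Or.inr (Or.inl (mul_one _)))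
        · exact Or.inr (Or.inr (Or.inr hts.symm))
        · exact Or.inl D.ss
        · exact Or.inr (Or.inl (by rw [hts, ← mul_assoc, D.ss, one_mul]))
        · exact Or.inr (Or.inr (Or.inr (mul_one _)))
        · exact Or.inr (Or.inr (Or.inl (by rw [mul_assoc, ← hts, ← mul_assoc, D.tt, one_mul])))
        · exact Or.inr (Or.inl (by rw [mul_assoc, D.ss, mul_one]))
        · exact Or.inl (by rw [show t * s * (t * s) = t * (s * t) * s by group, ← hts,
            show t * (t * s) * s = (t * t) * (s * s) by group, D.tt, D.ss, one_mul]) }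
  have hsq : ∀ a ∈ A, a * a = 1 := by
    rintro a (rfl | rfl | rfl | rfl)
    · exact one_mul 1
    · exact D.tt
    · exact D.ss
    · rw [show t * s * (t * s) = t * (s * t) * s by group, ← hts,
        show t * (t * s) * s = (t * t) * (s * s) by group, D.tt, D.ss, one_mul]
  have h2 : IsPGroup 2 A := fun a => ⟨1, Subtype.ext (by simpa [pow_two] using hsq a a.2)⟩
  refine ⟨A, Or.inr (Or.inl rfl), Or.inr (Or.inr (Or.inl rfl)), h2,
    ⟨⟨fun a b => Subtype.ext (D.two_comm h2 a.2 b.2)⟩⟩, fun hc => ?_, fun a ha => ha⟩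
  haveI := hc
  haveI := Fintype.ofFinite A
  have hsub : ({1, ⟨t, Or.inr (Or.inl rfl)⟩, ⟨s, Or.inr (Or.inr (Or.inl rfl))⟩} : Finset A) ⊆
      Finset.univ.filter fun w => w ^ 2 = 1 := fun w _ =>
    Finset.mem_filter.2 ⟨Finset.mem_univ _, Subtype.ext (by simpa [pow_two] using hsq w w.2)⟩
  have hcard : ({1, ⟨t, Or.inr (Or.inl rfl)⟩, ⟨s, Or.inr (Or.inr (Or.inl rfl))⟩} : Finset A).card = 3 :=
    Finset.card_eq_three.2 ⟨_, _, _, fun e => D.t1 (congrArg Subtype.val e).symm,
      fun e => D.s1 (congrArg Subtype.val e).symm, fun e => hst (congrArg Subtype.val e), rfl⟩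
  have := (Finset.card_le_card hsub).trans (IsCyclic.card_pow_eq_one_le (α := A) two_pos)
  omega

/-- An element of `3`-power order has order dividing three. -/
theorem Frame.three_elt {x : G} {k : ℕ} (hx : orderOf x = 3 ^ k) : x ^ 3 = 1 := by
  haveI : Fact (Nat.Prime 3) := ⟨Nat.prime_three⟩
  obtain ⟨P, hP⟩ := (IsPGroup.of_card (G := zpowers x) (p := 3) (n := k) (by rw [Nat.card_zpowers, hx])).exists_le_sylow
  obtain ⟨T, hT⟩ := (show IsPGroup 3 U from fun a => ⟨1, Subtype.ext (by simpa using D.Ucube a a.2)⟩).exists_le_sylow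
  obtain ⟨g, hg⟩ := MulAction.exists_smul_eq G T P
  have h := hP (mem_zpowers x)
  rw [← hg, Sylow.coe_subgroup_smul, mem_smul_pointwise_iff_exists, D.U_sylow T.2 hT] at h
  obtain ⟨u, hu, rfl⟩ := h
  show MulAut.conj g u ^ 3 = 1
  rw [← map_pow, D.Ucube u hu, map_one]

variable {h₀ : G} {p : ℕ} [hp : Fact p.Prime] (h0H : h₀ ∈ H) (h0p : orderOf h₀ = p)
include h0H h0p

theorem Frame.p_dvd_m : p ∣ m := h0p ▸ D.orderOf_H h0H

theorem Frame.h0_ne : h₀ ≠ 1 := fun h => hp.out.one_lt.ne (by rw [← h0p, h, orderOf_one])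

theorem Frame.p_odd : Odd p := D.odd_m.of_dvd_nat (D.p_dvd_m h0H h0p)

theorem Frame.p_ne : p ≠ 2 ∧ p ≠ 3 := by
  refine ⟨fun h => ?_, fun h => D.three_not_dvd_m (h ▸ D.p_dvd_m h0H h0p)⟩
  have := D.p_odd h0H h0p
  rw [h] at this
  exact absurd this (by decide)

theorem Frame.mem_hzero {b : G} (hb : b ∈ H) (hbp : b ^ p = 1) : b ∈ zpowers h₀ := by
  classical
  haveI := D.Hcyc
  haveI := Fintype.ofFinite H
  set F : Finset H := Finset.univ.filter fun w => w ^ p = 1 with hF
  have hle : F.card ≤ p := IsCyclic.card_pow_eq_one_le hp.out.pos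
  set Z : Finset H := Finset.univ.filter fun w => (w : G) ∈ zpowers h₀ with hZ
  have hZc : Z.card = p := by
    rw [← h0p, ← Nat.card_zpowers, ← Fintype.card_coe, ← Nat.card_eq_fintype_card]
    exact Nat.card_congr
      { toFun := fun w => ⟨(w : H), (Finset.mem_filter.1 w.2).2⟩
        invFun := fun w => ⟨⟨w, zpowers_le.2 h0H w.2⟩, Finset.mem_filter.2 ⟨Finset.mem_univ _, w.2⟩⟩
        left_inv := fun w => rfl
        right_inv := fun w => rfl }
  have hZF : Z = F := Finset.eq_of_subset_of_card_le (fun w hw => by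
    obtain ⟨i, hi⟩ := mem_zpowers_iff.1 (Finset.mem_filter.1 hw).2
    refine Finset.mem_filter.2 ⟨Finset.mem_univ _, Subtype.ext ?_⟩
    show (w : G) ^ p = 1
    rw [← hi, ← zpow_natCast, ← _root_.zpow_mul, mul_comm, _root_.zpow_mul, zpow_natCast, ← h0p, pow_orderOf_eq_one,
      one_zpow]) (hle.trans hZc.ge)
  have : (⟨b, hb⟩ : H) ∈ Z := hZF ▸ Finset.mem_filter.2 ⟨Finset.mem_univ _, Subtype.ext (by simpa using hbp)⟩
  exact (Finset.mem_filter.1 this).2

/-- An element of order `p` centralised by an involution is conjugate to a power of `h₀`. -/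
theorem Frame.conj_hzero {b i : G} (hb : b ^ p = 1) (hb1 : b ≠ 1) (hi : i * i = 1) (hi1 : i ≠ 1)
    (hbi : b * i = i * b) : ∃ g : G, g * i * g⁻¹ = t ∧ zpowers (g * b * g⁻¹) = zpowers h₀ := by
  obtain ⟨g, hg⟩ := D.conj_invol hi hi1
  have hd : orderOf b ∣ m := (orderOf_dvd_of_pow_eq_one hb).trans (D.p_dvd_m h0H h0p)
  have hbK : g * b * g⁻¹ ∈ K := by
    refine D.odd_mem ?_ ((orderOf_conj_eq g b).symm ▸ D.odd_m.of_dvd_nat hd)
    rw [← hg]
    calc g * b * g⁻¹ * (g * i * g⁻¹) = g * (b * i) * g⁻¹ := by group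
      _ = g * (i * b) * g⁻¹ := by rw [hbi]
      _ = g * i * g⁻¹ * (g * b * g⁻¹) := by group
  obtain ⟨a, ha, haH⟩ := D.conj_H hbK ((orderOf_conj_eq g b).symm ▸ hd) (fun h => hb1 (conj_eq_one_iff.1 h))
  refine ⟨a * g, ?_, ?_⟩
  · rw [show a * g * i * (a * g)⁻¹ = a * (g * i * g⁻¹) * a⁻¹ by group, hg, ← D.comm a ha, mul_inv_cancel_right]
  · refine zpowers_eq_of_order h0p ?_ (fun h => hb1 (conj_eq_one_iff.1 h))
    refine D.mem_hzero h0H h0p ?_ (by rw [conj_pow, hb, mul_one, mul_inv_cancel])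
    rw [show a * g * b * (a * g)⁻¹ = a * (g * b * g⁻¹) * a⁻¹ by group]
    exact haH

/-- Commuting elements of order `p` centralised by one involution generate the same group. -/
theorem Frame.inv_pair {b c i : G} (hb : b ^ p = 1) (hb1 : b ≠ 1) (hc : c ^ p = 1) (hi : i * i = 1) (hi1 : i ≠ 1)
    (hbi : b * i = i * b) (hci : c * i = i * c) (hbc : c * b = b * c) : c ∈ zpowers b := by
  obtain ⟨g, hg, hgb⟩ := D.conj_hzero h0H h0p hb hb1 hi hi1 hbi
  set d : G →* G := (MulAut.conj g).toMonoidHom with hd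
  have hdi : d i = t := hg
  have hdb : zpowers (d b) = zpowers h₀ := hgb
  have hcK : d c ∈ K := by
    refine D.odd_mem (by rw [← hdi, ← map_mul, ← map_mul, hci]) ?_
    rw [show orderOf (d c) = orderOf c from orderOf_conj_eq g c]
    exact (D.p_odd h0H h0p).of_dvd_nat (orderOf_dvd_of_pow_eq_one hc)
  have hch : d c * h₀ = h₀ * d c :=
    commute_of_mem_zpowers (hdb ▸ mem_zpowers h₀) (by rw [← map_mul, ← map_mul, hbc])
  have hcH := D.mem_hzero h0H h0p (D.Hcent h₀ h0H (D.h0_ne h0H h0p) _ hcK hch) (by rw [← map_pow, hc, map_one])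
  rw [← hdb] at hcH
  obtain ⟨n, hn⟩ := mem_zpowers_iff.1 hcH
  rw [← map_zpow] at hn
  exact mem_zpowers_iff.2 ⟨n, (MulAut.conj g).injective hn⟩

/-- A `p`-subgroup centralised by an involution is abelian. -/
theorem Frame.p_comm_invol {T : Subgroup G} (hT : IsPGroup p T) {i : G} (hi : i * i = 1) (hi1 : i ≠ 1)
    (hTi : ∀ a ∈ T, a * i = i * a) {a b : G} (ha : a ∈ T) (hb : b ∈ T) : a * b = b * a := by
  rcases eq_or_ne a 1 with rfl | ha1
  · rw [one_mul, mul_one]
  haveI : Nontrivial T := ⟨⟨a, ha⟩, 1, fun h => ha1 (congrArg Subtype.val h)⟩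
  haveI := hT.center_nontrivial
  obtain ⟨e, he, he1⟩ := (Subgroup.bot_or_exists_ne_one (center T)).resolve_left
    ((nontrivial_iff_ne_bot _).1 inferInstance)
  obtain ⟨n, hn⟩ := exists_pow_order hT e.2 (fun h => he1 (Subtype.ext h))
  have hen1 : (e : G) ^ n ≠ 1 := fun h => hp.out.one_lt.ne (by rw [← hn, h, orderOf_one])
  have heT : ∀ x ∈ T, x * (e : G) ^ n = (e : G) ^ n * x := fun x hx =>
    ((show Commute x (e : G) from congrArg Subtype.val (mem_center_iff.1 he ⟨x, hx⟩)).pow_right n).eq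
  obtain ⟨g, hg, hgb⟩ := D.conj_hzero h0H h0p (orderOf_dvd_iff_pow_eq_one.1 hn.dvd) hen1 hi hi1
    ((show Commute (e : G) i from hTi e e.2).pow_left n).eq
  set d : G →* G := (MulAut.conj g).toMonoidHom with hd
  have hdi : d i = t := hg
  have hde : zpowers (d ((e : G) ^ n)) = zpowers h₀ := hgb
  have key : ∀ x ∈ T, d x ∈ H := by
    intro x hx
    refine D.Hcent h₀ h0H (D.h0_ne h0H h0p) _ (D.odd_mem (by rw [← hdi, ← map_mul, ← map_mul, hTi x hx]) ?_)
      (commute_of_mem_zpowers (hde ▸ mem_zpowers h₀) (by rw [← map_mul, ← map_mul, heT x hx]))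
    rw [show orderOf (d x) = orderOf x from orderOf_conj_eq g x]
    exact odd_of_pgroup (D.p_odd h0H h0p) hT hx
  refine (MulAut.conj g).injective ?_
  show d (a * b) = d (b * a)
  rw [map_mul, map_mul]
  exact D.H_comm (key a ha) (key b hb)

end Tools

end Cfsg.Lib.ReeThree
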