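import Cfsg.Agent.Chars.Core
import Cfsg.Agent.Chars.Sums

/-!
Character-theoretic tools for groups of Ree type.
-/

set_option autoImplicit false
set_option linter.style.haveILetI false
set_option linter.unusedSectionVars false

namespace Cfsg.Lib.ReeThree

open Cfsg.Lib.Chars
open scoped ComplexConjugate

universe u v

/-- A finite cyclic group has a faithful linear character. -/
theorem exists_faithful_lin (A : Type u) [Group A] [Finite A] [IsCyclic A] :
    ∃ f : A →* ℂˣ, Function.Injective f := by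
  obtain ⟨a, ha⟩ := IsCyclic.exists_generator (α := A)
  have hn : Nat.card A ≠ 0 := Nat.card_pos.ne'
  have hord : orderOf a = Nat.card A := orderOf_eq_card_of_forall_mem_zpowers ha
  set ω : ℂˣ := Units.mk0 _ (Complex.exp_ne_zero (2 * Real.pi * Complex.I / (Nat.card A : ℂ))) with hω
  have hprim : IsPrimitiveRoot ω (Nat.card A) := by
    rw [← IsPrimitiveRoot.coe_units_iff]
    exact Complex.isPrimitiveRoot_exp _ hn
  have hωo : orderOf ω = Nat.card A := hprim.eq_orderOf.symm
  set f := monoidHomOfForallMemZpowers ha (g' := ω) (hωo.trans hord.symm).dvd with hf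
  refine ⟨f, (injective_iff_map_eq_one f).2 fun x hx => ?_⟩
  obtain ⟨i, rfl⟩ := Subgroup.mem_zpowers_iff.1 (ha x)
  rw [map_zpow, hf, monoidHomOfForallMemZpowers_apply_gen] at hx
  refine orderOf_dvd_iff_zpow_eq_one.1 ?_
  rw [hord, ← hωo]
  exact orderOf_dvd_iff_zpow_eq_one.2 hx

/-- A nontrivial linear character sums to zero. -/
theorem sum_lin_eq_zero {A : Type u} [Group A] [Fintype A] (f : A →* ℂˣ) (hf : f ≠ 1) :
    ∑ a, (f a : ℂ) = 0 := by
  refine sum_hom_units_eq_zero ((Units.coeHom ℂ).comp f) fun h => hf (MonoidHom.ext fun a => Units.ext ?_)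
  exact DFunLike.congr_fun h a

theorem sum_lin_one {A : Type u} [Group A] [Fintype A] :
    ∑ a : A, ((1 : A →* ℂˣ) a : ℂ) = (Nat.card A : ℂ) := by
  simp [Nat.card_eq_fintype_card]

theorem sum_lin_ne_one {A : Type u} [Group A] [Fintype A] [DecidableEq A] (f : A →* ℂˣ) (hf : f ≠ 1) :
    ∑ a ∈ Finset.univ.erase (1 : A), (f a : ℂ) = -1 := by
  have h := Finset.add_sum_erase Finset.univ (fun a => (f a : ℂ)) (Finset.mem_univ (1 : A))
  simp only [sum_lin_eq_zero f hf, map_one, Units.val_one] at h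
  linear_combination h

variable {G : Type u} [Group G] [Fintype G]

/-- Induced functions, when few conjugates meet the subgroup. -/
theorem indFun_eq_sum (N : Subgroup G) (ψ : N → ℂ) (x : G) {ι : Type v} [Fintype ι] (e : ι → G)
    (he : Function.Injective e) (hsupp : ∀ g : G, Cfsg.extendByZero N ψ (g⁻¹ * x * g) ≠ 0 → ∃ i, e i = g) :
    Cfsg.indFun N ψ x = (Nat.card N : ℂ)⁻¹ * ∑ i, Cfsg.extendByZero N ψ ((e i)⁻¹ * x * e i) := by
  classical
  rw [indFun_apply]
  congr 1
  rw [← Finset.sum_image (g := e) (f := fun g => Cfsg.extendByZero N ψ (g⁻¹ * x * g)) (s := Finset.univ)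
    he.injOn]
  refine (Finset.sum_subset (Finset.subset_univ _) fun g _ hg => ?_).symm
  by_contra h
  obtain ⟨i, hi⟩ := hsupp g h
  exact hg (Finset.mem_image.2 ⟨i, Finset.mem_univ _, hi⟩)

/-- An induced function vanishes at an element whose order does not divide an exponent. -/
theorem indFun_zero_of_pow (N : Subgroup G) (ψ : N → ℂ) (x : G) (n : ℕ) (hN : ∀ a ∈ N, a ^ n = 1)
    (hx : x ^ n ≠ 1) : Cfsg.indFun N ψ x = 0 := by
  refine indFun_eq_zero_of_forall N ψ x fun g hg => hx ?_
  have h := hN _ hg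
  calc x ^ n = g * (g⁻¹ * x * g⁻¹⁻¹) ^ n * g⁻¹ := by rw [conj_pow]; group
    _ = 1 := by rw [inv_inv, h]; group

theorem inner_decomp (a b : Cfsg.IrrCharacter G → ℤ) :
    Cfsg.classInner (∑ χ, (a χ : ℂ) • (χ : G → ℂ)) (∑ χ, (b χ : ℂ) • (χ : G → ℂ)) = ((∑ χ, a χ * b χ : ℤ) : ℂ) := by
  rw [classInner_sum_right, Int.cast_sum]
  refine Finset.sum_congr rfl fun χ _ => ?_
  rw [classInner_smul_right, classInner_irrSum (fun ψ => (a ψ : ℂ)) χ, map_intCast, Int.cast_mul,
    mul_comm]

theorem inner_decomp_irr (a : Cfsg.IrrCharacter G → ℤ) (χ : Cfsg.IrrCharacter G) :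
    Cfsg.classInner (∑ ψ, (a ψ : ℂ) • (ψ : G → ℂ)) χ = (a χ : ℂ) :=
  classInner_irrSum (fun ψ => (a ψ : ℂ)) χ

/-- Values of a combination of irreducible characters with small support. -/
theorem value_of_support {a : Cfsg.IrrCharacter G → ℤ} (s : Finset (Cfsg.IrrCharacter G))
    (h : ∀ χ ∉ s, a χ = 0) (x : G) :
    (∑ χ, (a χ : ℂ) • (χ : G → ℂ)) x = ∑ χ ∈ s, (a χ : ℂ) * (χ : G → ℂ) x := by
  rw [Finset.sum_apply]
  refine ((Finset.sum_subset (Finset.subset_univ s) fun χ _ hχ => ?_).symm).trans (by simp)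
  simp [h χ hχ]

/-- A family of vectors of norm two with pairwise product one shares a coordinate. -/
theorem star_of_family {ι : Type v} [Fintype ι] [DecidableEq ι] (a : Fin 6 → ι → ℤ)
    (hn : ∀ j, ∑ i, a j i * a j i = 2) (hp : ∀ j k, j ≠ k → ∑ i, a j i * a k i = 1) :
    ∃ (x : ι) (σ : ℤ) (Z : Fin 6 → ι) (τ : Fin 6 → ℤ), σ * σ = 1 ∧ (∀ j, τ j * τ j = 1) ∧
      Function.Injective Z ∧ (∀ j, Z j ≠ x) ∧ (∀ j, a j x = σ) ∧ (∀ j, a j (Z j) = τ j) ∧
      ∀ j i, i ≠ x → i ≠ Z j → a j i = 0 := by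
  have hpair : ∀ j, ∃ x y, x ≠ y ∧ a j x * a j x = 1 ∧ a j y * a j y = 1 ∧
      ∀ i, i ≠ x → i ≠ y → a j i = 0 := by
    intro j
    obtain ⟨x, -, hx⟩ := Finset.exists_ne_zero_of_sum_ne_zero
      (show ∑ i, a j i * a j i ≠ 0 by rw [hn j]; norm_num)
    have hs := Finset.add_sum_erase Finset.univ (fun i => a j i * a j i) (Finset.mem_univ x)
    rw [hn j] at hs
    have hsq : ∀ i, a j i ≠ 0 → a j i * a j i = 1 ∨ 4 ≤ a j i * a j i := by
      intro i hi
      rcases le_or_gt (|a j i|) 1 with h | h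
      · left
        have : |a j i| = 1 := le_antisymm h (Int.one_le_abs hi)
        rw [← abs_mul_abs_self, this, one_mul]
      · right
        rw [← abs_mul_abs_self]
        nlinarith
    have hx0 : a j x ≠ 0 := fun h => hx (by rw [h, mul_zero])
    have hnn : ∀ i ∈ Finset.univ.erase x, 0 ≤ a j i * a j i := fun i _ => mul_self_nonneg _
    have hx1 : a j x * a j x = 1 := (hsq x hx0).resolve_right fun h => by
      have := Finset.sum_nonneg hnn
      omega
    obtain ⟨y, hy, hy'⟩ := Finset.exists_ne_zero_of_sum_ne_zero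
      (show ∑ i ∈ Finset.univ.erase x, a j i * a j i ≠ 0 by omega)
    have hy0 : a j y ≠ 0 := fun h => hy' (by rw [h, mul_zero])
    have hs2 := Finset.add_sum_erase _ (fun i => a j i * a j i) hy
    have hnn2 : ∀ i ∈ (Finset.univ.erase x).erase y, 0 ≤ a j i * a j i := fun i _ => mul_self_nonneg _
    have hy1 : a j y * a j y = 1 := (hsq y hy0).resolve_right fun h => by
      have := Finset.sum_nonneg hnn2
      omega
    refine ⟨x, y, fun h => (Finset.mem_erase.1 hy).1 h.symm, hx1, hy1, fun i hix hiy => ?_⟩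
    have h0 : ∑ i ∈ (Finset.univ.erase x).erase y, a j i * a j i = 0 := by omega
    have := (Finset.sum_eq_zero_iff_of_nonneg hnn2).1 h0 i (by simp [hix, hiy])
    simpa using this
  choose x y hxy hx hy hrest using hpair
  have hprod : ∀ j k, j ≠ k → a j (x j) * a k (x j) + a j (y j) * a k (y j) = 1 := by
    intro j k hjk
    rw [← hp j k hjk, ← Finset.sum_pair (f := fun i => a j i * a k i) (hxy j)]
    refine Finset.sum_subset (Finset.subset_univ _) fun i _ hi => ?_
    simp only [Finset.mem_insert, Finset.mem_singleton, not_or] at hi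
    rw [hrest j i hi.1 hi.2, zero_mul]
  have hval : ∀ j i, a j i = 1 ∨ a j i = -1 ∨ a j i = 0 := by
    intro j i
    rcases eq_or_ne i (x j) with rfl | h1
    · rcases mul_self_eq_one_iff.1 (hx j) with h | h <;> simp [h]
    rcases eq_or_ne i (y j) with rfl | h2
    · rcases mul_self_eq_one_iff.1 (hy j) with h | h <;> simp [h]
    exact Or.inr (Or.inr (hrest j i h1 h2))
  have htype : ∀ j, j ≠ 0 → (a j (x 0) = a 0 (x 0) ∧ a j (y 0) = 0) ∨ (a j (y 0) = a 0 (y 0) ∧ a j (x 0) = 0) := by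
    intro j hj
    have h := hprod 0 j (Ne.symm hj)
    rcases mul_self_eq_one_iff.1 (hx 0) with h1 | h1 <;> rcases mul_self_eq_one_iff.1 (hy 0) with h2 | h2 <;>
      rcases hval j (x 0) with h3 | h3 | h3 <;> rcases hval j (y 0) with h4 | h4 | h4 <;>
      simp_all
  -- the second coordinate
  have hother : ∀ j i, a j i ≠ 0 → ∃ p, p ≠ i ∧ a j p * a j p = 1 ∧ ∀ e, e ≠ i → e ≠ p → a j e = 0 := by
    intro j i hi
    rcases eq_or_ne i (x j) with rfl | h1
    · exact ⟨y j, (hxy j).symm, hy j, hrest j⟩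
    rcases eq_or_ne i (y j) with rfl | h2
    · exact ⟨x j, hxy j, hx j, fun e he he' => hrest j e he' he⟩
    exact absurd (hrest j i h1 h2) hi
  have hne0 : a 0 (x 0) ≠ 0 ∧ a 0 (y 0) ≠ 0 :=
    ⟨fun h => by simpa [h] using hx 0, fun h => by simpa [h] using hy 0⟩
  have hmixed : ∀ j k, j ≠ 0 → k ≠ 0 → a j (x 0) = a 0 (x 0) → a j (y 0) = 0 →
      a k (y 0) = a 0 (y 0) → a k (x 0) = 0 → ∀ i, a j i = (if i = x 0 then a 0 (x 0) else if i = y 0 then 0 else a k i) := by
    intro j k hj hk hjx hjy hky hkx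
    obtain ⟨p, hp0, hp1, hprest⟩ := hother j (x 0) (hjx ▸ hne0.1)
    obtain ⟨p', hp0', hp1', hprest'⟩ := hother k (y 0) (hky ▸ hne0.2)
    have hpy : p ≠ y 0 := fun h => by rw [h, hjy] at hp1; simp at hp1
    have hpx' : p' ≠ x 0 := fun h => by rw [h, hkx] at hp1'; simp at hp1'
    have hjk : j ≠ k := fun h => by rw [h, hkx] at hjx; exact hne0.1 hjx.symm
    have h := hp j k hjk
    rw [Finset.sum_eq_single p (fun i _ hi => by
      rcases eq_or_ne i (x 0) with rfl | hix
      · rw [hkx, mul_zero]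
      · rw [hprest i hix hi, zero_mul]) (by simp)] at h
    have hpp : p = p' := by
      by_contra hne
      rw [hprest' p hpy hne, mul_zero] at h
      exact zero_ne_one h
    intro i
    split_ifs with hix hiy
    · rw [hix, hjx]
    · rw [hiy, hjy]
    · rcases eq_or_ne i p with rfl | hip
      · rcases hval j i with h3 | h3 | h3 <;> rcases hval k i with h4 | h4 | h4 <;> simp_all
      · rw [hprest i hix hip, hprest' i hiy (hpp ▸ hip)]
  -- one of the two types does not occur
  have hone : (∀ j, j ≠ 0 → a j (x 0) = a 0 (x 0) ∧ a j (y 0) = 0) ∨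
      (∀ j, j ≠ 0 → a j (y 0) = a 0 (y 0) ∧ a j (x 0) = 0) := by
    by_contra! hcon
    obtain ⟨⟨k, hk0, hk⟩, j, hj0, hj⟩ := hcon
    have hkt := (htype k hk0).resolve_left (fun h => hk h.1 h.2)
    have hjt := (htype j hj0).resolve_right (fun h => hj h.1 h.2)
    have hjk : ∀ l, l ≠ 0 → l = j ∨ l = k := by
      intro l hl
      by_contra! hl'
      rcases htype l hl with h | h
      · have e1 := hmixed l k hl hk0 h.1 h.2 hkt.1 hkt.2
        have e2 := hmixed j k hj0 hk0 hjt.1 hjt.2 hkt.1 hkt.2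
        have : a l = a j := funext fun i => (e1 i).trans (e2 i).symm
        have h2 := hp l j hl'.1
        rw [this, hn j] at h2
        norm_num at h2
      · have e1 := hmixed j l hj0 hl hjt.1 hjt.2 h.1 h.2
        have e2 := hmixed j k hj0 hk0 hjt.1 hjt.2 hkt.1 hkt.2
        have : a l = a k := funext fun i => by
          have := (e1 i).symm.trans (e2 i)
          rcases eq_or_ne i (x 0) with rfl | hix
          · rw [h.2, hkt.2]
          rcases eq_or_ne i (y 0) with rfl | hiy
          · rw [h.1, hkt.1]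
          rwa [if_neg hix, if_neg hiy, if_neg hix, if_neg hiy] at this
        have h2 := hp l k hl'.2
        rw [this, hn k] at h2
        norm_num at h2
    have : ({1, 2, 3} : Finset (Fin 6)) ⊆ {j, k} := by
      intro l hl
      simp only [Finset.mem_insert, Finset.mem_singleton] at hl ⊢
      exact hjk l (by rcases hl with rfl | rfl | rfl <;> decide)
    have := (Finset.card_le_card this).trans Finset.card_le_two
    simp at this
  obtain ⟨c, σ, hσ, hc0, hcall⟩ : ∃ c σ, σ * σ = 1 ∧ a 0 c = σ ∧ ∀ j, a j c = σ := by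
    rcases hone with h | h
    · exact ⟨x 0, a 0 (x 0), hx 0, rfl, fun j => by rcases eq_or_ne j 0 with rfl | hj; exacts [rfl, (h j hj).1]⟩
    · exact ⟨y 0, a 0 (y 0), hy 0, rfl, fun j => by rcases eq_or_ne j 0 with rfl | hj; exacts [rfl, (h j hj).1]⟩
  choose Z hZ0 hZ1 hZrest using fun j => hother j c (by rw [hcall j]; intro h; simp [h] at hσ)
  refine ⟨c, σ, Z, fun j => a j (Z j), hσ, hZ1, ?_, hZ0, hcall, fun j => rfl, hZrest⟩
  intro j k hjk
  by_contra hne
  have h := hp j k hne
  rw [← Finset.sum_subset (Finset.subset_univ ({c, Z j} : Finset ι)) (fun i _ hi => by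
    simp only [Finset.mem_insert, Finset.mem_singleton, not_or] at hi
    rw [hZrest j i hi.1 hi.2, zero_mul]), Finset.sum_pair (hZ0 j).symm, hcall j, hcall k, hσ] at h
  have h2 := hZ1 k
  rw [← hjk] at h2
  have h3 : a j (Z j) * a k (Z j) = 0 := by linarith
  rcases mul_eq_zero.1 h3 with h4 | h4
  · simpa [h4] using hZ1 j
  · simp [h4] at h2

end Cfsg.Lib.ReeThree
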