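import Mathlib

/-!
The arithmetic of the exceptional character of a group of Ree type without a section `S₃`.
-/

set_option autoImplicit false

namespace Cfsg.Lib.ReeThree

/-- The index of the centraliser of an involution is determined. -/
theorem index_eq {N : ℕ} {q m r : ℕ} {d T α J : ℤ} (hq : q = 3 ^ N) (hqm : q = 2 * m + 1) (hqr : q + 1 = 4 * r)
    (hN : 3 ≤ N) (hm : Odd m) (hr : Odd r) (hα : α = 0 ∨ α = 1) (hT : 2 * T = (q + 1 : ℤ) + α * ((q : ℤ) - 1))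
    (h8 : 8 ∣ d - T) (hd : d ∣ 8 * r * m * q * J) (hJ0 : 0 < J) (hJodd : Odd J) (hJ3 : ¬ 3 ∣ J)
    (hJm : (m : ℤ) ∣ J - 1)
    (heq : J * (d - T) ^ 2 = 16 * (q : ℤ) * r * (m : ℤ) ^ 2 * (d * (d + 1))) :
    J = ((q : ℤ) ^ 2 - 2) * ((q : ℤ) ^ 2 - q - 1) := by
  have hq3 : 3 ∣ q := hq ▸ dvd_pow_self 3 (by omega)
  have hqZ : (q : ℤ) = 2 * m + 1 := by exact_mod_cast hqm
  have hrZ : (q : ℤ) + 1 = 4 * r := by exact_mod_cast hqr
  have hq27 : 27 ≤ q := hq ▸ (show 27 = 3 ^ 3 by norm_num) ▸ Nat.pow_le_pow_right (by norm_num) hN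
  have hp3 : Prime (3 : ℤ) := Int.prime_three
  obtain ⟨w, hw⟩ := h8
  rcases hα with rfl | rfl
  · -- the even value is impossible
    exfalso
    have hT2 : T = 2 * r := by linarith
    have hd' : d = 2 * r + 8 * w := by linarith
    subst hT2 hd'
    have h : 2 * J * w ^ 2 = q * r * (m : ℤ) ^ 2 * ((r + 4 * w) * (2 * r + 8 * w + 1)) := by linarith
    have hodd : Odd ((q : ℤ) * r * (m : ℤ) ^ 2 * ((r + 4 * w) * (2 * r + 8 * w + 1))) := by
      have hqo : Odd (q : ℤ) := ⟨m, hqZ⟩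
      have hro : Odd (r : ℤ) := by exact_mod_cast hr
      have hmo : Odd (m : ℤ) := by exact_mod_cast hm
      refine ((hqo.mul hro).mul (hmo.pow)).mul (Odd.mul (hro.add_even ⟨2 * w, by ring⟩) ⟨r + 4 * w, by ring⟩)
    rw [← h] at hodd
    exact absurd hodd (Int.not_odd_iff_even.2 ⟨J * w ^ 2, by ring⟩)
  have hTq : T = q := by linarith
  subst hTq
  have hr1 : (r : ℤ) % 3 = 1 := by omega
  have hm1 : (m : ℤ) % 3 = 1 := by omega
  -- `q` divides `d`
  have hqd : ∀ i ≤ N, (3 : ℤ) ^ i ∣ d := by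
    intro i
    induction i with
    | zero => intro _; simp
    | succ i ih =>
      intro hi
      obtain ⟨x, rfl⟩ := ih (by omega)
      obtain ⟨M, hM⟩ : ∃ M, (q : ℤ) = 3 ^ i * (3 * 3 ^ M) := ⟨N - i - 1, by
        rw [← mul_assoc, ← pow_succ, ← pow_add, hq]; push_cast; congr 1; omega⟩
      rw [hM] at heq
      have h3i : (3 : ℤ) ^ i ≠ 0 := pow_ne_zero _ (by norm_num)
      have h1 : (3 : ℤ) ∣ J * (x - 3 * 3 ^ M) ^ 2 := by
        refine ⟨3 ^ M * 16 * r * (m : ℤ) ^ 2 * (x * (3 ^ i * x + 1)), ?_⟩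
        refine mul_left_cancel₀ (mul_ne_zero h3i h3i) ?_
        linear_combination heq
      have h2 := (hp3.dvd_or_dvd h1).resolve_left hJ3
      obtain ⟨y, hy⟩ := hp3.dvd_of_dvd_pow h2
      exact ⟨y + 3 ^ M, by rw [show x = 3 * y + 3 * 3 ^ M by linarith]; ring⟩
  obtain ⟨A, rfl⟩ : (q : ℤ) ∣ d := by
    have := hqd N le_rfl
    rwa [show (q : ℤ) = 3 ^ N by rw [hq]; push_cast; rfl]
  have hq0 : (q : ℤ) ≠ 0 := by omega
  -- `A` is prime to three
  have hA3 : ¬ 3 ∣ A := by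
    intro h
    have h1 : A ∣ 8 * r * m * J := by
      refine (mul_dvd_mul_iff_left hq0).1 ?_
      rw [show (q : ℤ) * (8 * r * m * J) = 8 * r * m * q * J by ring]
      exact hd
    rcases hp3.dvd_or_dvd (h.trans h1) with h2 | h2
    · rcases hp3.dvd_or_dvd h2 with h3 | h3
      · rcases hp3.dvd_or_dvd h3 with h4 | h4
        · norm_num at h4
        · omega
      · omega
    · exact hJ3 h2
  have heq2 : J * (A - 1) ^ 2 = 16 * r * (m : ℤ) ^ 2 * (A * (q * A + 1)) := by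
    refine mul_left_cancel₀ (pow_ne_zero 2 hq0) ?_
    linear_combination heq
  -- residues modulo three
  have hA2 : A % 3 = 2 ∧ J % 3 = 2 := by
    obtain ⟨q', hq'⟩ : (3 : ℤ) ∣ q := by exact_mod_cast hq3
    obtain ⟨r', hr'⟩ : ∃ r', (r : ℤ) = 3 * r' + 1 := ⟨(r : ℤ) / 3, by omega⟩
    obtain ⟨m', hm'⟩ : ∃ m', (m : ℤ) = 3 * m' + 1 := ⟨(m : ℤ) / 3, by omega⟩
    have h3 : (3 : ℤ) ∣ J * (A - 1) ^ 2 - A := by
      rw [heq2, hq', hr', hm']
      exact ⟨16 * (r' * (3 * m' + 1) ^ 2 + 3 * m' ^ 2 + 2 * m') * (A * (3 * q' * A + 1)) + 16 * q' * A ^ 2 + 5 * A, by ring⟩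
    have hA : A % 3 = 2 := by
      by_contra hcon
      have : A % 3 = 1 := by omega
      obtain ⟨a, ha⟩ : ∃ a, A = 3 * a + 1 := ⟨A / 3, by omega⟩
      rw [ha] at h3
      obtain ⟨c, hc⟩ := h3
      have : (3 : ℤ) * (c - 3 * J * a ^ 2 + a) = -1 := by linear_combination -hc
      omega
    refine ⟨hA, ?_⟩
    obtain ⟨a, ha⟩ : ∃ a, A = 3 * a + 2 := ⟨A / 3, by omega⟩
    rw [ha] at h3
    obtain ⟨c, hc⟩ := h3
    have : J = 3 * (c - 3 * J * a ^ 2 - 2 * J * a + a) + 2 := by linear_combination hc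
    omega
  -- `A = 1 + 8 m e`
  obtain ⟨k, hk⟩ : ∃ k, (m : ℤ) + 1 = 2 * k := by
    obtain ⟨c, hc⟩ := hm
    exact ⟨c + 1, by subst hc; push_cast; ring⟩
  obtain ⟨v, hA8⟩ : ∃ v, A - 1 = 8 * v := ⟨q * w - m * k * (A - 1), by
    linear_combination (q : ℤ) * hw - (A - 1) * ((q : ℤ) + 1 + 2 * m) * hqZ - 4 * (m : ℤ) * (A - 1) * hk⟩
  have hmodd : Odd (m : ℤ) := by exact_mod_cast hm
  have hcopJ : IsCoprime (J * 4) ((m : ℤ) ^ 2) := by
    refine (IsCoprime.mul_left ?_ ?_).pow_right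
    · obtain ⟨c, hc⟩ := hJm
      exact ⟨1, -c, by linear_combination hc⟩
    · obtain ⟨c, hc⟩ := hmodd
      refine ⟨-((c : ℤ) * c + c), (m : ℤ), ?_⟩
      rw [hc]; ring
  have hmv : (m : ℤ) ∣ v := by
    have h : J * 4 * v ^ 2 = (m : ℤ) ^ 2 * (r * (A * (q * A + 1))) := by
      rw [show A - 1 = 8 * v from hA8] at heq2
      linarith [heq2]
    exact (Int.pow_dvd_pow_iff two_ne_zero).1 (hcopJ.symm.dvd_of_dvd_mul_left ⟨_, h⟩)
  obtain ⟨e, hve⟩ := hmv
  have hAe : A = 1 + 8 * m * e := by rw [hve] at hA8; linarith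
  have hm0 : (m : ℤ) ≠ 0 := by omega
  have heq3 : J * e ^ 2 = r * A * (r + 2 * q * m * e) := by
    refine mul_left_cancel₀ (mul_ne_zero (show (64 : ℤ) ≠ 0 by norm_num) (pow_ne_zero 2 hm0)) ?_
    subst hAe
    linear_combination heq2 + 16 * (r : ℤ) * (m : ℤ) ^ 2 * (1 + 8 * m * e) * hrZ
  have he0 : e ≠ 0 := by
    intro h
    subst h
    rw [hAe] at heq3
    simp only [mul_zero, add_zero, mul_one, zero_pow, ne_eq, OfNat.ofNat_ne_zero, not_false_eq_true] at heq3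
    have : (r : ℤ) ≠ 0 := by omega
    exact mul_ne_zero this this heq3.symm
  -- the common divisor
  obtain ⟨g, e', r', hg, hcop, hge, hgr⟩ : ∃ g e' r' : ℤ, 0 < g ∧ IsCoprime e' r' ∧ e = g * e' ∧ (r : ℤ) = g * r' := by
    have hpos : 0 < Int.gcd e r := Int.gcd_pos_of_ne_zero_left _ he0
    obtain ⟨e', r', hc, h1, h2⟩ := Int.exists_gcd_one hpos
    exact ⟨Int.gcd e r, e', r', by exact_mod_cast hpos, Int.isCoprime_iff_gcd_eq_one.2 hc,
      by rw [mul_comm]; exact h1, by rw [mul_comm]; exact h2⟩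
  have heq4 : J * e' ^ 2 = r' * A * (r' + 2 * q * m * e') := by
    refine mul_left_cancel₀ (pow_ne_zero 2 hg.ne') ?_
    rw [hge, hgr] at heq3
    linear_combination heq3
  have hunit : IsUnit e' := by
    have h1 : IsCoprime e' A := ⟨-8 * (m : ℤ) * g, 1, by rw [hAe, hge]; ring⟩
    have h2 : IsCoprime e' (r' + 2 * q * m * e') := hcop.add_mul_right_right (2 * q * m)
    have h3 : IsCoprime e' (r' * A * (r' + 2 * q * m * e')) := (hcop.mul_right h1).mul_right h2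
    exact h3.isUnit_of_dvd' dvd_rfl ⟨J * e', by rw [← heq4]; ring⟩
  have hr'pos : 0 < r' := by
    by_contra hcon
    have := mul_nonpos_of_nonneg_of_nonpos hg.le (not_lt.1 hcon)
    omega
  -- `r' = 1`
  have h2r : 2 * (g * r') = (m : ℤ) + 1 := by rw [← hgr]; linarith
  have hsq : (m : ℤ) ∣ r' ^ 2 - 1 := by
    obtain ⟨c, hc⟩ := hJm
    rcases Int.isUnit_iff.1 hunit with h | h <;> subst h <;> rw [hAe, hge] at heq4
    · exact ⟨c - 8 * g * r' * (r' + 2 * q * m) - 2 * r' * q, by linear_combination hc - heq4⟩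
    · exact ⟨c + 8 * g * r' * (r' - 2 * q * m) + 2 * r' * q, by linear_combination hc - heq4⟩
  have hdiv : (m : ℤ) ∣ r' - 2 * g := by
    obtain ⟨c, hc⟩ := hsq
    exact ⟨2 * g * c - r', by linear_combination 2 * g * hc - r' * h2r⟩
  have hr'1 : r' = 1 := by
    obtain ⟨c, hc⟩ := hdiv
    have hr'le : 2 * r' ≤ (m : ℤ) + 1 := by nlinarith
    have hgle : 2 * g ≤ (m : ℤ) + 1 := by nlinarith
    have hro : Odd r' := by
      have : Odd (r : ℤ) := by exact_mod_cast hr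
      rw [hgr] at this
      exact (Int.odd_mul.1 this).2
    have hc1 : c = -1 := by
      have hm13 : (13 : ℤ) ≤ m := by omega
      have hlo : -2 < c := by
        by_contra hcon
        nlinarith
      have hhi : c < 1 := by
        by_contra hcon
        nlinarith
      have hne : c ≠ 0 := fun h => by
        subst h
        obtain ⟨k, hk⟩ := hro
        omega
      omega
    subst hc1
    nlinarith
  subst hr'1
  rw [mul_one] at h2r hgr
  rcases Int.isUnit_iff.1 hunit with h | h <;> subst h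
  · exfalso
    rw [hge, ← hgr] at hAe
    obtain ⟨r', hr'⟩ : ∃ r', (r : ℤ) = 3 * r' + 1 := ⟨(r : ℤ) / 3, by omega⟩
    obtain ⟨m', hm'⟩ : ∃ m', (m : ℤ) = 3 * m' + 1 := ⟨(m : ℤ) / 3, by omega⟩
    have : A = 3 * (24 * m' * r' + 8 * m' + 8 * r' + 3) := by rw [hAe, hr', hm']; ring
    omega
  · have hA' : A = 2 - (q : ℤ) ^ 2 := by
      rw [hAe, hge, ← hgr]
      linear_combination ((q : ℤ) - 1) * hrZ + 4 * (r : ℤ) * hqZ
    rw [hA'] at heq4
    linear_combination heq4 + (2 - (q : ℤ) ^ 2) * (q : ℤ) * hqZ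

end Cfsg.Lib.ReeThree
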