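import Cfsg.Agent.ReeInvolveThree.CharRelations
import Cfsg.Agent.ReeInvolveThree.Arith

/-!
A group of Ree type has a section isomorphic to the symmetric group of degree three.
-/

set_option autoImplicit false
set_option linter.style.haveILetI false
set_option linter.unusedSectionVars false

namespace Cfsg.Lib.ReeThree

open Subgroup

universe u v

/-- The order of a group acting freely divides the number of points. -/
theorem card_dvd_of_free {A : Type u} [Group A] [Finite A] {X : Type v} [Finite X] [MulAction A X]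
    (h : ∀ (a : A) (x : X), a • x = x → a = 1) : Nat.card A ∣ Nat.card X := by
  classical
  haveI := Fintype.ofFinite (Quotient (MulAction.orbitRel A X))
  rw [Nat.card_congr (MulAction.selfEquivSigmaOrbits A X), Nat.card_sigma]
  refine Finset.dvd_sum fun o _ => ?_
  have hst : MulAction.stabilizer A (Quotient.out o : X) = ⊥ :=
    eq_bot_iff.2 fun a ha => mem_bot.2 (h a _ ha)
  rw [Nat.card_congr (MulAction.orbitEquivQuotientStabilizer A (Quotient.out o : X)), ← Subgroup.index_eq_card, hst,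
    index_bot]

/-- A divisor of the three factors which is `1` modulo `q - 1` is trivial. -/
theorem divisor_small {q r w : ℕ} (hq : 27 ≤ q) (hr : q + 1 = 4 * r) (hw : (q - 1) ∣ w - 1) (hw1 : 1 < w)
    (h : w ∣ r ∨ (w : ℤ) ∣ (q : ℤ) ^ 2 - q - 1 ∨ (w : ℤ) ∣ (q : ℤ) ^ 2 - 2) : False := by
  obtain ⟨k, hk⟩ := hw
  have hk0 : 0 < k := by
    rcases Nat.eq_zero_or_pos k with h0 | h0
    · subst h0; omega
    · exact h0
  have hwk : (w : ℤ) = k * ((q : ℤ) - 1) + 1 := by
    have : w = (q - 1) * k + 1 := by omega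
    rw [this]; push_cast [Nat.cast_sub (show 1 ≤ q by omega)]; ring
  have hwq : q ≤ w := by
    have : q - 1 ≤ (q - 1) * k := Nat.le_mul_of_pos_right _ hk0
    omega
  have key : ∀ a : ℤ, a = (q : ℤ) ∨ a = (q : ℤ) + 1 → ∀ c : ℤ,
      ((q : ℤ) - 1) * a - 1 = (w : ℤ) * c → False := by
    intro a ha c hc
    rw [hwk] at hc
    obtain ⟨l, hl⟩ : ∃ l, c = l * ((q : ℤ) - 1) - 1 := ⟨a - k * c, by linear_combination -hc⟩
    subst hl
    have h1 : (k : ℤ) * l * ((q : ℤ) - 1) + l - k = a := by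
      refine mul_left_cancel₀ (show ((q : ℤ) - 1) ≠ 0 by omega) ?_
      linear_combination -hc
    have hk1 : (1 : ℤ) ≤ k := by exact_mod_cast hk0
    have hq' : (27 : ℤ) ≤ q := by exact_mod_cast hq
    have hl1 : 1 ≤ l := by
      by_contra hcon
      have hl0 : l ≤ 0 := by omega
      have : (k : ℤ) * l * ((q : ℤ) - 1) ≤ 0 :=
        mul_nonpos_of_nonpos_of_nonneg (mul_nonpos_of_nonneg_of_nonpos (by omega) hl0) (by omega)
      rcases ha with rfl | rfl <;> omega
    rcases eq_or_lt_of_le (show (1 : ℤ) ≤ k * l from one_le_mul_of_one_le_of_one_le hk1 hl1) with hn | hn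
    · rcases Int.eq_one_or_neg_one_of_mul_eq_one' hn.symm with ⟨hk', hl'⟩ | ⟨hk', -⟩
      · rw [hk', hl'] at h1
        rcases ha with rfl | rfl <;> omega
      · omega
    · have hle : (k : ℤ) ≤ k * l := le_mul_of_one_le_right (by omega) hl1
      rcases ha with rfl | rfl <;> nlinarith
  rcases h with h | ⟨c, hc⟩ | ⟨c, hc⟩
  · have := Nat.le_of_dvd (by omega) h
    omega
  · exact key q (Or.inl rfl) c (by linear_combination hc)
  · exact key ((q : ℤ) + 1) (Or.inr rfl) c (by linear_combination hc)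

/-- A group of Ree type has a section `S₃`. -/
theorem involves_three {G : Type u} [Group G] [Finite G] (hR : Cfsg.IsReeType G) :
    Cfsg.Involves (Equiv.Perm (Fin 3)) G := by
  classical
  by_contra hfree
  haveI := Fintype.ofFinite G
  haveI : Fact (Nat.Prime 3) := ⟨Nat.prime_three⟩
  obtain ⟨t, K, q, m, r, U, H, R, s, z, D⟩ := exists_frame hR hfree
  obtain ⟨N₀, hN₀⟩ := D.nums.pow
  obtain ⟨d, T, α, hα, hT, h8, -, hdvd, heq⟩ := D.exists_exceptional
  set J := (centralizer ({t} : Set G)).index with hJ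
  have hJodd : Odd J := D.oddIndex
  have hGcard : Nat.card G = 8 * r * m * q * J := by
    rw [← D.card_cent, hJ, card_mul_index]
  have hoddrm : Odd (r * m) := D.odd_r.mul D.odd_m
  have hUC : U ≤ centralizer ({t} : Set G) := fun u hu => D.K_le (D.UK hu)
  have hJ3 : ¬ 3 ∣ J := by
    obtain ⟨P, hP⟩ := (show IsPGroup 3 U from fun a => ⟨1, Subtype.ext (by simpa using D.Ucube a a.2)⟩).exists_le_sylow
    have hPU := D.U_sylow P.2 hP
    intro h
    apply P.not_dvd_index
    rw [hPU, ← relIndex_mul_index hUC]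
    exact h.mul_left _
  haveI := D.Hcyc
  -- `H` acts freely on the involutions other than `t`
  have hJm : (m : ℤ) ∣ (J : ℤ) - 1 := by
    let X : Set G := {i | i * i = 1 ∧ i ≠ 1 ∧ i ≠ t}
    have hinv : ∀ (a : H) (i : X), (a : G) * i * (a : G)⁻¹ ∈ X := by
      rintro a ⟨i, hii, hi1, hit⟩
      refine ⟨?_, fun h => hi1 (conj_eq_one_iff.1 h), fun h => hit ?_⟩
      · rw [show (a : G) * i * (a : G)⁻¹ * ((a : G) * i * (a : G)⁻¹) = (a : G) * (i * i) * (a : G)⁻¹ by group, hii]
        group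
      · calc i = (a : G)⁻¹ * ((a : G) * i * (a : G)⁻¹) * a := by group
          _ = (a : G)⁻¹ * (t * a) := by rw [h]; group
          _ = t := by rw [D.comm a (D.HK a.2), inv_mul_cancel_left]
    letI : MulAction H X :=
      { smul := fun a i => ⟨(a : G) * i * (a : G)⁻¹, hinv a i⟩
        one_smul := fun i => Subtype.ext (show ((1 : H) : G) * i * ((1 : H) : G)⁻¹ = i by simp)
        mul_smul := fun a b i => Subtype.ext (show ((a * b : H) : G) * i * ((a * b : H) : G)⁻¹ =
          (a : G) * ((b : G) * i * (b : G)⁻¹) * (a : G)⁻¹ by rw [Subgroup.coe_mul]; group) }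
    haveI : Finite X := Subtype.finite
    have hdvd' : m ∣ Nat.card X := by
      rw [← D.cardH]
      refine card_dvd_of_free fun a i hai => by_contra fun ha => ?_
      have h1 : (a : G) * i * (a : G)⁻¹ = i := congrArg Subtype.val hai
      obtain ⟨b, hb, hb'⟩ := D.cent_H a.2 (fun e => ha (Subtype.ext e)) (mul_inv_eq_iff_eq_mul.1 h1).symm
      obtain ⟨hii, hi1, hit⟩ := i.2
      rcases hb' with hb' | hb'
      · rw [hb'] at hii hi1
        exact hi1 (eq_one_of_odd_sq (D.odd_H hb) hii)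
      · rw [hb', show t * b * (t * b) = t * (b * t) * b by group, ← D.comm b (D.HK hb),
          show t * (t * b) * b = (t * t) * (b * b) by group, D.tt, one_mul] at hii
        rw [hb', eq_one_of_odd_sq (D.odd_H hb) hii, mul_one] at hit
        exact hit rfl
    have hcard : Nat.card X + 1 = J := by
      rw [hJ, ← Cfsg.Lib.Chars.card_isConj]
      have hset : {x : G | IsConj t x} = insert t X := by
        ext i
        constructor
        · intro hi
          obtain ⟨c, hc⟩ := isConj_iff.1 hi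
          rcases eq_or_ne i t with h | h
          · exact Or.inl h
          · refine Or.inr ⟨?_, fun h1 => D.t1 (conj_eq_one_iff.1 (hc.trans h1)), h⟩
            rw [← hc, show c * t * c⁻¹ * (c * t * c⁻¹) = c * (t * t) * c⁻¹ by group, D.tt]; group
        · rintro (rfl | ⟨hii, hi1, -⟩)
          · exact IsConj.refl _
          · obtain ⟨c, hc⟩ := D.conj_invol hii hi1
            exact (isConj_iff.2 ⟨c, hc⟩).symm
      show Nat.card X + 1 = Nat.card ({x : G | IsConj t x} : Set G)
      rw [hset, Nat.card_coe_set_eq, Nat.card_coe_set_eq, Set.ncard_insert_of_notMem (fun h => h.2.2 rfl)]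
    obtain ⟨c, hc⟩ := hdvd'
    exact ⟨c, by rw [← hcard, hc]; push_cast; ring⟩
  have hJeq : (J : ℤ) = ((q : ℤ) ^ 2 - 2) * ((q : ℤ) ^ 2 - q - 1) := by
    refine index_eq hN₀ D.nums.qm D.nums.qr (by omega) D.odd_m D.odd_r hα hT h8 ?_ ?_ ?_ ?_ hJm heq
    · rw [hGcard] at hdvd; push_cast at hdvd; exact hdvd
    · have := hJodd.pos; exact_mod_cast this
    · exact_mod_cast hJodd
    · exact fun h => hJ3 (by exact_mod_cast h)
  -- the `{2,3}'`-part of the centraliser of `U`
  obtain ⟨u₀, hu₀, hu₀1⟩ := D.exists_U_ne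
  obtain ⟨W, hWc, hWodd, hW3, hWinv, hWab, -, hWdec, hWmem⟩ := D.exists_W hu₀ hu₀1
  set W₀ : Subgroup G := W ⊓ centralizer (U : Set G) with hW₀
  haveI : IsMulCommutative W₀ := ⟨⟨fun a b => Subtype.ext (hWab a (mem_inf.1 a.2).1 b (mem_inf.1 b.2).1)⟩⟩
  have hoddW : ∀ c ∈ W, Odd (orderOf c) ∧ ¬ 3 ∣ orderOf c := fun c hc => by
    have h := orderOf_mk c hc ▸ orderOf_dvd_natCard (⟨c, hc⟩ : W)
    exact ⟨hWodd.of_dvd_nat h, fun h3 => hW3 (h3.trans h)⟩
  have hHW : ∀ a ∈ H, ∀ c ∈ W₀, a * c * a⁻¹ ∈ W₀ := by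
    intro a ha c hc
    obtain ⟨hcW, hcU⟩ := mem_inf.1 hc
    have hcen : ∀ v ∈ U, v * (a * c * a⁻¹) = a * c * a⁻¹ * v := by
      intro v hv
      have hv' : a⁻¹ * v * a ∈ U := by
        have := D.HU a⁻¹ (inv_mem ha) v hv
        rwa [inv_inv] at this
      calc v * (a * c * a⁻¹) = a * ((a⁻¹ * v * a) * c) * a⁻¹ := by group
        _ = a * (c * (a⁻¹ * v * a)) * a⁻¹ := by rw [mem_centralizer_iff.1 hcU _ hv']
        _ = a * c * a⁻¹ * v := by group
    refine mem_inf.2 ⟨hWmem _ (hcen u₀ hu₀).symm ?_ ?_, mem_centralizer_iff.2 hcen⟩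
    · rw [orderOf_conj_eq]; exact (hoddW c hcW).1
    · rw [orderOf_conj_eq]; exact (hoddW c hcW).2
  have hsemi : ∀ a ∈ H, a ≠ 1 → ∀ c ∈ W₀, a * c * a⁻¹ = c → c = 1 := by
    intro a ha ha1 c hc hac
    have hcW := (mem_inf.1 hc).1
    obtain ⟨b, hb, hb'⟩ := D.cent_H ha ha1 (mul_inv_eq_iff_eq_mul.1 hac).symm
    have hct : c * t = t * c := by
      rcases hb' with rfl | rfl
      · exact (D.comm _ (D.HK hb)).symm
      · rw [mul_assoc, ← D.comm b (D.HK hb)]
    exact D.t_fix_inv (hoddW c hcW).1 hct (hWinv c hcW)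
  set w := Nat.card W₀ with hw
  -- fixed involutions
  have hwJ : w ≡ J [MOD 3] := by
    let X : Type u := {x : G // IsConj t x}
    letI : MulAction U X :=
      { smul := fun a i => ⟨(a : G) * (i : G) * (a : G)⁻¹, i.2.trans (isConj_iff.2 ⟨a, rfl⟩)⟩
        one_smul := fun i => Subtype.ext (show ((1 : U) : G) * i * ((1 : U) : G)⁻¹ = i by simp)
        mul_smul := fun a b i => Subtype.ext (show ((a * b : U) : G) * i * ((a * b : U) : G)⁻¹ =
          (a : G) * ((b : G) * i * (b : G)⁻¹) * (a : G)⁻¹ by rw [Subgroup.coe_mul]; group) }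
    haveI : Finite X := Subtype.finite
    have hU3 : IsPGroup 3 U := fun a => ⟨1, Subtype.ext (by simpa using D.Ucube a a.2)⟩
    have hmod := hU3.card_modEq_card_fixedPoints X
    rw [show Nat.card X = J from Cfsg.Lib.Chars.card_isConj t] at hmod
    refine (hmod.trans ?_).symm
    let f : W₀ → MulAction.fixedPoints U X := fun c => ⟨⟨(c : G) * t, by
      have hinv := hWinv c (mem_inf.1 c.2).1
      have hsq : (c : G) * t * ((c : G) * t) = 1 := by
        rw [show (c : G) * t * ((c : G) * t) = (c : G) * (t * c * t⁻¹) * (t * t) by group, hinv, D.tt, mul_one,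
          mul_inv_cancel]
      have hne : (c : G) * t ≠ 1 := fun h => D.t1 (eq_one_of_odd_sq (x := t) (by
        rw [show t = ((c : G))⁻¹ by exact eq_inv_of_mul_eq_one_right h, orderOf_inv]
        exact (hoddW _ (mem_inf.1 c.2).1).1) D.tt)
      obtain ⟨g, hg⟩ := D.conj_invol hsq hne
      exact (isConj_iff.2 ⟨g, hg⟩).symm⟩, fun v => Subtype.ext (by
      show (v : G) * ((c : G) * t) * (v : G)⁻¹ = (c : G) * t
      rw [show (v : G) * ((c : G) * t) = (c : G) * t * v by
        rw [← mul_assoc, mem_centralizer_iff.1 (mem_inf.1 c.2).2 v v.2, mul_assoc, D.U_comm_t v.2, ← mul_assoc],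
        mul_inv_cancel_right])⟩
    have hf : Function.Bijective f := by
      refine ⟨fun a b h => ?_, ?_⟩
      · exact Subtype.ext (mul_right_cancel (congrArg (fun i : MulAction.fixedPoints U X => ((i : X) : G)) h))
      · rintro ⟨⟨i, hi⟩, hfix⟩
        have hiU : ∀ v ∈ U, v * i = i * v := fun v hv =>
          mul_inv_eq_iff_eq_mul.1 (congrArg Subtype.val (hfix ⟨v, hv⟩))
        obtain ⟨g, hg⟩ := isConj_iff.1 hi
        have hii : i * i = 1 := by
          rw [← hg, show g * t * g⁻¹ * (g * t * g⁻¹) = g * (t * t) * g⁻¹ by group, D.tt]; group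
        have hi1 : i ≠ 1 := fun h => D.t1 (conj_eq_one_iff.1 (hg.trans h))
        obtain ⟨c, hc, v, hv, h⟩ := hWdec i (hiU u₀ hu₀).symm
        have hvc : Commute c v → True := fun _ => trivial
        rcases h with h | h
        · exfalso
          refine hi1 (eq_one_of_odd_sq ?_ hii)
          have hcu : Commute c u₀ := mem_centralizer_singleton_iff.1 (hWc hc)
          have hiu : Commute i v := (hiU v hv).symm
          have hcv : Commute c v := by
            have h1 : c = i * v⁻¹ := by rw [h, mul_inv_cancel_right]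
            rw [h1]
            exact hiu.mul_left (Commute.refl v).inv_left
          rw [h]
          exact ((hoddW c hc).1.mul (D.odd_U hv)).of_dvd_nat (hcv.orderOf_mul_dvd_mul_orderOf)
        · have hcw : ∀ x ∈ U, x * c = c * x := fun x hx => by
            have h1 : c = i * t * v⁻¹ := by rw [h, mul_assoc _ t t, D.tt, mul_one, mul_inv_cancel_right]
            rw [h1]
            exact (((show Commute x i from hiU x hx).mul_right (D.U_comm_t hx)).mul_right
              (show Commute x v⁻¹ from (show Commute x v from D.Ucomm x hx v hv).inv_right)).eq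
          have hv1 : v = 1 := by
            refine eq_one_of_odd_sq (D.odd_U hv) ?_
            have h2 : i * i = v * v := by
              rw [h, show c * v * t * (c * v * t) = c * (v * t) * (c * v) * t by group, D.U_comm_t hv,
                show c * (t * v) * (c * v) * t = c * t * (v * c) * (v * t) by group, hcw v hv, D.U_comm_t hv,
                show c * t * (c * v) * (t * v) = c * (t * c * t⁻¹) * (t * (v * t)) * v by group, hWinv c hc,
                mul_inv_cancel, one_mul, D.U_comm_t hv, ← mul_assoc t t v, D.tt, one_mul]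
            rw [← h2, hii]
          subst hv1
          refine ⟨⟨c, mem_inf.2 ⟨hc, mem_centralizer_iff.2 hcw⟩⟩, Subtype.ext (Subtype.ext ?_)⟩
          show c * t = i
          rw [h, mul_one]
    rw [← Nat.card_congr (Equiv.ofBijective f hf)]
  have hw2 : w % 3 = 2 := by
    have hJ2 : (J : ℤ) % 3 = 2 := by
      obtain ⟨q', hq'⟩ : ∃ q' : ℤ, (q : ℤ) = 3 * q' := ⟨3 ^ (2 * N₀ + 2), by rw [hN₀]; push_cast; ring⟩
      rw [hJeq, hq']
      have : ((3 * q') ^ 2 - 2) * ((3 * q') ^ 2 - 3 * q' - 1) =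
        3 * (27 * q' ^ 4 - 9 * q' ^ 3 - 9 * q' ^ 2 + 2 * q') + 2 := by ring
      omega
    have := hwJ
    unfold Nat.ModEq at this
    omega
  -- a prime part
  obtain ⟨p, hp, hpw⟩ := Nat.exists_prime_and_dvd (show w ≠ 1 by omega)
  haveI := Fact.mk hp
  obtain ⟨P⟩ : Nonempty (Sylow p W₀) := inferInstance
  set pk := Nat.card (P : Subgroup W₀) with hpk
  have hp1 : p ∣ pk := by
    have h := P.pow_dvd_card_of_pow_dvd_card (n := 1) (by rw [pow_one]; exact hpw)
    rwa [pow_one] at h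
  have hpk1 : 1 < pk := lt_of_lt_of_le hp.one_lt (Nat.le_of_dvd Nat.card_pos hp1)
  haveI hPn : (P : Subgroup W₀).Normal := ⟨fun a ha b => by rwa [mul_comm' b a, mul_inv_cancel_right]⟩
  haveI := Sylow.unique_of_normal P hPn
  have hpmem : ∀ c : W₀, (∃ k, c ^ p ^ k = 1) → c ∈ (P : Subgroup W₀) := by
    rintro c ⟨k, hk⟩
    obtain ⟨P', hP'⟩ := (show IsPGroup p (zpowers c) from fun b => ⟨k, by
      obtain ⟨i, hi⟩ := mem_zpowers_iff.1 b.2
      refine Subtype.ext ?_
      rw [SubgroupClass.coe_pow, ← hi, ← zpow_natCast, ← _root_.zpow_mul, mul_comm, _root_.zpow_mul, zpow_natCast,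
        hk, one_zpow]
      rfl⟩).exists_le_sylow
    exact Subsingleton.elim P' P ▸ hP' (mem_zpowers c)
  have hmdvd : m ∣ pk - 1 := by
    let S : Set (P : Subgroup W₀) := {c | c ≠ 1}
    have hmapP : ∀ (a : H) (c : (P : Subgroup W₀)), (⟨(a : G) * ((c : W₀) : G) * (a : G)⁻¹,
        hHW a a.2 _ (c : W₀).2⟩ : W₀) ∈ (P : Subgroup W₀) := fun a c => by
      obtain ⟨k, hk⟩ := P.2 c
      refine hpmem _ ⟨k, Subtype.ext ?_⟩
      have hk' : ((c : W₀) : G) ^ p ^ k = 1 := congrArg (fun e : (P : Subgroup W₀) => ((e : W₀) : G)) hk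
      show ((a : G) * ((c : W₀) : G) * (a : G)⁻¹) ^ p ^ k = 1
      rw [conj_pow, hk', mul_one, mul_inv_cancel]
    letI : MulAction H S :=
      { smul := fun a c => ⟨⟨_, hmapP a c.1⟩, fun h => c.2 (Subtype.ext (Subtype.ext
          (conj_eq_one_iff.1 (congrArg (fun e : (P : Subgroup W₀) => ((e : W₀) : G)) h))))⟩
        one_smul := fun c => Subtype.ext (Subtype.ext (Subtype.ext
          (show ((1 : H) : G) * ((c.1 : W₀) : G) * ((1 : H) : G)⁻¹ = ((c.1 : W₀) : G) by simp)))
        mul_smul := fun a b c => Subtype.ext (Subtype.ext (Subtype.ext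
          (show ((a * b : H) : G) * ((c.1 : W₀) : G) * ((a * b : H) : G)⁻¹ =
            (a : G) * ((b : G) * ((c.1 : W₀) : G) * (b : G)⁻¹) * (a : G)⁻¹ by rw [Subgroup.coe_mul]; group))) }
    haveI : Finite S := Subtype.finite
    have hfree' : m ∣ Nat.card S := by
      rw [← D.cardH]
      refine card_dvd_of_free fun a c hac => by_contra fun ha => c.2 (Subtype.ext (Subtype.ext ?_))
      have h1 : (a : G) * ((c.1 : W₀) : G) * (a : G)⁻¹ = ((c.1 : W₀) : G) :=
        congrArg (fun e : S => ((e.1 : W₀) : G)) hac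
      exact hsemi a a.2 (fun e => ha (Subtype.ext e)) _ (c.1 : W₀).2 h1
    have hS : Nat.card S = pk - 1 := by
      rw [Nat.card_coe_set_eq, show S = {(1 : (P : Subgroup W₀))}ᶜ from rfl, Set.ncard_compl, Set.ncard_singleton]
    rwa [hS] at hfree'
  have hpkW : pk ∣ Nat.card W := (card_subgroup_dvd_card _).trans (card_dvd_of_le inf_le_left)
  have hpkodd : Odd pk := hWodd.of_dvd_nat hpkW
  have hq1 : (q - 1) ∣ pk - 1 := by
    have h2 : 2 ∣ pk - 1 := by obtain ⟨c, hc⟩ := hpkodd; omega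
    have := Nat.Coprime.mul_dvd_of_dvd_of_dvd D.odd_m.coprime_two_left h2 hmdvd
    rwa [show q - 1 = 2 * m by have := D.nums.qm; omega]
  obtain ⟨k, hk⟩ := P.2.exists_card_eq
  have hk0 : k ≠ 0 := fun h => by rw [h, pow_zero] at hk; omega
  have hpk' : p ∣ pk := hp1
  -- it divides `r J`
  have hGdvd : pk ∣ r * J := by
    have hcG : pk ∣ 8 * r * m * q * J := hGcard ▸ (hpkW.trans (card_subgroup_dvd_card _))
    have hcm : pk.Coprime m := by
      obtain ⟨c, hc⟩ := hmdvd
      have hpk_eq : pk = 1 + m * c := by omega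
      rw [hpk_eq, Nat.coprime_add_mul_left_left]
      exact Nat.coprime_one_left m
    have hc8 : pk.Coprime 8 := by
      rw [show (8 : ℕ) = 2 ^ 3 by norm_num]; exact hpkodd.coprime_two_right.pow_right 3
    have hcq : pk.Coprime q := by
      rw [hN₀]
      exact ((Nat.prime_three.coprime_iff_not_dvd.2 fun h => hW3 (h.trans hpkW)).symm).pow_right _
    rw [show 8 * r * m * q * J = (8 * m * q) * (r * J) by ring] at hcG
    exact ((hc8.mul_right hcm).mul_right hcq).dvd_of_dvd_mul_left hcG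
  have hJ1 : (0 : ℤ) < (q : ℤ) ^ 2 - q - 1 := by have := D.q27; nlinarith
  have hJ2 : (0 : ℤ) < (q : ℤ) ^ 2 - 2 := by have := D.q27; nlinarith
  have hpp : Prime (p : ℤ) := Nat.prime_iff_prime_int.1 hp
  have hpkZ : (pk : ℤ) = (p : ℤ) ^ k := by rw [hpk, hk]; push_cast; rfl
  have hdiv : (p : ℤ) ^ k ∣ (r : ℤ) * (((q : ℤ) ^ 2 - 2) * ((q : ℤ) ^ 2 - q - 1)) := by
    rw [← hJeq, ← hpkZ]; exact_mod_cast hGdvd
  have hp3 : (p : ℤ) ≠ 1 := by exact_mod_cast hp.ne_one
  refine divisor_small D.q27 D.nums.qr hq1 hpk1 ?_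
  by_cases hpr : (p : ℤ) ∣ (r : ℤ)
  · -- then `p` divides neither factor of the index
    left
    obtain ⟨r', hr'⟩ := hpr
    have hqr' : (q : ℤ) = 4 * (p * r') - 1 := by
      have := D.nums.qr
      rw [← hr']; omega
    have h1 : ¬ (p : ℤ) ∣ (q : ℤ) ^ 2 - 2 := fun h => hpp.not_dvd_one (by
      have : (p : ℤ) ∣ ((q : ℤ) ^ 2 - 2) + 1 := ⟨4 * r' * ((q : ℤ) - 1), by rw [hqr']; ring⟩
      simpa using dvd_sub this h)
    have h2 : ¬ (p : ℤ) ∣ (q : ℤ) ^ 2 - q - 1 := fun h => hpp.not_dvd_one (by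
      have : (p : ℤ) ∣ ((q : ℤ) ^ 2 - q - 1) - 1 := ⟨4 * r' * ((q : ℤ) - 2), by rw [hqr']; ring⟩
      simpa using dvd_sub h this)
    have := (hpp.pow_dvd_of_dvd_mul_right k (fun h => (hpp.dvd_or_dvd h).elim h1 h2) hdiv)
    rw [← hpkZ] at this
    exact_mod_cast this
  · right
    have h := hpp.pow_dvd_of_dvd_mul_left k hpr hdiv
    by_cases hp2 : (p : ℤ) ∣ (q : ℤ) ^ 2 - 2
    · right
      rw [hpkZ]
      refine hpp.pow_dvd_of_dvd_mul_right k (fun hd => hpp.not_dvd_one ?_) h
      -- the two factors are coprime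
      have hqq : (p : ℤ) ∣ ((q : ℤ) ^ 2 - 2) - ((q : ℤ) ^ 2 - q - 1) := dvd_sub hp2 hd
      have : (p : ℤ) ∣ ((q : ℤ) ^ 2 - q - 1) + 1 := by
        obtain ⟨c, hc⟩ := hqq
        exact ⟨c * q, by linear_combination (q : ℤ) * hc⟩
      simpa using dvd_sub this hd
    · left
      rw [hpkZ]
      exact hpp.pow_dvd_of_dvd_mul_left k hp2 h

end Cfsg.Lib.ReeThree
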