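import Cfsg.Agent.ReeInvolveThree.Torus
import Cfsg.Agent.ReeInvolveThree.CharTools

/-!
A group of Ree type without a section `S₃`: functions induced from the subgroups `⟨t⟩ × A`, `A ≤ K`.
-/

set_option autoImplicit false
set_option linter.style.haveILetI false
set_option linter.unusedSectionVars false

namespace Cfsg.Lib.ReeThree

open Cfsg.Lib.Chars
open Subgroup
open scoped ComplexConjugate

universe u v

variable {G : Type u} [Group G]

/-- The subgroup `⟨t⟩ × A`. -/
abbrev tExt (t : G) (A : Subgroup G) : Subgroup G := zpowers t ⊔ A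

theorem mem_tExt_left {t : G} {A : Subgroup G} {a : G} (ha : a ∈ A) : a ∈ tExt t A := mem_sup_right ha

theorem mem_tExt_right {t : G} {A : Subgroup G} {a : G} (ha : a ∈ A) : t * a ∈ tExt t A :=
  mul_mem (mem_sup_left (mem_zpowers t)) (mem_sup_right ha)

variable {t s z : G} {K U H R : Subgroup G} {q m r : ℕ} [Fintype G] (D : Frame t K q m r U H R s z)
include D

theorem Frame.mem_tExt {A : Subgroup G} (hA : A ≤ K) {x : G} (hx : x ∈ tExt t A) :
    ∃ a ∈ A, x = a ∨ x = t * a := by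
  let N : Subgroup G :=
    { carrier := {x | ∃ a ∈ A, x = a ∨ x = t * a}
      one_mem' := ⟨1, one_mem A, Or.inl rfl⟩
      inv_mem' := by
        rintro x ⟨a, ha, rfl | rfl⟩
        · exact ⟨x⁻¹, inv_mem ha, Or.inl rfl⟩
        · refine ⟨a⁻¹, inv_mem ha, Or.inr ?_⟩
          rw [_root_.mul_inv_rev, D.tinv, D.comm _ (inv_mem (hA ha))]
      mul_mem' := by
        rintro x y ⟨a, ha, hx⟩ ⟨b, hb, hy⟩
        refine ⟨a * b, mul_mem ha hb, ?_⟩
        rcases hx with rfl | rfl <;> rcases hy with rfl | rfl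
        · exact Or.inl rfl
        · right; rw [← mul_assoc, ← D.comm _ (hA ha), mul_assoc]
        · right; rw [mul_assoc]
        · left
          rw [show t * a * (t * b) = t * (a * t) * b by group, ← D.comm a (hA ha),
            show t * (t * a) * b = (t * t) * (a * b) by group, D.tt, one_mul] }
  have hle : tExt t A ≤ N := sup_le (zpowers_le.2 ⟨1, one_mem A, Or.inr (mul_one t).symm⟩)
    fun a ha => ⟨a, ha, Or.inl rfl⟩
  exact hle hx

/-- The coordinates on `⟨t⟩ × A`. -/
theorem Frame.tExt_bij {A : Subgroup G} (hA : A ≤ K) :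
    Function.Bijective (fun x : Bool × A =>
      (⟨(if x.1 then t else 1) * x.2, by
        rcases x with ⟨b, a⟩
        cases b
        · simpa using mem_tExt_left (t := t) a.2
        · exact mem_tExt_right a.2⟩ : tExt t A)) := by
  constructor
  · rintro ⟨b, a⟩ ⟨b', a'⟩ h
    have h' : (if b then t else 1) * (a : G) = (if b' then t else 1) * a' := congrArg Subtype.val h
    cases b <;> cases b' <;> simp only [Bool.false_eq_true, if_false, if_true, one_mul] at h'
    · exact Prod.ext rfl (Subtype.ext h')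
    · exact absurd (by rw [eq_mul_inv_of_mul_eq h'.symm]; exact mul_mem (hA a.2) (inv_mem (hA a'.2))) D.tK
    · exact absurd (by rw [eq_mul_inv_of_mul_eq h']; exact mul_mem (hA a'.2) (inv_mem (hA a.2))) D.tK
    · exact Prod.ext rfl (Subtype.ext (mul_left_cancel h'))
  · rintro ⟨x, hx⟩
    obtain ⟨a, ha, rfl | rfl⟩ := D.mem_tExt hA hx
    · exact ⟨(false, ⟨x, ha⟩), Subtype.ext (by simp)⟩
    · exact ⟨(true, ⟨a, ha⟩), Subtype.ext rfl⟩

theorem Frame.card_tExt {A : Subgroup G} (hA : A ≤ K) : Nat.card (tExt t A) = 2 * Nat.card A := by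
  rw [← Nat.card_congr (Equiv.ofBijective _ (D.tExt_bij hA)), Nat.card_prod, Nat.card_eq_fintype_card,
    Fintype.card_bool]

/-- Inner products with a function induced from `⟨t⟩ × A`. -/
theorem Frame.ind_inner {A : Subgroup G} [Fintype A] (hA : A ≤ K) (ψ : tExt t A → ℂ) {χ : G → ℂ}
    (hχ : Cfsg.IsClassFunction G χ) :
    Cfsg.classInner (Cfsg.indFun (tExt t A) ψ) χ = ((2 * Nat.card A : ℕ) : ℂ)⁻¹ *
      ∑ a : A, (Cfsg.extendByZero (tExt t A) ψ a * conj (χ a) +
        Cfsg.extendByZero (tExt t A) ψ (t * a) * conj (χ (t * a))) := by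
  classical
  rw [frobenius_reciprocity (tExt t A) ψ hχ, classInner_def, D.card_tExt hA]
  congr 1
  rw [← Equiv.sum_comp (Equiv.ofBijective _ (D.tExt_bij hA)), Fintype.sum_prod_type, Fintype.sum_bool,
    add_comm, ← Finset.sum_add_distrib]
  refine Finset.sum_congr rfl fun a _ => ?_
  rw [extendByZero_mem ψ (mem_tExt_left a.2), extendByZero_mem ψ (mem_tExt_right a.2)]
  congr 1
  · congr 1
    · exact congrArg ψ (Subtype.ext (by simp))
    · simp

/-- A linear character of `A` extends to `⟨t⟩ × A` with a prescribed sign at `t`. -/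
theorem Frame.exists_lin {A : Subgroup G} (hA : A ≤ K) (f : A →* ℂˣ) {e : ℂˣ} (he : e * e = 1) :
    ∃ ψ : tExt t A → ℂ, Cfsg.IsCharacter (tExt t A) ψ ∧
      ∀ a : A, Cfsg.extendByZero (tExt t A) ψ a = (f a : ℂ) ∧
        Cfsg.extendByZero (tExt t A) ψ (t * a) = (e : ℂ) * (f a : ℂ) := by
  classical
  set E := Equiv.ofBijective _ (D.tExt_bij hA) with hE
  let F : tExt t A → ℂˣ := fun x => (if (E.symm x).1 then e else 1) * f (E.symm x).2
  have hFl : ∀ a : A, F ⟨a, mem_tExt_left a.2⟩ = f a := fun a => by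
    have : E.symm ⟨a, mem_tExt_left a.2⟩ = (false, a) := E.symm_apply_eq.2 (Subtype.ext (by simp [hE]))
    simp [F, this]
  have hFr : ∀ a : A, F ⟨t * a, mem_tExt_right a.2⟩ = e * f a := fun a => by
    have : E.symm ⟨t * a, mem_tExt_right a.2⟩ = (true, a) := E.symm_apply_eq.2 (Subtype.ext rfl)
    simp [F, this]
  have hmul : ∀ x y, F (x * y) = F x * F y := by
    rintro ⟨x, hx⟩ ⟨y, hy⟩
    obtain ⟨a, ha, rfl | rfl⟩ := D.mem_tExt hA hx <;> obtain ⟨b, hb, rfl | rfl⟩ := D.mem_tExt hA hy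
    · rw [show (⟨x, hx⟩ * ⟨y, hy⟩ : tExt t A) = ⟨((⟨x, ha⟩ * ⟨y, hb⟩ : A) : G),
        mem_tExt_left (SetLike.coe_mem _)⟩ from rfl, hFl, map_mul, hFl ⟨x, ha⟩, hFl ⟨y, hb⟩]
    · rw [show (⟨x, hx⟩ * ⟨t * b, hy⟩ : tExt t A) = ⟨t * ((⟨x, ha⟩ * ⟨b, hb⟩ : A) : G),
        mem_tExt_right (SetLike.coe_mem _)⟩ from Subtype.ext (by
          show x * (t * b) = t * (x * b)
          rw [← mul_assoc, ← D.comm x (hA ha), mul_assoc]), hFr, map_mul, hFl ⟨x, ha⟩, hFr ⟨b, hb⟩]
      exact mul_left_comm _ _ _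
    · rw [show (⟨t * a, hx⟩ * ⟨y, hy⟩ : tExt t A) = ⟨t * ((⟨a, ha⟩ * ⟨y, hb⟩ : A) : G),
        mem_tExt_right (SetLike.coe_mem _)⟩ from Subtype.ext (by
          show t * a * y = t * (a * y)
          rw [mul_assoc]), hFr, map_mul, hFr ⟨a, ha⟩, hFl ⟨y, hb⟩]
      exact (mul_assoc _ _ _).symm
    · rw [show (⟨t * a, hx⟩ * ⟨t * b, hy⟩ : tExt t A) = ⟨((⟨a, ha⟩ * ⟨b, hb⟩ : A) : G),
        mem_tExt_left (SetLike.coe_mem _)⟩ from Subtype.ext (by
          show t * a * (t * b) = a * b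
          rw [show t * a * (t * b) = t * (a * t) * b by group, ← D.comm a (hA ha),
            show t * (t * a) * b = (t * t) * (a * b) by group, D.tt, one_mul]), hFl, map_mul,
        hFr ⟨a, ha⟩, hFr ⟨b, hb⟩, mul_mul_mul_comm, he, one_mul]
  let hom : tExt t A →* ℂˣ :=
    { toFun := F
      map_one' := by
        have h := hmul 1 1
        rw [one_mul] at h
        exact left_eq_mul.1 h
      map_mul' := hmul }
  refine ⟨fun x => (hom x : ℂ), isCharacter_linear hom, fun a => ⟨?_, ?_⟩⟩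
  · rw [extendByZero_mem _ (mem_tExt_left a.2)]
    exact congrArg Units.val (hFl a)
  · rw [extendByZero_mem _ (mem_tExt_right a.2)]
    exact (congrArg Units.val (hFr a)).trans (Units.val_mul _ _)

/-- An element of `C(t)` with trivial power data. -/
theorem Frame.conj_t_mem {A : Subgroup G} (hA : A ≤ K) (hAo : Odd (Nat.card A)) {a g : G} (ha : a ∈ K)
    (hao : Odd (orderOf a)) (h : g⁻¹ * (t * a) * g ∈ tExt t A) : g * t = t * g ∧ g⁻¹ * a * g ∈ A := by
  have hodd : ∀ b ∈ A, Odd (orderOf b) := fun b hb =>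
    hAo.of_dvd_nat (orderOf_mk b hb ▸ orderOf_dvd_natCard (⟨b, hb⟩ : A))
  have hto : (t * a) ^ orderOf a = t := by
    rw [(show Commute t a from D.comm a ha).mul_pow, pow_orderOf_eq_one, mul_one]
    obtain ⟨j, hj⟩ := hao
    rw [hj, pow_succ, pow_mul, pow_two, D.tt, one_pow, one_mul]
  have hconj : g⁻¹ * t * g = (g⁻¹ * (t * a) * g) ^ orderOf a := by
    conv_lhs => rw [← hto]
    have := (conj_pow (i := orderOf a) (b := t * a) (a := g⁻¹)).symm
    rwa [inv_inv] at this
  have hinv : g⁻¹ * t * g * (g⁻¹ * t * g) = 1 := by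
    rw [show g⁻¹ * t * g * (g⁻¹ * t * g) = g⁻¹ * (t * t) * g by group, D.tt]; group
  obtain ⟨b, hb, hy | hy⟩ := D.mem_tExt hA h
  · exfalso
    rw [hy] at hconj
    rw [hconj] at hinv
    have h1 := eq_one_of_odd_sq (hodd _ (pow_mem hb _)) hinv
    rw [← hconj] at h1
    refine D.t1 ?_
    calc t = g * (g⁻¹ * t * g) * g⁻¹ := by group
      _ = 1 := by rw [h1]; group
  · rw [hy, (show Commute t b from D.comm b (hA hb)).mul_pow] at hconj
    obtain ⟨j, hj⟩ := id hao
    have ht : t ^ orderOf a = t := by rw [hj, pow_succ, pow_mul, pow_two, D.tt, one_pow, one_mul]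
    rw [ht] at hconj
    rw [hconj] at hinv
    have hb1 : b ^ orderOf a = 1 := by
      refine eq_one_of_odd_sq (hodd _ (pow_mem hb _)) ?_
      rw [show t * b ^ orderOf a * (t * b ^ orderOf a) = t * (b ^ orderOf a * t) * b ^ orderOf a by group,
        ← D.comm _ (hA (pow_mem hb _)), show t * (t * b ^ orderOf a) * b ^ orderOf a =
          (t * t) * (b ^ orderOf a * b ^ orderOf a) by group, D.tt, one_mul] at hinv
      exact hinv
    rw [hb1, mul_one] at hconj
    have hgt : g * t = t * g := by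
      calc g * t = g * (g⁻¹ * t * g) := by rw [hconj]
        _ = t * g := by group
    refine ⟨hgt, ?_⟩
    rw [show g⁻¹ * (t * a) * g = (g⁻¹ * t * g) * (g⁻¹ * a * g) by group, hconj] at hy
    rw [mul_left_cancel hy]
    exact hb

/-- Values at the elements whose conjugates in `⟨t⟩ × A` come from `C(t)`. -/
theorem Frame.ind_value {A : Subgroup G} (hA : A ≤ K) (ψ : tExt t A → ℂ) (x : G) {ι : Type v} [Fintype ι]
    (e : ι → G) (heK : ∀ i, e i ∈ K) (he : Function.Injective e) (htx : t * x = x * t)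
    (hcover : ∀ g : G, g⁻¹ * x * g ∈ tExt t A → ∃ k, (g = k ∨ g = t * k) ∧ ∃ i, e i = k) :
    Cfsg.indFun (tExt t A) ψ x =
      (Nat.card A : ℂ)⁻¹ * ∑ i, Cfsg.extendByZero (tExt t A) ψ ((e i)⁻¹ * x * e i) := by
  classical
  set e' : Bool × ι → G := fun w => (if w.1 then t else 1) * e w.2 with he'
  have hinj : Function.Injective e' := by
    rintro ⟨b, i⟩ ⟨b', i'⟩ h
    simp only [he'] at h
    cases b <;> cases b' <;> simp only [Bool.false_eq_true, if_false, if_true, one_mul] at h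
    · exact Prod.ext rfl (he h)
    · exact absurd (by rw [eq_mul_inv_of_mul_eq h.symm]; exact mul_mem (heK i) (inv_mem (heK i'))) D.tK
    · exact absurd (by rw [eq_mul_inv_of_mul_eq h]; exact mul_mem (heK i') (inv_mem (heK i))) D.tK
    · exact Prod.ext rfl (he (mul_left_cancel h))
  rw [indFun_eq_sum _ ψ x e' hinj fun g hg => by
    have hmem : g⁻¹ * x * g ∈ tExt t A := by
      by_contra h
      exact hg (extendByZero_not_mem _ h)
    obtain ⟨k, hk, i, rfl⟩ := hcover g hmem
    rcases hk with rfl | rfl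
    · exact ⟨(false, i), by simp [he']⟩
    · exact ⟨(true, i), rfl⟩]
  rw [Fintype.sum_prod_type, Fintype.sum_bool, D.card_tExt hA]
  have hsame : ∀ i, Cfsg.extendByZero (tExt t A) ψ ((e' (true, i))⁻¹ * x * e' (true, i)) =
      Cfsg.extendByZero (tExt t A) ψ ((e' (false, i))⁻¹ * x * e' (false, i)) := by
    intro i
    congr 1
    show (t * e i)⁻¹ * x * (t * e i) = ((1 : G) * e i)⁻¹ * x * ((1 : G) * e i)
    rw [show (t * e i)⁻¹ * x * (t * e i) = (e i)⁻¹ * (t⁻¹ * (x * t)) * e i by group, ← htx]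
    group
  rw [Finset.sum_congr rfl fun i _ => hsame i]
  have hA0 : (Nat.card A : ℂ) ≠ 0 := by exact_mod_cast Nat.card_pos.ne'
  have hrw : ∀ i, e' (false, i) = e i := fun i => by simp [he']
  simp only [hrw]
  push_cast
  field_simp
  ring

end Cfsg.Lib.ReeThree
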