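import Cfsg.Agent.ReeInvolveThree.Torus

/-!
A group of Ree type without a section `S₃`: the pairs of involutions with product a given torus element.
-/

set_option autoImplicit false
set_option linter.style.haveILetI false
set_option linter.unusedSectionVars false

namespace Cfsg.Lib.ReeThree

open Subgroup

universe u

variable {G : Type u} [Group G] [Finite G]
variable {t s z : G} {K U H R : Subgroup G} {q m r : ℕ} (D : Frame t K q m r U H R s z)
include D

/-- The number of pairs of involutions with product `x`. -/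
theorem Frame.card_pairs {h x : G} (hh : h ∈ H) (hh1 : h ≠ 1) (hx : x = h ∨ x = t * h) :
    Nat.card {p : G × G // IsConj t p.1 ∧ IsConj t p.2 ∧ p.1 * p.2 = x} = 2 * m := by
  classical
  have hth : Commute t h := D.comm h (D.HK hh)
  have htx : t * x = x * t := by
    rcases hx with rfl | rfl
    · exact hth.eq
    · exact ((Commute.refl t).mul_right hth).eq
  have hx2 : x * x = h * h := by
    rcases hx with rfl | rfl
    · rfl
    · rw [show t * h * (t * h) = t * (h * t) * h by group, ← hth.eq,
        show t * (t * h) * h = (t * t) * (h * h) by group, D.tt, one_mul]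
  have hhh : h * h ≠ 1 := fun e => hh1 (eq_one_of_odd_sq (D.odd_H hh) e)
  have hh4 : h * h * (h * h) ≠ 1 := fun e => hhh (eq_one_of_odd_sq (D.odd_H (mul_mem hh hh)) e)
  have hinvol : ∀ i : G, i * i = 1 → i ≠ 1 → IsConj t i := fun i hii hi1 => by
    obtain ⟨g, hg⟩ := D.conj_invol hii hi1
    exact (isConj_iff.2 ⟨g, hg⟩).symm
  -- the first member of a pair
  let e : Bool × H → G := fun w => (if w.1 then t else 1) * ((w.2 : G) * s)
  have hKs : ∀ a : H, (a : G) * s ∈ K := fun a => mul_mem (D.HK a.2) D.sK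
  have hinv_s : ∀ a : H, ∀ b ∈ H, (a : G) * s * b * ((a : G) * s)⁻¹ = b⁻¹ := fun a b hb => by
    rw [show (a : G) * s * b * ((a : G) * s)⁻¹ = (a : G) * (s * b * s⁻¹) * (a : G)⁻¹ by group, D.sH b hb]
    haveI := D.Hcyc
    letI := IsCyclic.commGroup (α := H)
    have h1 : (a : G) * b⁻¹ = b⁻¹ * a := congrArg Subtype.val (mul_comm a (⟨b, hb⟩ : H)⁻¹)
    rw [h1, mul_inv_cancel_right]
  have hsq : ∀ a : H, (a : G) * s * ((a : G) * s) = 1 := fun a => by
    have h1 := hinv_s a a a.2
    calc (a : G) * s * ((a : G) * s) = ((a : G) * s * a * ((a : G) * s)⁻¹) * ((a : G) * (s * s)) := by group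
      _ = 1 := by rw [h1, D.ss, mul_one, inv_mul_cancel]
  have hee : ∀ w, e w * e w = 1 := by
    rintro ⟨b, a⟩
    cases b
    · simpa [e] using hsq a
    · simp only [e, if_true]
      rw [show t * ((a : G) * s) * (t * ((a : G) * s)) = t * ((a : G) * s * t) * ((a : G) * s) by group,
        ← D.comm _ (hKs a), show t * (t * ((a : G) * s)) * ((a : G) * s) = (t * t) * ((a : G) * s * ((a : G) * s)) by
          group, D.tt, hsq, one_mul]
  have hex : ∀ w, e w * x * (e w)⁻¹ = x⁻¹ := by
    rintro ⟨b, a⟩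
    have h1 := hinv_s a h hh
    have ht' : t * x⁻¹ * t⁻¹ = x⁻¹ := by
      rw [(show Commute t x from htx).inv_right.eq, mul_inv_cancel_right]
    have h2 : (a : G) * s * x * ((a : G) * s)⁻¹ = x⁻¹ := by
      rcases hx with rfl | rfl
      · exact h1
      · rw [show (a : G) * s * (t * h) * ((a : G) * s)⁻¹ =
            ((a : G) * s * t) * h * ((a : G) * s)⁻¹ by group, ← D.comm _ (hKs a),
          show t * ((a : G) * s) * h * ((a : G) * s)⁻¹ = t * ((a : G) * s * h * ((a : G) * s)⁻¹) by group, h1,
          _root_.mul_inv_rev, D.tinv, hth.inv_right.eq]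
    cases b
    · simpa [e] using h2
    · simp only [e, if_true]
      rw [show t * ((a : G) * s) * x * (t * ((a : G) * s))⁻¹ = t * ((a : G) * s * x * ((a : G) * s)⁻¹) * t⁻¹ by group,
        h2, ht']
  have hne : ∀ w, e w ≠ 1 := fun w h1 => by
    have := hex w
    rw [h1, one_mul, inv_one, mul_one] at this
    exact hh4 (by rw [← hx2]; rw [eq_inv_iff_mul_eq_one.1 this, one_mul])
  have hsnd : ∀ w, e w * x * (e w * x) = 1 ∧ e w * x ≠ 1 := by
    intro w
    refine ⟨?_, fun h1 => ?_⟩
    · rw [show e w * x * (e w * x) = (e w * x * (e w)⁻¹) * (e w * e w) * x by group, hex, hee, mul_one, inv_mul_cancel]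
    · have h2 : x * x = 1 := by
        have hxe : x = (e w)⁻¹ := eq_inv_of_mul_eq_one_right h1
        rw [hxe, ← _root_.mul_inv_rev, hee, inv_one]
      exact hhh (hx2 ▸ h2)
  let F : Bool × H → {p : G × G // IsConj t p.1 ∧ IsConj t p.2 ∧ p.1 * p.2 = x} := fun w =>
    ⟨(e w, e w * x), hinvol _ (hee w) (hne w), hinvol _ (hsnd w).1 (hsnd w).2, by
      show e w * (e w * x) = x
      rw [← mul_assoc, hee, one_mul]⟩
  have hF : Function.Bijective F := by
    constructor
    · rintro ⟨b, a⟩ ⟨b', a'⟩ hw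
      have h' : e (b, a) = e (b', a') := congrArg (fun p => p.1.1) hw
      simp only [e] at h'
      cases b <;> cases b' <;> simp only [Bool.false_eq_true, if_false, if_true, one_mul] at h'
      · exact Prod.ext rfl (Subtype.ext (mul_right_cancel h'))
      · exact absurd (by rw [eq_mul_inv_of_mul_eq h'.symm]; exact mul_mem (hKs a) (inv_mem (hKs a'))) D.tK
      · exact absurd (by rw [eq_mul_inv_of_mul_eq h']; exact mul_mem (hKs a') (inv_mem (hKs a))) D.tK
      · exact Prod.ext rfl (Subtype.ext (mul_right_cancel (mul_left_cancel h')))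
    · rintro ⟨⟨a, b⟩, ha, hb, hab⟩
      obtain ⟨c, hc⟩ := isConj_iff.1 ha
      obtain ⟨c', hc'⟩ := isConj_iff.1 hb
      have haa : a * a = 1 := by
        rw [← show c * t * c⁻¹ = a from hc, show c * t * c⁻¹ * (c * t * c⁻¹) = c * (t * t) * c⁻¹ by group, D.tt]
        group
      have hbb : b * b = 1 := by
        rw [← show c' * t * c'⁻¹ = b from hc', show c' * t * c'⁻¹ * (c' * t * c'⁻¹) = c' * (t * t) * c'⁻¹ by group, D.tt]
        group
      have hax : a * x * a⁻¹ = x⁻¹ := by
        rw [← show a * b = x from hab, inv_eq_of_mul_eq_one_right haa, _root_.mul_inv_rev,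
          inv_eq_of_mul_eq_one_right haa, inv_eq_of_mul_eq_one_right hbb, ← mul_assoc a a b, haa, one_mul]
      -- it inverts `h²`
      have hah : a * (h * h) * a⁻¹ = (h * h)⁻¹ := by
        rw [← hx2, show a * (x * x) * a⁻¹ = (a * x * a⁻¹) * (a * x * a⁻¹) by group, hax, _root_.mul_inv_rev]
      have hcent : a * t * a⁻¹ * (h * h) = h * h * (a * t * a⁻¹) := by
        have h3 : Commute t (h * h)⁻¹ := (hth.mul_right hth).inv_right
        have hah' : a * (h * h)⁻¹ * a⁻¹ = h * h := by
          rw [show a * (h * h)⁻¹ * a⁻¹ = (a * (h * h) * a⁻¹)⁻¹ by group, hah, inv_inv]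
        conv_lhs => arg 2; rw [← hah']
        conv_rhs => arg 1; rw [← hah']
        calc a * t * a⁻¹ * (a * (h * h)⁻¹ * a⁻¹) = a * (t * (h * h)⁻¹) * a⁻¹ := by group
          _ = a * ((h * h)⁻¹ * t) * a⁻¹ := by rw [h3.eq]
          _ = a * (h * h)⁻¹ * a⁻¹ * (a * t * a⁻¹) := by group
      obtain ⟨d, hd, hd'⟩ := D.cent_H (mul_mem hh hh) hhh hcent
      have hinv' : a * t * a⁻¹ * (a * t * a⁻¹) = 1 := by
        rw [show a * t * a⁻¹ * (a * t * a⁻¹) = a * (t * t) * a⁻¹ by group, D.tt]; group
      have hat : a * t * a⁻¹ = t := by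
        rcases hd' with hd' | hd'
        · rw [hd'] at hinv'
          rw [eq_one_of_odd_sq (D.odd_H hd) hinv'] at hd'
          exact absurd (conj_eq_one_iff.1 hd') D.t1
        · rw [hd', show t * d * (t * d) = t * (d * t) * d by group, ← D.comm d (D.HK hd),
            show t * (t * d) * d = (t * t) * (d * d) by group, D.tt, one_mul] at hinv'
          rw [hd', eq_one_of_odd_sq (D.odd_H hd) hinv', mul_one]
      obtain ⟨k, hk, hak⟩ := D.split a (mul_inv_eq_iff_eq_mul.1 hat)
      have hkh : k * (h * h) * k⁻¹ = (h * h)⁻¹ := by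
        rcases hak with rfl | rfl
        · exact hah
        · rw [show t * k * (h * h) * (t * k)⁻¹ = t * (k * (h * h) * k⁻¹) * t⁻¹ by group,
            D.comm _ (mul_mem (mul_mem hk (D.HK (mul_mem hh hh))) (inv_mem hk)), mul_inv_cancel_right] at hah
          exact hah
      rcases D.Hnorm (h * h) (mul_mem hh hh) hhh k hk (hkh ▸ inv_mem (mul_mem hh hh)) with hkH | hkH
      · exfalso
        haveI := D.Hcyc
        letI := IsCyclic.commGroup (α := H)
        have h1 : k * (h * h) = h * h * k := congrArg Subtype.val (mul_comm (⟨k, hkH⟩ : H) ⟨h * h, mul_mem hh hh⟩)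
        rw [h1, mul_inv_cancel_right] at hkh
        exact hh4 (eq_inv_iff_mul_eq_one.1 hkh)
      · have hk2 : k = k * s * s := by rw [mul_assoc, D.ss, mul_one]
        have hbx : b = a * x := by rw [← show a * b = x from hab, ← mul_assoc, haa, one_mul]
        rcases hak with rfl | rfl
        · refine ⟨(false, ⟨a * s, hkH⟩), Subtype.ext (Prod.ext ?_ ?_)⟩
          · simp [F, e, ← hk2]
          · simp only [F, e, Bool.false_eq_true, if_false, one_mul, ← hk2]; exact hbx.symm
        · refine ⟨(true, ⟨k * s, hkH⟩), Subtype.ext (Prod.ext ?_ ?_)⟩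
          · simp [F, e, ← hk2]
          · simp only [F, e, if_true, ← hk2]; exact hbx.symm
  rw [← Nat.card_congr (Equiv.ofBijective F hF), Nat.card_prod, D.cardH]
  simp

end Cfsg.Lib.ReeThree
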