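import Cfsg.Agent.ReeInvolveThree.CharValuesB
import Cfsg.Agent.ReeInvolveThree.Count
import Cfsg.Agent.Chars.Count
import Cfsg.Agent.Chars.ClassEigen

/-!
A group of Ree type without a section `S₃`: the exceptional character and its relations.
-/

set_option autoImplicit false
set_option linter.style.haveILetI false
set_option linter.unusedSectionVars false

namespace Cfsg.Lib.ReeThree

open Cfsg.Lib.Chars
open Subgroup
open scoped ComplexConjugate

universe u v

theorem conj_lin {A : Type u} [Group A] [Finite A] (f : A →* ℂˣ) (a : A) : conj (f a : ℂ) = (f a⁻¹ : ℂ) :=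
  (IsCharacter.conj_inv (isCharacter_linear f) a).symm

theorem lin_inv_ne {A : Type u} [Group A] [Finite A] (hA : Odd (Nat.card A)) {f : A →* ℂˣ} (hf : f ≠ 1) :
    f * f ≠ 1 := fun h => hf (MonoidHom.ext fun a => by
  have ho : Odd (orderOf (f a)) := (hA.of_dvd_nat (orderOf_dvd_natCard a)).of_dvd_nat (orderOf_map_dvd f a)
  refine eq_one_of_odd_sq ho ?_
  exact DFunLike.congr_fun h a)

open Classical in
/-- The pairing of two functions `1 - λ`. -/
theorem sum_pair {A : Type u} [Group A] [Fintype A] (l μ : A →* ℂˣ) (hl : l ≠ 1) (hμ : μ ≠ 1) :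
    ∑ a : A, (1 - (l a : ℂ)) * (2 - (μ a : ℂ) - (μ a⁻¹ : ℂ)) =
      (Nat.card A : ℂ) * (2 + (if l = μ then 1 else 0) + (if l * μ = 1 then 1 else 0)) := by
  have hinv : ∀ a : A, (μ a⁻¹ : ℂ) = (μ⁻¹ a : ℂ) := fun a => by simp
  have hsum : ∀ f : A →* ℂˣ, ∑ a, (f a : ℂ) = if f = 1 then (Nat.card A : ℂ) else 0 := fun f => by
    split_ifs with h
    · subst h; exact sum_lin_one
    · exact sum_lin_eq_zero f h
  have hterm : ∀ a : A, (1 - (l a : ℂ)) * (2 - (μ a : ℂ) - (μ a⁻¹ : ℂ)) =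
      2 - (μ a : ℂ) - (μ⁻¹ a : ℂ) - 2 * (l a : ℂ) + ((l * μ) a : ℂ) + ((l * μ⁻¹) a : ℂ) := fun a => by
    rw [hinv]
    simp only [MonoidHom.mul_apply, Units.val_mul]
    ring
  rw [Finset.sum_congr rfl fun a _ => hterm a]
  simp only [Finset.sum_add_distrib, Finset.sum_sub_distrib, ← Finset.mul_sum, Finset.sum_const, Finset.card_univ,
    nsmul_eq_mul, hsum, ← Nat.card_eq_fintype_card]
  have hμ' : μ⁻¹ ≠ 1 := fun h => hμ (MonoidHom.ext fun a => inv_eq_one.1 (DFunLike.congr_fun h a))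
  have hiff : l * μ⁻¹ = 1 ↔ l = μ := ⟨fun h => MonoidHom.ext fun a => mul_inv_eq_one.1 (DFunLike.congr_fun h a),
    fun h => MonoidHom.ext fun a => mul_inv_eq_one.2 (DFunLike.congr_fun h a)⟩
  simp only [if_neg hl, if_neg hμ, if_neg hμ', hiff]
  split_ifs <;> ring

theorem sum_sub_two {A : Type u} [Group A] [Fintype A] (l : A →* ℂˣ) (hl : l ≠ 1) :
    ∑ a : A, (2 - (l a : ℂ) - (l a⁻¹ : ℂ)) = 2 * (Nat.card A : ℂ) := by
  have h1 := sum_lin_eq_zero l hl
  have h2 := sum_lin_eq_zero l⁻¹ (fun h => hl (MonoidHom.ext fun a => inv_eq_one.1 (DFunLike.congr_fun h a)))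
  have h3 : ∀ a : A, (l a⁻¹ : ℂ) = (l⁻¹ a : ℂ) := fun a => by simp
  simp only [h3, Finset.sum_sub_distrib, h1, h2, Finset.sum_const, Finset.card_univ, ← Nat.card_eq_fintype_card,
    nsmul_eq_mul]
  ring

/-- Recovering a function from its pairings with `1 - λ`. -/
theorem eq_one_of_pairings {A : Type u} [Group A] [Fintype A] (l : A →* ℂˣ) (hl : Function.Injective l)
    (F : A → ℂ) (h : ∀ j : ℕ, l ^ j ≠ 1 → ∑ a, (1 - ((l ^ j) a : ℂ)) * F a = (Nat.card A : ℂ))
    {a₀ : A} (ha₀ : a₀ ≠ 1) : F a₀ = 1 := by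
  classical
  set n := Nat.card A with hn
  have hn0 : (n : ℂ) ≠ 0 := by exact_mod_cast Nat.card_pos.ne'
  set w : ℂ := (l a₀⁻¹ : ℂ) with hw
  have hpow : ∀ a : A, (l a : ℂ) ^ n = 1 := fun a => by
    rw [← Units.val_pow_eq_pow_val, ← map_pow, hn, pow_card_eq_one', map_one, Units.val_one]
  have hgeom : ∀ x : A, x ≠ 1 → ∑ j ∈ Finset.range n, (l x : ℂ) ^ j = 0 := fun x hx => by
    rw [geom_sum_eq (fun h => hx (hl (Units.ext (by rw [h, map_one, Units.val_one])))), hpow, sub_self, zero_div]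
  have hkey : ∀ j ∈ Finset.range n, w ^ j * ∑ a, (1 - ((l ^ j) a : ℂ)) * F a =
      w ^ j * (n : ℂ) - (if j = 0 then (n : ℂ) else 0) := by
    intro j hj
    rcases eq_or_ne j 0 with rfl | hj0
    · simp
    · have hne : l ^ j ≠ 1 := by
        intro he
        -- a generator would have small order
        have hinj : ∀ a : A, a ^ j = 1 := fun a => hl (by rw [map_pow, map_one]; exact DFunLike.congr_fun he a)
        obtain ⟨g, hg⟩ : ∃ g : A, orderOf g = n := by
          haveI : IsCyclic A := isCyclic_of_subgroup_isDomain ((Units.coeHom ℂ).comp l) (fun a b e => hl (Units.ext e))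
          exact IsCyclic.exists_ofOrder_eq_natCard
        have := orderOf_dvd_of_pow_eq_one (hinj g)
        rw [hg] at this
        have := Nat.le_of_dvd (Nat.pos_of_ne_zero hj0) this
        have := Finset.mem_range.1 hj
        omega
      rw [h j hne, if_neg hj0, sub_zero]
  have hL : ∑ j ∈ Finset.range n, w ^ j * ∑ a, (1 - ((l ^ j) a : ℂ)) * F a = -(n : ℂ) * F a₀ := by
    simp only [Finset.mul_sum]
    rw [Finset.sum_comm]
    have hterm : ∀ a : A, ∑ j ∈ Finset.range n, w ^ j * ((1 - ((l ^ j) a : ℂ)) * F a) =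
        F a * ((∑ j ∈ Finset.range n, w ^ j) - ∑ j ∈ Finset.range n, (l (a₀⁻¹ * a) : ℂ) ^ j) := by
      intro a
      rw [mul_sub, Finset.mul_sum, Finset.mul_sum, ← Finset.sum_sub_distrib]
      refine Finset.sum_congr rfl fun j _ => ?_
      simp only [MonoidHom.pow_apply, map_mul, Units.val_mul, Units.val_pow_eq_pow_val, mul_pow, hw]
      ring
    rw [Finset.sum_congr rfl fun a _ => hterm a, hgeom _ (inv_ne_one.2 ha₀)]
    rw [Finset.sum_eq_single a₀ (fun a _ ha => by
      rw [hgeom _ (fun e => ha (inv_mul_eq_one.1 e).symm)]; ring) (by simp)]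
    simp [mul_comm]
  have hR : ∑ j ∈ Finset.range n, (w ^ j * (n : ℂ) - (if j = 0 then (n : ℂ) else 0)) = -(n : ℂ) := by
    rw [Finset.sum_sub_distrib, ← Finset.sum_mul, hgeom _ (inv_ne_one.2 ha₀), zero_mul,
      Finset.sum_ite_eq' (Finset.range n) 0, if_pos (Finset.mem_range.2 Nat.card_pos), zero_sub]
  rw [Finset.sum_congr rfl hkey, hR] at hL
  have : (n : ℂ) * (F a₀ - 1) = 0 := by linear_combination hL
  exact sub_eq_zero.1 ((mul_eq_zero.1 this).resolve_left hn0)

/-- The sum of a character over a subgroup is a multiple of the order. -/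
theorem sum_subgroup_int {G : Type u} [Group G] [Fintype G] (S : Subgroup G) [Fintype S] {χ : G → ℂ}
    (hχ : Cfsg.IsCharacter G χ) : ∃ n : ℕ, ∑ x : S, χ x = (Nat.card S : ℂ) * n := by
  obtain ⟨n, hn⟩ := IsCharacter.exists_mult (IsCharacter.restrict hχ S) (isIrrCharacter_one (G := S))
  refine ⟨n, ?_⟩
  rw [classInner_def] at hn
  simp only [map_one, mul_one] at hn
  have : (Nat.card S : ℂ) ≠ 0 := by exact_mod_cast Nat.card_pos.ne'
  rw [← hn, ← mul_assoc, mul_inv_cancel₀ this, one_mul]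

variable {G : Type u} [Group G] [Fintype G]

/-- A coefficient bound from the inner products with the family. -/
theorem coef_bound {ι : Type v} [Fintype ι] [DecidableEq ι] (one x : ι) (Z : Fin 6 → ι) (σ : ℤ) (τ : Fin 6 → ℤ)
    (hσ : σ * σ = 1) (hτ : ∀ j, τ j * τ j = 1) (hxone : x ≠ one) (hZ : Function.Injective Z) (hZx : ∀ j, Z j ≠ x)
    (hZone : ∀ j, Z j ≠ one) (b : Fin 6 → ι → ℤ) (hb1 : ∀ j, b j one = 1) (hbx : ∀ j, b j x = σ)
    (hbZ : ∀ j, b j (Z j) = τ j) (hb0 : ∀ j i, i ≠ one → i ≠ x → i ≠ Z j → b j i = 0)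
    (a : ι → ℤ) (N c p : ℤ) (S : Finset (Fin 6)) (hN : ∑ i, a i * a i = N) (hc : a one = c)
    (hp : ∀ j ∈ S, ∑ i, a i * b j i = p) :
    c * c + (σ * a x) * (σ * a x) + (S.card : ℤ) * ((p - c - σ * a x) * (p - c - σ * a x)) ≤ N := by
  set s : Finset ι := insert one (insert x (S.image Z)) with hs
  have hx : x ∉ S.image Z := fun h => by
    obtain ⟨j, -, hj⟩ := Finset.mem_image.1 h
    exact hZx j hj
  have hone : one ∉ insert x (S.image Z) := fun h => by
    rcases Finset.mem_insert.1 h with h | h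
    · exact hxone h.symm
    · obtain ⟨j, -, hj⟩ := Finset.mem_image.1 h
      exact hZone j hj
  have hle : ∑ i ∈ s, a i * a i ≤ N := hN ▸
    Finset.sum_le_sum_of_subset_of_nonneg (Finset.subset_univ _) (fun i _ _ => mul_self_nonneg _)
  rw [hs, Finset.sum_insert hone, Finset.sum_insert hx, Finset.sum_image hZ.injOn, hc] at hle
  have hz : ∀ j ∈ S, a (Z j) * a (Z j) = (p - c - σ * a x) * (p - c - σ * a x) := by
    intro j hj
    have h := hp j hj
    have hsplit : ∑ i, a i * b j i = a one * b j one + (a x * b j x + a (Z j) * b j (Z j)) := by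
      rw [← Finset.sum_subset (Finset.subset_univ ({one, x, Z j} : Finset ι)) (fun i _ hi => by
        simp only [Finset.mem_insert, Finset.mem_singleton, not_or] at hi
        rw [hb0 j i hi.1 hi.2.1 hi.2.2, mul_zero]), Finset.sum_insert (by
          simp [hxone.symm, (hZone j).symm]), Finset.sum_pair (hZx j).symm]
    rw [hsplit, hb1, hbx, hbZ, hc] at h
    have h' : a (Z j) * τ j = p - c - σ * a x := by linarith
    rw [← h', mul_mul_mul_comm, hτ j, mul_one]
  rw [Finset.sum_congr rfl hz, Finset.sum_const, nsmul_eq_mul] at hle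
  have : a x * a x = (σ * a x) * (σ * a x) := by rw [mul_mul_mul_comm, hσ, one_mul]
  linarith

variable {t s z : G} {K U H R : Subgroup G} {q m r : ℕ} (D : Frame t K q m r U H R s z)
include D

/-- The exceptional character and its relations. -/
theorem Frame.exists_exceptional : ∃ d T α : ℤ, (α = 0 ∨ α = 1) ∧ 2 * T = (q + 1 : ℤ) + α * ((q : ℤ) - 1) ∧
    8 ∣ d - T ∧ d ≠ 0 ∧ d ∣ (Nat.card G : ℤ) ∧
    ((centralizer ({t} : Set G)).index : ℤ) * (d - T) ^ 2 = 16 * (q : ℤ) * r * (m : ℤ) ^ 2 * (d * (d + 1)) := by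
  classical
  haveI := Fintype.ofFinite U
  haveI := Fintype.ofFinite H
  haveI := Fintype.ofFinite R
  have hq0 : (q : ℂ) ≠ 0 := by have := D.q27; exact_mod_cast (show q ≠ 0 by omega)
  have hm0 : (m : ℂ) ≠ 0 := by have := D.m13; exact_mod_cast (show m ≠ 0 by omega)
  have hr0 : (r : ℂ) ≠ 0 := by
    have : r ≠ 0 := fun h => by simpa [h] using D.odd_r
    exact_mod_cast this
  have hqm : (q : ℂ) = 2 * m + 1 := by exact_mod_cast D.nums.qm
  have hqr : (q : ℂ) + 1 = 4 * r := by exact_mod_cast D.nums.qr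
  have hcardH : (Nat.card H : ℂ) = m := by rw [D.cardH]
  have hcardU : (Nat.card U : ℂ) = q := by rw [D.cardU]
  have hcardR : (Nat.card R : ℂ) = r := by rw [D.cardR]
  haveI := D.Hcyc
  haveI := D.Rcyc
  obtain ⟨lam, hlam⟩ := exists_faithful_lin H
  have hHodd : Odd (Nat.card H) := D.cardH ▸ D.odd_m
  have hgen : ∃ g : H, orderOf g = m := by rw [← D.cardH]; exact IsCyclic.exists_ofOrder_eq_natCard
  have hlampow : ∀ a : ℕ, lam ^ a = 1 → m ∣ a := fun a ha => by
    obtain ⟨g, hg⟩ := hgen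
    rw [← hg]
    refine orderOf_dvd_of_pow_eq_one (hlam ?_)
    rw [map_pow, map_one]
    exact DFunLike.congr_fun ha g
  set L : Fin 6 → (H →* ℂˣ) := fun j => lam ^ ((j : ℕ) + 1) with hL
  have hm13 := D.m13
  have hL1 : ∀ j, L j ≠ 1 := fun j h => by
    have := Nat.le_of_dvd (by omega) (hlampow _ h)
    omega
  have hLg : ∀ (g : H) j, L j g = lam (g ^ ((j : ℕ) + 1)) := fun g j => by rw [map_pow]; rfl
  have hLne : ∀ j k, j ≠ k → L j ≠ L k := by
    obtain ⟨g, hg⟩ := hgen
    intro j k hjk h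
    have h1 := DFunLike.congr_fun h g
    rw [hLg, hLg] at h1
    have h2 := pow_injOn_Iio_orderOf (x := g) (show (j : ℕ) + 1 < orderOf g by omega)
      (show (k : ℕ) + 1 < orderOf g by omega) (hlam h1)
    exact hjk (Fin.ext (by omega))
  have hLmul : ∀ j k, L j * L k ≠ 1 := fun j k h => by
    obtain ⟨g, hg⟩ := hgen
    have h1 := DFunLike.congr_fun h g
    rw [MonoidHom.mul_apply, hLg, hLg, ← map_mul, ← pow_add, MonoidHom.one_apply] at h1
    have h2 := orderOf_dvd_of_pow_eq_one (hlam (h1.trans (map_one lam).symm))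
    rw [hg] at h2
    have := Nat.le_of_dvd (by omega) h2
    omega
  -- the virtual characters
  have hfp := fun l : H →* ℂˣ => D.exists_f l 1 (one_mul _)
  have hfm := fun l : H →* ℂˣ => D.exists_f l (-1) D.pm_sq
  choose fp hfpg hfpI hfpV hfp1 hfpt hfpU hfpR using hfp
  choose fm hfmg hfmI hfmV hfm1 hfmt hfmU hfmR using hfm
  choose ap hap using fun l => exists_int_decomp (hfpg l)
  choose am ham using fun l => exists_int_decomp (hfmg l)
  set one : Cfsg.IrrCharacter G := ⟨fun _ => 1, isIrrCharacter_one⟩ with hone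
  have hone' : Cfsg.IsClassFunction G (fun _ : G => (1 : ℂ)) := isClassFunction_irr one
  have hcl : ∀ {f : G → ℂ}, Cfsg.IsGeneralizedCharacter G f → Cfsg.IsClassFunction G f :=
    fun h => isClassFunction_generalized h
  -- pairings of the torus family
  have hconjval : ∀ (μ : H →* ℂˣ) (h : H), conj (2 - (μ h : ℂ) - (μ h⁻¹ : ℂ)) = 2 - (μ h : ℂ) - (μ h⁻¹ : ℂ) :=
    fun μ h => by simp only [map_sub, map_ofNat, conj_lin, inv_inv]; ring
  have hpair : ∀ (l μ : H →* ℂˣ) (e e' : ℂˣ), conj (e' : ℂ) = (e' : ℂ) → ∀ f : G → ℂ,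
      (∀ h : H, h ≠ 1 → f h = 2 - (μ h : ℂ) - (μ h⁻¹ : ℂ) ∧ f (t * h) = (e' : ℂ) * (2 - (μ h : ℂ) - (μ h⁻¹ : ℂ))) →
      ∑ h : H, (1 - (l h : ℂ)) * (conj (f h) + (e : ℂ) * conj (f (t * h))) =
        (1 + (e : ℂ) * e') * ∑ h : H, (1 - (l h : ℂ)) * (2 - (μ h : ℂ) - (μ h⁻¹ : ℂ)) := by
    intro l μ e e' he' f hf
    rw [Finset.mul_sum]
    refine Finset.sum_congr rfl fun h _ => ?_
    rcases eq_or_ne h 1 with rfl | hh
    · simp
    · rw [(hf h hh).1, (hf h hh).2, map_mul, hconjval, he']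
      ring
  have h2m : ((2 * m : ℕ) : ℂ) ≠ 0 := by push_cast; exact mul_ne_zero two_ne_zero hm0
  have hpp : ∀ l μ : H →* ℂˣ, l ≠ 1 → μ ≠ 1 → ((∑ χ, ap l χ * ap μ χ : ℤ) : ℂ) =
      2 + (if l = μ then 1 else 0) + (if l * μ = 1 then 1 else 0) := fun l μ hl hμ => by
    rw [← inner_decomp, ← hap, ← hap, hfpI l _ (hcl (hfpg μ)),
      hpair l μ 1 1 (by simp) (fp μ) (hfpV μ), sum_pair l μ hl hμ, hcardH]
    push_cast
    field_simp
    ring
  have hmm : ∀ l μ : H →* ℂˣ, l ≠ 1 → μ ≠ 1 → ((∑ χ, am l χ * am μ χ : ℤ) : ℂ) =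
      2 + (if l = μ then 1 else 0) + (if l * μ = 1 then 1 else 0) := fun l μ hl hμ => by
    rw [← inner_decomp, ← ham, ← ham, hfmI l _ (hcl (hfmg μ)),
      hpair l μ (-1) (-1) (by simp) (fm μ) (hfmV μ), sum_pair l μ hl hμ, hcardH]
    push_cast
    field_simp
    ring
  have hmp : ∀ l μ : H →* ℂˣ, ((∑ χ, am l χ * ap μ χ : ℤ) : ℂ) = 0 := fun l μ => by
    rw [← inner_decomp, ← ham, ← hap, hfmI l _ (hcl (hfpg μ)), hpair l μ (-1) 1 (by simp) (fp μ) (hfpV μ)]
    simp
  have hap1 : ∀ l : H →* ℂˣ, l ≠ 1 → ap l one = 1 := fun l hl => by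
    have h : (ap l one : ℂ) = 1 := by
      rw [← inner_decomp_irr, ← hap, hfpI l _ (isClassFunction_irr one)]
      simp only [hone, map_one, mul_one, Units.val_one]
      rw [← Finset.sum_mul, Finset.sum_sub_distrib, sum_lin_eq_zero l hl, Finset.sum_const, Finset.card_univ,
        ← Nat.card_eq_fintype_card, D.cardH, nsmul_eq_mul]
      push_cast
      field_simp
      ring
    exact_mod_cast h
  have ham1 : ∀ l : H →* ℂˣ, am l one = 0 := fun l => by
    have h : (am l one : ℂ) = 0 := by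
      rw [← inner_decomp_irr, ← ham, hfmI l _ (isClassFunction_irr one)]
      simp [hone]
    exact_mod_cast h
  have hsqne : ∀ l : H →* ℂˣ, l ≠ 1 → l * l ≠ 1 := fun l hl => lin_inv_ne hHodd hl
  -- the star
  set b : Fin 6 → Cfsg.IrrCharacter G → ℤ := fun j => Function.update (ap (L j)) one 0 with hb
  have hbsum : ∀ j k, ∑ χ, b j χ * b k χ = (∑ χ, ap (L j) χ * ap (L k) χ) - 1 := fun j k => by
    rw [← Finset.add_sum_erase Finset.univ (fun χ => ap (L j) χ * ap (L k) χ) (Finset.mem_univ one),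
      ← Finset.add_sum_erase Finset.univ (fun χ => b j χ * b k χ) (Finset.mem_univ one)]
    simp only [hb, Function.update_self, hap1 _ (hL1 _), mul_zero, zero_add, mul_one, add_sub_cancel_left]
    exact Finset.sum_congr rfl fun χ hχ => by
      rw [Function.update_of_ne (Finset.mem_erase.1 hχ).1, Function.update_of_ne (Finset.mem_erase.1 hχ).1]
  obtain ⟨A, σ, Z, τ, hσ, hτ, hZi, hZA, hbA, hbZ, hb0⟩ := star_of_family b
    (fun j => by
      rw [hbsum]
      have h := hpp (L j) (L j) (hL1 j) (hL1 j)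
      rw [if_pos rfl, if_neg (hsqne _ (hL1 j))] at h
      have : ∑ χ, ap (L j) χ * ap (L j) χ = 3 := by exact_mod_cast (h.trans (by norm_num : (2 : ℂ) + 1 + 0 = 3))
      omega)
    (fun j k hjk => by
      rw [hbsum]
      have h := hpp (L j) (L k) (hL1 j) (hL1 k)
      rw [if_neg (hLne j k hjk), if_neg (hLmul j k), add_zero, add_zero] at h
      have : ∑ χ, ap (L j) χ * ap (L k) χ = 2 := by exact_mod_cast h
      omega)
  have hσ0 : σ ≠ 0 := fun h => by simp [h] at hσ
  have hAone : A ≠ one := fun h => by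
    have := hbA 0
    simp only [hb, h, Function.update_self] at this
    exact hσ0 this.symm
  have hZone : ∀ j, Z j ≠ one := fun j h => by
    have := hτ j
    rw [← hbZ j, h] at this
    simp [hb] at this
  have hfamA : ∀ j, ap (L j) A = σ := fun j => by
    have := hbA j
    simp only [hb] at this; rwa [Function.update_of_ne hAone] at this
  have hfamZ : ∀ j, ap (L j) (Z j) = τ j := fun j => by
    have := hbZ j
    simp only [hb] at this; rwa [Function.update_of_ne (hZone j)] at this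
  have hfam0 : ∀ j χ, χ ≠ one → χ ≠ A → χ ≠ Z j → ap (L j) χ = 0 := fun j χ h1 h2 h3 => by
    have := hb0 j χ h2 h3
    simp only [hb] at this; rwa [Function.update_of_ne h1] at this
  have bound := fun a N c p S => coef_bound one A Z σ τ hσ hτ hAone hZi hZA hZone (fun j => ap (L j))
    (fun j => hap1 _ (hL1 j)) hfamA hfamZ hfam0 a N c p S
  have hσc : ((σ : ℂ)) * σ = 1 := by exact_mod_cast hσ
  -- coefficients of the whole torus family at `A`
  have hSbig : ∀ l : H →* ℂˣ, 5 ≤ (Finset.univ.filter fun j => l ≠ L j ∧ l * L j ≠ 1).card := fun l => by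
    have hle : (Finset.univ.filter fun j => ¬ (l ≠ L j ∧ l * L j ≠ 1)).card ≤ 1 := by
      refine Finset.card_le_one.2 fun j hj k hk => ?_
      simp only [Finset.mem_filter, Finset.mem_univ, true_and, not_and_or, not_not] at hj hk
      by_contra hne
      rcases hj with hj | hj <;> rcases hk with hk | hk
      · exact hLne j k hne (hj.symm.trans hk)
      · exact hLmul j k (by rw [← hj]; exact hk)
      · exact hLmul j k (MonoidHom.ext fun x => by rw [MonoidHom.mul_apply, mul_comm, ← hk]; exact DFunLike.congr_fun hj x)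
      · refine hLne j k hne (MonoidHom.ext fun x => mul_left_cancel (a := l x) ?_)
        exact (DFunLike.congr_fun hj x).trans (DFunLike.congr_fun hk x).symm
    have := Finset.card_filter_add_card_filter_not (s := (Finset.univ : Finset (Fin 6))) (fun j => l ≠ L j ∧ l * L j ≠ 1)
    simp only [Finset.card_univ, Fintype.card_fin] at this
    omega
  have hαp : ∀ l : H →* ℂˣ, l ≠ 1 → σ * ap l A = 1 := fun l hl => by
    have hN : ∑ χ, ap l χ * ap l χ = 3 := by
      have h := hpp l l hl hl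
      rw [if_pos rfl, if_neg (hsqne l hl)] at h
      exact_mod_cast (h.trans (by norm_num : (2 : ℂ) + 1 + 0 = 3))
    have h := bound (ap l) 3 1 2 (Finset.univ.filter fun j => l ≠ L j ∧ l * L j ≠ 1) hN (hap1 l hl)
      (fun j hj => by
        have hj' := (Finset.mem_filter.1 hj).2
        have h := hpp l (L j) hl (hL1 j)
        rw [if_neg hj'.1, if_neg hj'.2, add_zero, add_zero] at h
        exact_mod_cast h)
    have h5 : (5 : ℤ) ≤ ((Finset.univ.filter fun j => l ≠ L j ∧ l * L j ≠ 1).card : ℤ) := by exact_mod_cast hSbig l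
    set x := σ * ap l A
    have := mul_le_mul_of_nonneg_right h5 (mul_self_nonneg (2 - 1 - x))
    have h1 : x ≤ 1 := by by_contra hc; have : 2 ≤ x := (by omega); nlinarith
    have h2 : 1 ≤ x := by by_contra hc; have : x ≤ 0 := (by omega); nlinarith
    omega
  have hαm : ∀ l : H →* ℂˣ, l ≠ 1 → σ * am l A = 0 := fun l hl => by
    have hN : ∑ χ, am l χ * am l χ = 3 := by
      have h := hmm l l hl hl
      rw [if_pos rfl, if_neg (hsqne l hl)] at h
      exact_mod_cast (h.trans (by norm_num : (2 : ℂ) + 1 + 0 = 3))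
    have h := bound (am l) 3 0 0 Finset.univ hN (ham1 l) (fun j _ => by exact_mod_cast hmp l (L j))
    simp only [Finset.card_univ, Fintype.card_fin, Nat.cast_ofNat] at h
    set x := σ * am l A
    have h1 : x ≤ 0 := by by_contra hc; have : 1 ≤ x := (by omega); nlinarith
    have h2 : 0 ≤ x := by by_contra hc; have : x ≤ -1 := (by omega); nlinarith
    omega
  -- values of the exceptional character on `t H`
  set At : G → ℂ := fun x => (σ : ℂ) * conj ((A : G → ℂ) x) with hAt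
  have hAth : ∀ h : H, h ≠ 1 → At (t * h) = 1 := fun h hh => by
    refine eq_one_of_pairings lam hlam (fun a => At (t * a)) (fun j hj => ?_) hh
    have e1 : (σ : ℂ) * (ap (lam ^ j) A : ℂ) = 1 := by exact_mod_cast hαp _ hj
    have e2 : (σ : ℂ) * (am (lam ^ j) A : ℂ) = 0 := by exact_mod_cast hαm _ hj
    rw [← inner_decomp_irr, ← hap, hfpI _ _ (isClassFunction_irr A)] at e1
    rw [← inner_decomp_irr, ← ham, hfmI _ _ (isClassFunction_irr A)] at e2
    rw [hcardH]
    have hs : ∑ a : H, (1 - ((lam ^ j) a : ℂ)) * (conj ((A : G → ℂ) a) + ((1 : ℂˣ) : ℂ) * conj ((A : G → ℂ) (t * a))) -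
        ∑ a : H, (1 - ((lam ^ j) a : ℂ)) * (conj ((A : G → ℂ) a) + ((-1 : ℂˣ) : ℂ) * conj ((A : G → ℂ) (t * a))) =
        2 * ∑ a : H, (1 - ((lam ^ j) a : ℂ)) * conj ((A : G → ℂ) (t * a)) := by
      rw [← Finset.sum_sub_distrib, Finset.mul_sum]
      refine Finset.sum_congr rfl fun a _ => ?_
      simp only [Units.val_one, Units.val_neg]
      ring
    have hgoal : ∑ a : H, (1 - ((lam ^ j) a : ℂ)) * At (t * a) =
        (σ : ℂ) * ∑ a : H, (1 - ((lam ^ j) a : ℂ)) * conj ((A : G → ℂ) (t * a)) := by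
      rw [Finset.mul_sum]
      exact Finset.sum_congr rfl fun a _ => by simp only [hAt]; ring
    rw [hgoal]
    rw [mul_left_comm, inv_mul_eq_one₀ h2m] at e1
    rw [mul_left_comm, mul_eq_zero, or_iff_right (inv_ne_zero h2m)] at e2
    rw [show ((2 * m : ℕ) : ℂ) = 2 * m by push_cast; ring] at e1
    linear_combination -(σ : ℂ) / 2 * hs - (1 / 2 : ℂ) * e1 - (1 / 2 : ℂ) * e2
  -- the involution value is an integer, congruent to the degree
  have hirrA := A.2
  have hAchar := isCharacter_of_irr hirrA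
  obtain ⟨E, htE, hsE, hzE, h8, hEsq, -⟩ := D.exists_sylow
  haveI := Fintype.ofFinite (E : Subgroup G)
  obtain ⟨n₈, hn₈⟩ := sum_subgroup_int (E : Subgroup G) hAchar
  have hEval : ∀ x : (E : Subgroup G), x ≠ 1 → (A : G → ℂ) x = (A : G → ℂ) t := fun x hx => by
    obtain ⟨g, hg⟩ := D.conj_invol (hEsq x x.2) (fun e => hx (Subtype.ext e))
    rw [← hg]
    exact (isClassFunction_irr A _ _).symm
  rw [← Finset.add_sum_erase Finset.univ _ (Finset.mem_univ (1 : (E : Subgroup G))),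
    Finset.sum_congr rfl (fun x hx => hEval x (Finset.mem_erase.1 hx).1), Finset.sum_const,
    Finset.card_erase_of_mem (Finset.mem_univ _), Finset.card_univ, ← Nat.card_eq_fintype_card, h8, nsmul_eq_mul,
    OneMemClass.coe_one, irr_apply_one_eq_deg] at hn₈
  haveI := Fintype.ofFinite (zpowers t)
  obtain ⟨n₂, hn₂⟩ := sum_subgroup_int (zpowers t) hAchar
  have hz2 : Nat.card (zpowers t) = 2 := by
    rw [Nat.card_zpowers, orderOf_eq_prime (p := 2) (by rw [pow_two, D.tt]) D.t1]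
  have hzt : ∀ x : zpowers t, x ≠ 1 → (x : G) = t := fun x hx => by
    obtain ⟨i, hi⟩ := mem_zpowers_iff.1 x.2
    rcases Int.even_or_odd i with ⟨j, rfl⟩ | ⟨j, rfl⟩
    · exact absurd (Subtype.ext (by rw [← hi, ← two_mul, _root_.zpow_mul, zpow_two, D.tt, one_zpow]; rfl)) hx
    · rw [← hi, zpow_add_one, _root_.zpow_mul, zpow_two, D.tt, one_zpow, one_mul]
  rw [← Finset.add_sum_erase Finset.univ _ (Finset.mem_univ (1 : zpowers t)),
    Finset.sum_congr rfl (fun x hx => by rw [hzt x (Finset.mem_erase.1 hx).1]), Finset.sum_const,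
    Finset.card_erase_of_mem (Finset.mem_univ _), Finset.card_univ, ← Nat.card_eq_fintype_card, hz2, nsmul_eq_mul,
    OneMemClass.coe_one, irr_apply_one_eq_deg] at hn₂
  set dA : ℤ := (deg (A : G → ℂ) : ℤ) with hdA
  set T₀ : ℤ := 2 * n₂ - dA with hT₀
  have hAtT : (A : G → ℂ) t = (T₀ : ℂ) := by
    rw [hT₀, hdA]; push_cast
    push_cast at hn₂
    linear_combination hn₂
  have h8dvd : 8 ∣ dA - T₀ := by
    rw [hAtT] at hn₈
    have h' : dA + 7 * T₀ = 8 * (n₈ : ℤ) := by
      have : ((dA : ℂ) + 7 * (T₀ : ℂ)) = 8 * (n₈ : ℂ) := by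
        rw [hdA]; push_cast
        push_cast at hn₈
        linear_combination hn₈
      exact_mod_cast this
    omega
  set T : ℤ := σ * T₀ with hT
  have hAtt : At t = (T : ℂ) := by
    simp only [hAt, hAtT, map_intCast, hT]; push_cast; ring
  -- the Borel relation
  obtain ⟨c, hcg, hcI, hct, hcU, hcH⟩ := D.exists_c
  obtain ⟨ac, hac⟩ := exists_int_decomp hcg
  have hsumH : ∀ w : ℂ, ∑ h ∈ Finset.univ.erase (1 : H), w = ((m : ℂ) - 1) * w := fun w => by
    rw [Finset.sum_const, Finset.card_erase_of_mem (Finset.mem_univ _), Finset.card_univ,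
      ← Nat.card_eq_fintype_card, D.cardH, nsmul_eq_mul, Nat.cast_sub (by omega)]
    push_cast; ring
  have hsumU : ∀ (f : G → ℂ) (w : ℂ), (∀ u : U, u ≠ 1 → f (t * u) = w) →
      ∑ u : U, f (t * u) = f t + ((q : ℂ) - 1) * w := fun f w hw => by
    rw [← Finset.add_sum_erase Finset.univ _ (Finset.mem_univ (1 : U)),
      Finset.sum_congr rfl (fun u hu => hw u (Finset.mem_erase.1 hu).1), Finset.sum_const,
      Finset.card_erase_of_mem (Finset.mem_univ _), Finset.card_univ, ← Nat.card_eq_fintype_card, D.cardU,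
      nsmul_eq_mul, Nat.cast_sub (by have := D.q27; omega), OneMemClass.coe_one, mul_one]
    push_cast; ring
  have hcα : σ * ac A = 1 := by
    have hN : ∑ χ, ac χ * ac χ = 4 := by
      have h : ((∑ χ, ac χ * ac χ : ℤ) : ℂ) = 4 := by
        rw [← inner_decomp, ← hac, hcI _ (hcl hcg), hsumU (fun x => conj (c x)) 2 (fun u hu => by
            rw [hcU u u.2 (fun e => hu (Subtype.ext e))]; exact map_ofNat _ 2),
          Finset.sum_congr rfl (fun (h : H) hh => show conj (c (t * h)) = (4 : ℂ) by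
            rw [hcH h h.2 (fun e => (Finset.mem_erase.1 hh).1 (Subtype.ext e))]; exact map_ofNat _ 4), hsumH, hct,
          map_mul, map_ofNat, map_natCast]
        push_cast
        field_simp
        linear_combination (-2 : ℂ) * hqr
      exact_mod_cast h
    have hc1 : ac one = 1 := by
      have h : (ac one : ℂ) = 1 := by
        rw [← inner_decomp_irr, ← hac, hcI _ (isClassFunction_irr one)]
        simp only [hone, map_one, Finset.sum_const, Finset.card_univ, ← Nat.card_eq_fintype_card, D.cardU,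
          nsmul_eq_mul, mul_one, Finset.card_erase_of_mem (Finset.mem_univ (1 : H)), D.cardH,
          Nat.cast_sub (show 1 ≤ m by omega)]
        push_cast
        field_simp
        ring
      exact_mod_cast h
    have hp : ∀ j ∈ (Finset.univ : Finset (Fin 6)), ∑ χ, ac χ * ap (L j) χ = 2 := fun j _ => by
      have h : ((∑ χ, ac χ * ap (L j) χ : ℤ) : ℂ) = 2 := by
        rw [← inner_decomp, ← hac, ← hap, hcI _ (hcl (hfpg _)), hsumU (fun x => conj (fp (L j) x)) 0 (fun u hu => by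
          rw [hfpU (L j) u u.2, map_zero]), hfpt, map_zero]
        have h1 := sum_sub_two (L j) (hL1 j)
        rw [← Finset.add_sum_erase Finset.univ _ (Finset.mem_univ (1 : H)), hcardH] at h1
        simp only [inv_one, map_one, Units.val_one] at h1
        rw [Finset.sum_congr rfl (fun (h : H) hh => show conj (fp (L j) (t * h)) = 2 - (L j h : ℂ) - (L j h⁻¹ : ℂ) by
          rw [(hfpV (L j) h (Finset.mem_erase.1 hh).1).2, Units.val_one, one_mul, hconjval])]
        push_cast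
        field_simp
        linear_combination (q : ℂ) * h1
      exact_mod_cast h
    have h := bound ac 4 1 2 Finset.univ hN hc1 hp
    simp only [Finset.card_univ, Fintype.card_fin, Nat.cast_ofNat] at h
    set x := σ * ac A
    have h1 : x ≤ 1 := by by_contra hc; have : 2 ≤ x := (by omega); nlinarith
    have h2 : 1 ≤ x := by by_contra hc; have : x ≤ 0 := (by omega); nlinarith
    omega
  set S : ℂ := ∑ u ∈ Finset.univ.erase (1 : U), At (t * u) with hS
  have hTS : (T : ℂ) + S = q := by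
    have e1 : (σ : ℂ) * (ac A : ℂ) = 1 := by exact_mod_cast hcα
    rw [← inner_decomp_irr, ← hac, hcI _ (isClassFunction_irr A)] at e1
    have e2 : (σ : ℂ) * ∑ u : U, conj ((A : G → ℂ) (t * u)) = (T : ℂ) + S := by
      rw [Finset.mul_sum, ← Finset.add_sum_erase Finset.univ _ (Finset.mem_univ (1 : U)), OneMemClass.coe_one,
        mul_one, hS]
      exact congrArg (· + _) hAtt
    have e3 : (σ : ℂ) * ∑ h ∈ Finset.univ.erase (1 : H), conj ((A : G → ℂ) (t * h)) = (m : ℂ) - 1 := by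
      rw [Finset.mul_sum, Finset.sum_congr rfl (fun h hh => hAth h (Finset.mem_erase.1 hh).1), hsumH, mul_one]
    push_cast at e1
    field_simp at e1
    linear_combination e1 - e2 - (q : ℂ) * e3
  -- the relation from `U` and `R`
  haveI : IsMulCommutative U := ⟨⟨fun a b => Subtype.ext (D.Ucomm a a.2 b b.2)⟩⟩
  obtain ⟨φ, hφ⟩ : ∃ φ : U →* ℂˣ, φ ≠ 1 := by
    letI : CommGroup U := { mul_comm := mul_comm' }
    obtain ⟨u, hu, hu1⟩ := D.exists_U_ne
    obtain ⟨φ, hφ⟩ := CommGroup.exists_apply_ne_one_of_hasEnoughRootsOfUnity U ℂ (a := ⟨u, hu⟩)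
      (fun h => hu1 (congrArg Subtype.val h))
    exact ⟨φ, fun h => hφ (by rw [h]; rfl)⟩
  obtain ⟨ψ, hψg, hψI, hψt, hψU, hψH, hψR⟩ := D.exists_psi φ hφ
  choose th hthg hthI htht hthU hthH hthR using fun θ : R →* ℂˣ => D.exists_theta θ
  set Φ : (R →* ℂˣ) → G → ℂ := fun θ => ψ + ψ - th θ with hΦ
  have hΦg : ∀ θ, Cfsg.IsGeneralizedCharacter G (Φ θ) := fun θ =>
    IsGeneralizedCharacter.sub (IsGeneralizedCharacter.add hψg hψg) (hthg θ)
  choose aΦ haΦ using fun θ => exists_int_decomp (hΦg θ)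
  have hΦI : ∀ θ χ, Cfsg.IsClassFunction G χ → Cfsg.classInner (Φ θ) χ =
      2 * ((q : ℂ)⁻¹ * ∑ u : U, ((φ u : ℂ) + (φ u⁻¹ : ℂ)) * conj (χ (t * u))) -
        (r : ℂ)⁻¹ * ∑ ρ : R, (θ ρ : ℂ) * conj (χ (t * ρ)) := fun θ χ hχ => by
    simp only [hΦ, classInner_sub_left, classInner_add_left, hψI χ hχ, hthI θ χ hχ]
    ring
  have hφsum : ∑ u : U, ((φ u : ℂ) + (φ u⁻¹ : ℂ)) = 0 := by
    rw [Finset.sum_add_distrib, sum_lin_eq_zero φ hφ, zero_add, ← Equiv.sum_comp (Equiv.inv U)]
    simp only [Equiv.inv_apply, inv_inv]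
    exact sum_lin_eq_zero φ hφ
  have hφsum' : ∑ u ∈ Finset.univ.erase (1 : U), ((φ u : ℂ) + (φ u⁻¹ : ℂ)) = -2 := by
    rw [← Finset.add_sum_erase Finset.univ _ (Finset.mem_univ (1 : U))] at hφsum
    simp only [inv_one, map_one, Units.val_one] at hφsum
    linear_combination hφsum
  set αΦ : (R →* ℂˣ) → ℤ := fun θ => σ * aΦ θ A with hαΦ
  have hΦ1 : ∀ θ, (aΦ θ one : ℂ) = if θ = 1 then -1 else 0 := fun θ => by
    rw [← inner_decomp_irr, ← haΦ, hΦI θ _ (isClassFunction_irr one)]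
    simp only [hone, map_one, mul_one, hφsum, mul_zero, zero_sub]
    split_ifs with hθ
    · rw [hθ, sum_lin_one, hcardR, inv_mul_cancel₀ hr0]
    · rw [sum_lin_eq_zero θ hθ, mul_zero, neg_zero]
  have hΦp : ∀ θ, ∀ j ∈ (Finset.univ : Finset (Fin 6)), ∑ χ, aΦ θ χ * ap (L j) χ = 0 := fun θ j _ => by
    have h : ((∑ χ, aΦ θ χ * ap (L j) χ : ℤ) : ℂ) = 0 := by
      rw [← inner_decomp, ← haΦ, ← hap, hΦI θ _ (hcl (hfpg _)),
        Finset.sum_eq_zero (fun u _ => by rw [hfpU (L j) u (SetLike.coe_mem u), map_zero, mul_zero]),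
        Finset.sum_eq_zero (fun ρ _ => by rw [hfpR (L j) ρ (SetLike.coe_mem ρ), map_zero, mul_zero])]
      ring
    exact_mod_cast h
  have hΦN : ∀ θ : R →* ℂˣ, ((∑ χ, aΦ θ χ * aΦ θ χ : ℤ) : ℂ) = if θ = 1 then 8 else 4 := fun θ => by
    rw [← inner_decomp, ← haΦ, hΦI θ _ (hcl (hΦg θ))]
    have hvt : conj (Φ θ t) = 8 * m := by
      simp only [hΦ, Pi.add_apply, Pi.sub_apply, hψt, htht]
      rw [map_sub, map_add, map_mul, map_mul, map_ofNat, map_natCast, map_natCast, map_mul, map_mul, map_ofNat,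
        map_natCast, map_natCast]
      linear_combination (-8 * (m : ℂ)) * hqr
    have hU : ∑ u : U, ((φ u : ℂ) + (φ u⁻¹ : ℂ)) * conj (Φ θ (t * u)) = 2 * (8 * m) + (-2) * (-4) := by
      rw [← Finset.add_sum_erase Finset.univ _ (Finset.mem_univ (1 : U)), OneMemClass.coe_one, mul_one, hvt, inv_one,
        map_one, Units.val_one, ← hφsum', Finset.sum_mul]
      congr 1
      · ring
      refine Finset.sum_congr rfl fun u hu => ?_
      have hu1 : (u : G) ≠ 1 := fun e => (Finset.mem_erase.1 hu).1 (Subtype.ext e)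
      congr 1
      simp only [hΦ, Pi.add_apply, Pi.sub_apply, hψU u u.2 hu1, hthU θ u u.2 hu1]
      rw [map_sub, map_add, map_neg, map_ofNat, map_zero]
      norm_num
    have hR : ∑ ρ : R, (θ ρ : ℂ) * conj (Φ θ (t * ρ)) =
        8 * m - 4 * (((r : ℂ) - 1) + ((if θ = 1 then (r : ℂ) else 0) - 1)) := by
      rw [← Finset.add_sum_erase Finset.univ _ (Finset.mem_univ (1 : R)), OneMemClass.coe_one, mul_one, hvt, map_one,
        Units.val_one, one_mul]
      have hterm : ∀ ρ ∈ Finset.univ.erase (1 : R),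
          (θ ρ : ℂ) * conj (Φ θ (t * ρ)) = -4 * (1 + ((θ * θ) ρ : ℂ)) := by
        intro ρ hρ
        have hρ1 := (Finset.mem_erase.1 hρ).1
        simp only [hΦ, Pi.add_apply, Pi.sub_apply, hψR ρ ρ.2 (fun e => hρ1 (Subtype.ext e)), hthR θ ρ hρ1]
        rw [map_sub, map_add, map_zero, map_mul, map_ofNat, map_add, conj_lin, conj_lin, inv_inv,
          MonoidHom.mul_apply, Units.val_mul]
        have e : (θ ρ : ℂ) * (θ ρ⁻¹ : ℂ) = 1 := by
          rw [← Units.val_mul, ← map_mul, mul_inv_cancel, map_one, Units.val_one]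
        linear_combination (-4 : ℂ) * e
      rw [Finset.sum_congr rfl hterm, ← Finset.mul_sum, Finset.sum_add_distrib, Finset.sum_const,
        Finset.card_erase_of_mem (Finset.mem_univ _), Finset.card_univ, ← Nat.card_eq_fintype_card, D.cardR,
        nsmul_eq_mul, mul_one, Nat.cast_sub (show 1 ≤ r by rcases D.odd_r with ⟨k, hk⟩; omega)]
      have hsq : ∑ ρ ∈ Finset.univ.erase (1 : R), ((θ * θ) ρ : ℂ) = (if θ = 1 then (r : ℂ) else 0) - 1 := by
        split_ifs with hθ
        · subst hθ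
          simp [Finset.card_erase_of_mem, ← Nat.card_eq_fintype_card, D.cardR,
            Nat.cast_sub (show 1 ≤ r by rcases D.odd_r with ⟨k, hk⟩; omega)]
        · rw [sum_lin_ne_one _ (lin_inv_ne (D.cardR ▸ D.odd_r) hθ)]; ring
      rw [hsq]
      push_cast
      ring
    rw [hU, hR]
    split_ifs with hθ
    · field_simp
      linear_combination ((16 : ℂ) * r - 4 * q) * hqm * (-1) + (-4 : ℂ) * (q : ℂ) * hqr
    · field_simp
      linear_combination ((16 : ℂ) * r - 4 * q) * hqm * (-1) + (-4 : ℂ) * (q : ℂ) * hqr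
  have hα0 : ∀ θ : R →* ℂˣ, θ ≠ 1 → αΦ θ = 0 := fun θ hθ => by
    have hN : ∑ χ, aΦ θ χ * aΦ θ χ = 4 := by
      have := hΦN θ; rw [if_neg hθ] at this; exact_mod_cast this
    have hc0 : aΦ θ one = 0 := by
      have := hΦ1 θ; rw [if_neg hθ] at this; exact_mod_cast this
    have h := bound (aΦ θ) 4 0 0 Finset.univ hN hc0 (hΦp θ)
    simp only [Finset.card_univ, Fintype.card_fin, Nat.cast_ofNat] at h
    change σ * aΦ θ A = 0
    set x := σ * aΦ θ A
    have h1 : x ≤ 0 := by by_contra hc; have : 1 ≤ x := (by omega); nlinarith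
    have h2 : 0 ≤ x := by by_contra hc; have : x ≤ -1 := (by omega); nlinarith
    omega
  have hα1 : αΦ 1 = 0 ∨ αΦ 1 = 1 := by
    have hN : ∑ χ, aΦ 1 χ * aΦ 1 χ = 8 := by
      have := hΦN 1; rw [if_pos rfl] at this; exact_mod_cast this
    have hc0 : aΦ 1 one = -1 := by
      have := hΦ1 1; rw [if_pos rfl] at this; exact_mod_cast this
    have h := bound (aΦ 1) 8 (-1) 0 Finset.univ hN hc0 (hΦp 1)
    simp only [Finset.card_univ, Fintype.card_fin, Nat.cast_ofNat] at h
    change σ * aΦ 1 A = 0 ∨ σ * aΦ 1 A = 1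
    set x := σ * aΦ 1 A
    have h1 : x ≤ 1 := by by_contra hc; have : 2 ≤ x := (by omega); nlinarith
    have h2 : 0 ≤ x := by by_contra hc; have : x ≤ -1 := (by omega); nlinarith
    omega
  -- sum over the characters of `R`
  obtain ⟨lamR, hlamR⟩ := exists_faithful_lin R
  have hgenR : ∃ g : R, orderOf g = r := by rw [← D.cardR]; exact IsCyclic.exists_ofOrder_eq_natCard
  have hlamRpow : ∀ a < r, a ≠ 0 → lamR ^ a ≠ 1 := fun a har ha0 h => by
    obtain ⟨g, hg⟩ := hgenR
    have := orderOf_dvd_of_pow_eq_one (x := g) (n := a) (hlamR (by rw [map_pow, map_one]; exact DFunLike.congr_fun h g))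
    rw [hg] at this
    have := Nat.le_of_dvd (by omega) this
    omega
  have hrel : 2 * (r : ℂ) * (2 * (T : ℂ) - S / m) / q - T = (αΦ 1 : ℂ) := by
    have hsum : ∑ j ∈ Finset.range r, (αΦ (lamR ^ j) : ℂ) = (αΦ 1 : ℂ) := by
      rw [Finset.sum_eq_single 0 (fun j hj hj0 => by rw [hα0 _ (hlamRpow j (Finset.mem_range.1 hj) hj0)]; simp)
        (fun h => absurd (Finset.mem_range.2 (by rcases D.odd_r with ⟨k, hk⟩; omega)) h)]
      rw [show lamR ^ 0 = 1 from MonoidHom.ext fun x => pow_zero _]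
    have hval : ∀ θ : R →* ℂˣ, (αΦ θ : ℂ) =
        2 * ((q : ℂ)⁻¹ * ∑ u : U, ((φ u : ℂ) + (φ u⁻¹ : ℂ)) * At (t * u)) -
          (r : ℂ)⁻¹ * ∑ ρ : R, (θ ρ : ℂ) * At (t * ρ) := fun θ => by
      simp only [hαΦ, Int.cast_mul]
      rw [← inner_decomp_irr (aΦ θ) A, ← haΦ, hΦI θ _ (isClassFunction_irr A)]
      simp only [hAt, Finset.mul_sum, mul_sub]
      congr 1 <;> exact Finset.sum_congr rfl fun _ _ => by ring
    have hRsum : ∑ j ∈ Finset.range r, ∑ ρ : R, ((lamR ^ j) ρ : ℂ) * At (t * ρ) = (r : ℂ) * T := by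
      rw [Finset.sum_comm, Finset.sum_eq_single (1 : R)]
      · simp [hAtt]
      · intro ρ _ hρ
        rw [← Finset.sum_mul]
        have hne : (lamR ρ : ℂ) ≠ 1 := fun h => hρ (hlamR (Units.ext (by rw [h, map_one, Units.val_one])))
        have hpow : (lamR ρ : ℂ) ^ r = 1 := by
          rw [← Units.val_pow_eq_pow_val, ← map_pow, ← D.cardR, pow_card_eq_one', map_one, Units.val_one]
        rw [show ∑ j ∈ Finset.range r, ((lamR ^ j) ρ : ℂ) = ∑ j ∈ Finset.range r, (lamR ρ : ℂ) ^ j from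
          Finset.sum_congr rfl fun j _ => by simp, geom_sum_eq hne, hpow, sub_self, zero_div, zero_mul]
      · simp
    have hUsum : ∑ u : U, ((φ u : ℂ) + (φ u⁻¹ : ℂ)) * At (t * u) = 2 * (T : ℂ) - S / m := by
      rw [← Finset.add_sum_erase Finset.univ _ (Finset.mem_univ (1 : U)), OneMemClass.coe_one, mul_one, hAtt, inv_one,
        map_one, Units.val_one, one_add_one_eq_two]
      -- average over `H`
      set f₀ : U → ℂ := fun u => (φ u : ℂ) + (φ u⁻¹ : ℂ)
      have hperm : ∀ h : H, ∑ u ∈ Finset.univ.erase (1 : U), f₀ u * At (t * u) =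
          ∑ u ∈ Finset.univ.erase (1 : U), f₀ ⟨(h : G)⁻¹ * u * h, by
            have h' := D.HU (h : G)⁻¹ (inv_mem h.2) u u.2
            rwa [inv_inv] at h'⟩ * At (t * u) := by
        intro h
        refine Finset.sum_bij' (fun u _ => ⟨(h : G) * u * (h : G)⁻¹, D.HU h h.2 u u.2⟩)
          (fun u _ => ⟨(h : G)⁻¹ * u * h, by
            have h' := D.HU (h : G)⁻¹ (inv_mem h.2) u u.2
            rwa [inv_inv] at h'⟩) ?_ ?_ ?_ ?_ ?_
        · intro u hu
          refine Finset.mem_erase.2 ⟨fun e => (Finset.mem_erase.1 hu).1 (Subtype.ext ?_), Finset.mem_univ _⟩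
          exact conj_eq_one_iff.1 (congrArg Subtype.val e)
        · intro u hu
          refine Finset.mem_erase.2 ⟨fun e => (Finset.mem_erase.1 hu).1 (Subtype.ext ?_), Finset.mem_univ _⟩
          have e' : (h : G)⁻¹ * u * (h : G)⁻¹⁻¹ = 1 := by rw [inv_inv]; exact congrArg Subtype.val e
          exact conj_eq_one_iff.1 e'
        · intro u _; exact Subtype.ext (by show (h : G)⁻¹ * ((h : G) * u * (h : G)⁻¹) * h = u; group)
        · intro u _; exact Subtype.ext (by show (h : G) * ((h : G)⁻¹ * u * h) * (h : G)⁻¹ = u; group)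
        · intro u _
          have e1 : (⟨(h : G)⁻¹ * ((h : G) * u * (h : G)⁻¹) * h, by
            rw [show (h : G)⁻¹ * ((h : G) * u * (h : G)⁻¹) * h = u by group]; exact u.2⟩ : U) = u :=
            Subtype.ext (by show (h : G)⁻¹ * ((h : G) * u * (h : G)⁻¹) * h = u; group)
          show f₀ u * At (t * u) = f₀ _ * At (t * ((h : G) * u * (h : G)⁻¹))
          rw [e1]
          congr 1
          simp only [hAt]
          congr 2
          rw [show t * ((h : G) * u * (h : G)⁻¹) = t * (h : G) * (u * (h : G)⁻¹) by group, D.comm h (D.HK h.2),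
            show (h : G) * t * ((u : G) * (h : G)⁻¹) = (h : G) * (t * u) * (h : G)⁻¹ by group, isClassFunction_irr A]
      have havg : (m : ℂ) * ∑ u ∈ Finset.univ.erase (1 : U), f₀ u * At (t * u) = -S := by
        calc (m : ℂ) * ∑ u ∈ Finset.univ.erase (1 : U), f₀ u * At (t * u)
            = ∑ h : H, ∑ u ∈ Finset.univ.erase (1 : U), f₀ u * At (t * u) := by
              rw [Finset.sum_const, Finset.card_univ, ← Nat.card_eq_fintype_card, D.cardH, nsmul_eq_mul]
          _ = ∑ u ∈ Finset.univ.erase (1 : U), ∑ h : H, f₀ ⟨(h : G)⁻¹ * u * h, by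
              have h' := D.HU (h : G)⁻¹ (inv_mem h.2) u u.2
              rwa [inv_inv] at h'⟩ * At (t * u) := by
              rw [Finset.sum_congr rfl fun h _ => hperm h, Finset.sum_comm]
          _ = -S := by
              rw [hS, ← Finset.sum_neg_distrib]
              refine Finset.sum_congr rfl fun u hu => ?_
              rw [← Finset.sum_mul, D.sum_orbit φ hφ u.2 (fun e => (Finset.mem_erase.1 hu).1 (Subtype.ext e)) _
                (fun h => rfl), neg_one_mul]
      field_simp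
      linear_combination havg
    rw [← hsum, Finset.sum_congr rfl fun j _ => hval (lamR ^ j), Finset.sum_sub_distrib]
    simp only [← Finset.mul_sum, hRsum, hUsum, Finset.sum_const, Finset.card_range, nsmul_eq_mul]
    field_simp
  have h2T : 2 * T = (q + 1 : ℤ) + αΦ 1 * ((q : ℤ) - 1) := by
    have h : (2 : ℂ) * T = (q + 1 : ℂ) + (αΦ 1 : ℂ) * ((q : ℂ) - 1) := by
      rw [show S = (q : ℂ) - T by linear_combination hTS] at hrel
      field_simp at hrel
      refine mul_left_cancel₀ hq0 ?_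
      linear_combination 2 * hrel + (4 * (r : ℂ) * T - (T : ℂ) * q - (αΦ 1 : ℂ) * q) * hqm
        + ((T : ℂ) * q - q) * hqr
    exact_mod_cast h
  -- the count
  set κ : ℂ := ((centralizer ({t} : Set G)).index : ℂ) ^ 2 / (Nat.card G : ℂ) with hκ
  have hJ0 : ((centralizer ({t} : Set G)).index : ℂ) ≠ 0 := by exact_mod_cast index_ne_zero_of_finite
  have hG0 : (Nat.card G : ℂ) ≠ 0 := by exact_mod_cast Nat.card_pos.ne'
  have hκ0 : κ ≠ 0 := div_ne_zero (pow_ne_zero 2 hJ0) hG0
  set W : G → ℂ := fun x => ∑ χ : Cfsg.IrrCharacter G, (χ : G → ℂ) t * (χ : G → ℂ) t * conj ((χ : G → ℂ) x) / (χ : G → ℂ) 1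
    with hW
  have hWval : ∀ h : H, h ≠ 1 → κ * W h = 2 * m ∧ κ * W (t * h) = 2 * m := fun h hh => by
    have key : ∀ x : G, (x = (h : G) ∨ x = t * h) → κ * W x = 2 * m := fun x hx => by
      have e := class_mult_formula t t x
      rw [D.card_pairs h.2 (fun e => hh (Subtype.ext e)) hx, card_isConj] at e
      rw [hκ, hW]
      push_cast at e
      rw [e]
      ring
    exact ⟨key _ (Or.inl rfl), key _ (Or.inr rfl)⟩
  have hcount : κ * ∑ χ : Cfsg.IrrCharacter G, (ap (L 0) χ : ℂ) * ((χ : G → ℂ) t * (χ : G → ℂ) t / (χ : G → ℂ) 1) =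
      2 * m := by
    have hexp : ∀ χ : Cfsg.IrrCharacter G, (ap (L 0) χ : ℂ) = ((2 * m : ℕ) : ℂ)⁻¹ *
        ∑ h : H, (1 - (L 0 h : ℂ)) * (conj ((χ : G → ℂ) h) + ((1 : ℂˣ) : ℂ) * conj ((χ : G → ℂ) (t * h))) := fun χ => by
      rw [← inner_decomp_irr (ap (L 0)) χ, ← hap, hfpI _ _ (isClassFunction_irr χ)]
    calc κ * ∑ χ : Cfsg.IrrCharacter G, (ap (L 0) χ : ℂ) * ((χ : G → ℂ) t * (χ : G → ℂ) t / (χ : G → ℂ) 1)
        = ((2 * m : ℕ) : ℂ)⁻¹ * ∑ h : H, (1 - (L 0 h : ℂ)) * (κ * W h + κ * W (t * h)) := by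
          simp only [hexp, hW, Finset.mul_sum, Finset.sum_mul, Units.val_one, one_mul, ← Finset.sum_add_distrib]
          rw [Finset.sum_comm]
          exact Finset.sum_congr rfl fun h _ => Finset.sum_congr rfl fun χ _ => by ring
      _ = ((2 * m : ℕ) : ℂ)⁻¹ * ∑ h : H, (1 - (L 0 h : ℂ)) * (4 * m) := by
          congr 1
          refine Finset.sum_congr rfl fun h _ => ?_
          rcases eq_or_ne h 1 with rfl | hh
          · simp
          · rw [(hWval h hh).1, (hWval h hh).2]; ring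
      _ = 2 * m := by
          rw [← Finset.sum_mul, Finset.sum_sub_distrib, sum_lin_eq_zero _ (hL1 0), Finset.sum_const, Finset.card_univ,
            ← Nat.card_eq_fintype_card, D.cardH, nsmul_eq_mul]
          push_cast
          field_simp
          ring
  have hsupp : ∀ χ ∉ ({one, A, Z 0} : Finset (Cfsg.IrrCharacter G)), ap (L 0) χ = 0 := fun χ hχ => by
    simp only [Finset.mem_insert, Finset.mem_singleton, not_or] at hχ
    exact hfam0 0 χ hχ.1 hχ.2.1 hχ.2.2
  have hthree : ∀ F : Cfsg.IrrCharacter G → ℂ, ∑ χ, (ap (L 0) χ : ℂ) * F χ =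
      F one + (σ : ℂ) * F A + (τ 0 : ℂ) * F (Z 0) := fun F => by
    rw [← Finset.sum_subset (Finset.subset_univ ({one, A, Z 0} : Finset _)) (fun χ _ hχ => by simp [hsupp χ hχ]),
      Finset.sum_insert (by simp [hAone.symm, (hZone 0).symm]), Finset.sum_pair (hZA 0).symm, hfamA, hfamZ,
      hap1 _ (hL1 0)]
    push_cast; ring
  have hvalue : ∀ x, fp (L 0) x = 1 + (σ : ℂ) * (A : G → ℂ) x + (τ 0 : ℂ) * (Z 0 : G → ℂ) x := fun x => by
    rw [hap (L 0), Finset.sum_apply]
    simp only [Pi.smul_apply, smul_eq_mul]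
    rw [hthree (fun χ => (χ : G → ℂ) x)]
  set d : ℤ := σ * dA with hd
  have hdA' : (A : G → ℂ) 1 = (dA : ℂ) := by rw [irr_apply_one_eq_deg, hdA]; norm_cast
  have hσA1 : (σ : ℂ) * (A : G → ℂ) 1 = (d : ℂ) := by rw [hdA', hd]; push_cast; ring
  have hσAt : (σ : ℂ) * (A : G → ℂ) t = (T : ℂ) := by rw [hAtT, hT]; push_cast; ring
  have hZ1 : (τ 0 : ℂ) * (Z 0 : G → ℂ) 1 = -(1 + (d : ℂ)) := by
    have := hvalue 1; rw [hfp1, hσA1] at this; linear_combination -this
  have hZt : (τ 0 : ℂ) * (Z 0 : G → ℂ) t = -(1 + (T : ℂ)) := by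
    have := hvalue t; rw [hfpt, hσAt] at this; linear_combination -this
  have hA0 : (A : G → ℂ) 1 ≠ 0 := IsIrrCharacter.apply_one_ne_zero A.2
  have hZ0 : (Z 0 : G → ℂ) 1 ≠ 0 := IsIrrCharacter.apply_one_ne_zero (Z 0).2
  have hd0 : (d : ℂ) ≠ 0 := by rw [← hσA1]; exact mul_ne_zero (by exact_mod_cast hσ0) hA0
  have hτ0 : (τ 0 : ℂ) ≠ 0 := by
    have : τ 0 ≠ 0 := fun h => by simpa [h] using hτ 0
    exact_mod_cast this
  have hd1 : (1 : ℂ) + d ≠ 0 := fun h => mul_ne_zero hτ0 hZ0 (by rw [hZ1, h, neg_zero])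
  rw [hthree] at hcount
  have hA' : (σ : ℂ) * ((A : G → ℂ) t * (A : G → ℂ) t / (A : G → ℂ) 1) = (T : ℂ) ^ 2 / d := by
    rw [← hσA1, ← hσAt]; field_simp
  have hZ' : (τ 0 : ℂ) * ((Z 0 : G → ℂ) t * (Z 0 : G → ℂ) t / (Z 0 : G → ℂ) 1) = -((1 + (T : ℂ)) ^ 2 / (1 + d)) := by
    rw [show (1 + (T : ℂ)) = -((τ 0 : ℂ) * (Z 0 : G → ℂ) t) by rw [hZt]; ring,
      show (1 + (d : ℂ)) = -((τ 0 : ℂ) * (Z 0 : G → ℂ) 1) by rw [hZ1]; ring]
    field_simp
  rw [hA', hZ'] at hcount
  simp only [hone, one_mul, div_one] at hcount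
  have hGcard : (Nat.card G : ℂ) = 8 * r * m * q * ((centralizer ({t} : Set G)).index : ℂ) := by
    rw [← Subgroup.card_mul_index (centralizer ({t} : Set G)), D.card_cent]
    push_cast; ring
  refine ⟨d, T, αΦ 1, hα1, h2T, ?_, by exact_mod_cast hd0, ?_, ?_⟩
  · rw [hd, hT, ← mul_sub]; exact h8dvd.mul_left σ
  · rw [hd]
    have hdvd : dA ∣ (Nat.card G : ℤ) := by
      rw [hdA]; exact Int.natCast_dvd_natCast.2 (IsIrrCharacter.deg_dvd A.2)
    obtain ⟨w, hw⟩ := hdvd
    exact ⟨σ * w, by rw [hw, mul_mul_mul_comm, hσ, one_mul]⟩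
  · have h : ((centralizer ({t} : Set G)).index : ℂ) * ((d : ℂ) - T) ^ 2 =
        16 * (q : ℂ) * r * (m : ℂ) ^ 2 * ((d : ℂ) * (d + 1)) := by
      rw [hκ, hGcard] at hcount
      field_simp at hcount
      linear_combination hcount
    exact_mod_cast h

end Cfsg.Lib.ReeThree
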