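import Cfsg.Agent.ReeInvolveThree.CharExt

/-!
A group of Ree type without a section `S₃`: the four families of virtual characters.
-/

set_option autoImplicit false
set_option linter.style.haveILetI false
set_option linter.unusedSectionVars false

namespace Cfsg.Lib.ReeThree

open Cfsg.Lib.Chars
open Subgroup
open scoped ComplexConjugate

universe u v

variable {G : Type u} [Group G]

variable {t s z : G} {K U H R : Subgroup G} {q m r : ℕ} [Fintype G] (D : Frame t K q m r U H R s z)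
include D

theorem Frame.conj_h {k h : G} (hk : k ∈ K) (hh : h ∈ H) (hh1 : h ≠ 1) (hmem : k⁻¹ * h * k ∈ H) :
    ∃ a ∈ H, k = a ∨ k = a * s := by
  rcases D.Hnorm h hh hh1 k⁻¹ (inv_mem hk) (by rw [inv_inv]; exact hmem) with h' | h'
  · exact ⟨k, inv_mem_iff.1 h', Or.inl rfl⟩
  · refine ⟨k⁻¹ * s, h', Or.inr ?_⟩
    have h1 := D.sH _ h'
    rw [show s * (k⁻¹ * s) * s⁻¹ = s * k⁻¹ by group, _root_.mul_inv_rev, inv_inv,
      inv_eq_of_mul_eq_one_right D.ss] at h1
    have h2 : k⁻¹ = k⁻¹ * s * s := by rw [mul_assoc, D.ss, mul_one]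
    calc k = (k⁻¹)⁻¹ := (inv_inv k).symm
      _ = (k⁻¹ * s * s)⁻¹ := by rw [← h2]
      _ = s * (k⁻¹ * s)⁻¹ * s⁻¹ * s := by rw [_root_.mul_inv_rev, inv_eq_of_mul_eq_one_right D.ss]; simp [mul_assoc, D.ss]
      _ = k⁻¹ * s * s := by rw [D.sH _ (inv_mem h'), inv_inv]

theorem Frame.pow_tExt {A : Subgroup G} (hA : A ≤ K) : ∀ x ∈ tExt t A, x ^ (2 * Nat.card A) = 1 := fun x hx => by
  rw [← D.card_tExt hA]
  exact congrArg Subtype.val (pow_card_eq_one' (x := (⟨x, hx⟩ : tExt t A)))

theorem Frame.tK_pow_ne {A : Subgroup G} (hA : A ≤ K) {a : G} (ha : a ∈ K) {n : ℕ} (hn : orderOf a ∣ n)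
    (ha1 : a ≠ 1) (hcop : n.Coprime (2 * Nat.card A)) : (t * a) ^ (2 * Nat.card A) ≠ 1 := by
  intro h
  rw [(show Commute t a from D.comm a ha).mul_pow, pow_mul t 2, pow_two, D.tt, one_pow, one_mul] at h
  exact ha1 (eq_one_of_dvd_coprime hn (orderOf_dvd_of_pow_eq_one h) hcop)

theorem Frame.conj_U_cover {k u : G} (hk : k ∈ K) (hu : u ∈ U) (hu1 : u ≠ 1) (hmem : k⁻¹ * u * k ∈ U) :
    ∃ v ∈ U, ∃ h ∈ H, k = v * h := by
  obtain ⟨v, hv, h, hh, he⟩ := D.Unorm u hu hu1 k⁻¹ (inv_mem hk) (by rwa [inv_inv])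
  refine ⟨h⁻¹ * v⁻¹ * h, ?_, h⁻¹, inv_mem hh, ?_⟩
  · have := D.HU h⁻¹ (inv_mem hh) v⁻¹ (inv_mem hv)
    rwa [inv_inv] at this
  · rw [show h⁻¹ * v⁻¹ * h * h⁻¹ = (v * h)⁻¹ by group, ← he, inv_inv]

theorem Frame.disjoint_UH {v h : G} (hv : v ∈ U) (hh : h ∈ H) (e : v = h) : v = 1 ∧ h = 1 := by
  have h1 : v = 1 := eq_one_of_dvd_coprime (D.orderOf_U hv) (e ▸ D.orderOf_H hh) D.coprime_qm
  exact ⟨h1, e ▸ h1⟩

theorem Frame.UH_inj : Function.Injective (fun x : U × H => (x.1 : G) * x.2) := by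
  rintro ⟨⟨v, hv⟩, ⟨h, hh⟩⟩ ⟨⟨v', hv'⟩, ⟨h', hh'⟩⟩ e
  have e' : v * h = v' * h' := e
  have h1 : v'⁻¹ * v = h' * h⁻¹ := by
    calc v'⁻¹ * v = v'⁻¹ * (v * h) * h⁻¹ := by group
      _ = v'⁻¹ * (v' * h') * h⁻¹ := by rw [e']
      _ = h' * h⁻¹ := by group
  obtain ⟨ha, hb⟩ := D.disjoint_UH (mul_mem (inv_mem hv') hv) (mul_mem hh' (inv_mem hh)) h1
  exact Prod.ext (Subtype.ext (inv_mul_eq_one.1 ha).symm) (Subtype.ext (mul_inv_eq_one.1 hb).symm)

theorem Frame.pm_sq : ((-1 : ℂˣ)) * (-1) = 1 := by simp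

/-- The function induced from `(1 - λ)` with a sign at `t`. -/
theorem Frame.exists_f [Fintype H] (lam : H →* ℂˣ) (e : ℂˣ) (he : e * e = 1) :
    ∃ f : G → ℂ, Cfsg.IsGeneralizedCharacter G f ∧
      (∀ χ : G → ℂ, Cfsg.IsClassFunction G χ → Cfsg.classInner f χ = ((2 * m : ℕ) : ℂ)⁻¹ *
        ∑ h : H, (1 - (lam h : ℂ)) * (conj (χ h) + (e : ℂ) * conj (χ (t * h)))) ∧
      (∀ h : H, h ≠ 1 → f h = 2 - (lam h : ℂ) - (lam h⁻¹ : ℂ) ∧
        f (t * h) = (e : ℂ) * (2 - (lam h : ℂ) - (lam h⁻¹ : ℂ))) ∧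
      f 1 = 0 ∧ f t = 0 ∧ (∀ u ∈ U, f (t * u) = 0) ∧ (∀ ρ ∈ R, f (t * ρ) = 0) := by
  classical
  obtain ⟨F₁, hF₁, hF₁v⟩ := D.exists_lin D.HK 1 he
  obtain ⟨F₂, hF₂, hF₂v⟩ := D.exists_lin D.HK lam he
  set ψ := F₁ - F₂ with hψ
  have hval : ∀ a : H, Cfsg.extendByZero (tExt t H) ψ a = 1 - (lam a : ℂ) ∧
      Cfsg.extendByZero (tExt t H) ψ (t * a) = (e : ℂ) * (1 - (lam a : ℂ)) := fun a => by
    have hsub : ∀ x, Cfsg.extendByZero (tExt t H) ψ x =
        Cfsg.extendByZero (tExt t H) F₁ x - Cfsg.extendByZero (tExt t H) F₂ x := fun x => by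
      by_cases hx : x ∈ tExt t H <;> simp [hψ, extendByZero_mem, extendByZero_not_mem, hx]
    rw [hsub, hsub, (hF₁v a).1, (hF₁v a).2, (hF₂v a).1, (hF₂v a).2]
    simp [mul_sub]
  have hψg : Cfsg.IsGeneralizedCharacter (tExt t H) ψ := ⟨F₁, F₂, hF₁, hF₂, rfl⟩
  have hzero : Cfsg.indFun (tExt t H) ψ 1 = 0 := by
    rw [indFun_one]
    have h := (hval 1).1
    rw [OneMemClass.coe_one, extendByZero_mem _ (one_mem _)] at h
    rw [show (1 : tExt t H) = ⟨1, one_mem _⟩ from rfl, h]
    simp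
  have ht0 : Cfsg.indFun (tExt t H) ψ t = 0 := by
    rw [D.ind_value D.HK ψ t (Subtype.val : K → G) (fun i => i.2) Subtype.val_injective rfl (fun g hg => by
      obtain ⟨hgt, -⟩ := D.conj_t_mem (g := g) D.HK (D.cardH ▸ D.odd_m) (one_mem K) (by simp) (by rwa [mul_one])
      obtain ⟨k, hk, h⟩ := D.split g hgt
      exact ⟨k, h, ⟨k, hk⟩, rfl⟩)]
    have hterm : ∀ i : K, Cfsg.extendByZero (tExt t H) ψ ((i : G)⁻¹ * t * i) = 0 := fun i => by
      rw [mul_assoc, D.comm _ i.2, inv_mul_cancel_left]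
      have h := (hval 1).2
      simp only [OneMemClass.coe_one, mul_one, map_one, Units.val_one, sub_self, mul_zero] at h
      exact h
    rw [Finset.sum_eq_zero fun i _ => hterm i, mul_zero]
  refine ⟨Cfsg.indFun (tExt t H) ψ, IsGeneralizedCharacter.indFun hψg, fun χ hχ => ?_, fun h hh => ?_, hzero, ht0,
    ?_, ?_⟩
  · rw [D.ind_inner D.HK ψ hχ, D.cardH]
    congr 1
    refine Finset.sum_congr rfl fun a _ => ?_
    rw [(hval a).1, (hval a).2]
    ring
  · -- values on the torus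
    have hh1 : (h : G) ≠ 1 := fun e' => hh (Subtype.ext e')
    let e' : Bool × H → G := fun w => (w.2 : G) * (if w.1 then s else 1)
    have hinj : Function.Injective e' := by
      rintro ⟨b, a⟩ ⟨b', a'⟩ hab
      simp only [e'] at hab
      have hbb : b = b' := by
        by_contra hne
        have key : ∀ a a' : H, (a : G) * s = a' → False := fun a a' h' => D.s1 (eq_one_of_odd_sq (D.odd_H (g := s) (by
          rw [show s = (a : G)⁻¹ * a' by rw [← h']; group]; exact mul_mem (inv_mem a.2) a'.2)) D.ss)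
        cases b <;> cases b' <;>
          first
            | exact hne rfl
            | (simp only [Bool.false_eq_true, if_false, if_true, mul_one] at hab
               first
                 | exact key a a' hab
                 | exact key a' a hab.symm)
      subst hbb
      exact Prod.ext rfl (Subtype.ext (mul_right_cancel hab))
    have heK : ∀ w, e' w ∈ K := fun ⟨b, a⟩ => mul_mem (D.HK a.2) (by cases b <;> simp [D.sK])
    have hconj : ∀ (b : Bool) (a : H), (e' (b, a))⁻¹ * (h : G) * e' (b, a) = if b then (h : G)⁻¹ else h := by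
      intro b a
      cases b
      · simp only [e', Bool.false_eq_true, if_false, mul_one]
        rw [mul_assoc, D.H_comm h.2 a.2, inv_mul_cancel_left]
      · simp only [e', if_true]
        rw [_root_.mul_inv_rev, show s⁻¹ * (a : G)⁻¹ * h * (a * s) = s⁻¹ * ((a : G)⁻¹ * (h * a)) * s by group,
          D.H_comm h.2 a.2, inv_mul_cancel_left, inv_eq_of_mul_eq_one_right D.ss]
        have := D.sH h h.2
        rwa [inv_eq_of_mul_eq_one_right D.ss] at this
    have hcov : ∀ g : G, g * t = t * g → g⁻¹ * (h : G) * g ∈ H → ∃ k, (g = k ∨ g = t * k) ∧ ∃ w, e' w = k := by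
      intro g hgt hg
      obtain ⟨k, hk, hgk⟩ := D.split g hgt
      refine ⟨k, hgk, ?_⟩
      have hkh : k⁻¹ * (h : G) * k ∈ H := by
        rcases hgk with rfl | rfl
        · exact hg
        · rw [show k⁻¹ * (h : G) * k = k⁻¹ * (t⁻¹ * (h * t)) * k by
            rw [← D.comm _ (D.HK h.2), inv_mul_cancel_left]]
          convert hg using 1
          group
      obtain ⟨a, ha, rfl | rfl⟩ := D.conj_h hk h.2 hh1 hkh
      · exact ⟨(false, ⟨k, ha⟩), by simp [e']⟩
      · exact ⟨(true, ⟨a, ha⟩), by simp [e']⟩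
    have hm0 : (m : ℂ) ≠ 0 := by
      have := D.m13
      exact_mod_cast (show m ≠ 0 by omega)
    constructor
    · rw [D.ind_value D.HK ψ h e' heK hinj (D.comm h (D.HK h.2)) (fun g hg => ?_)]
      · have hv : ∀ w, Cfsg.extendByZero (tExt t H) ψ ((e' w)⁻¹ * (h : G) * e' w) =
            if w.1 then 1 - (lam h⁻¹ : ℂ) else 1 - (lam h : ℂ) := by
          rintro ⟨b, a⟩
          rw [hconj]
          cases b
          · simp [(hval h).1]
          · simp only [if_true]
            rw [← InvMemClass.coe_inv, (hval h⁻¹).1]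
        rw [Finset.sum_congr rfl fun w _ => hv w, Fintype.sum_prod_type, Fintype.sum_bool]
        simp only [if_true, Bool.false_eq_true, if_false, Finset.sum_const, Finset.card_univ,
          ← Nat.card_eq_fintype_card, D.cardH, nsmul_eq_mul]
        field_simp
        ring
      · obtain ⟨a, ha, hga | hga⟩ := D.mem_tExt D.HK hg
        · refine hcov g ?_ (hga ▸ ha)
          -- `t` is the involution of the centraliser of the image
          have ha1 : a ≠ 1 := fun e'' => hh1 (by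
            rw [e''] at hga
            calc (h : G) = g * (g⁻¹ * h * g) * g⁻¹ := by group
              _ = 1 := by rw [hga]; group)
          have hc : g⁻¹ * t * g * a = a * (g⁻¹ * t * g) := by
            rw [← hga]
            calc g⁻¹ * t * g * (g⁻¹ * h * g) = g⁻¹ * (t * h) * g := by group
              _ = g⁻¹ * ((h : G) * t) * g := by rw [D.comm h (D.HK h.2)]
              _ = g⁻¹ * h * g * (g⁻¹ * t * g) := by group
          obtain ⟨b, hb, hb'⟩ := D.cent_H ha ha1 hc
          have hinv : g⁻¹ * t * g * (g⁻¹ * t * g) = 1 := by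
            rw [show g⁻¹ * t * g * (g⁻¹ * t * g) = g⁻¹ * (t * t) * g by group, D.tt]; group
          rcases hb' with hb' | hb'
          · rw [hb'] at hinv
            have h1 := eq_one_of_odd_sq (D.odd_H hb) hinv
            rw [h1] at hb'
            exact absurd (by
              calc t = g * (g⁻¹ * t * g) * g⁻¹ := by group
                _ = 1 := by rw [hb']; group) D.t1
          · rw [hb', show t * b * (t * b) = t * (b * t) * b by group, ← D.comm b (D.HK hb),
              show t * (t * b) * b = (t * t) * (b * b) by group, D.tt, one_mul] at hinv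
            rw [eq_one_of_odd_sq (D.odd_H hb) hinv, mul_one] at hb'
            calc g * t = g * (g⁻¹ * t * g) := by rw [hb']
              _ = t * g := by group
        · exfalso
          have h1 : (g⁻¹ * (h : G) * g) ^ orderOf (h : G) = 1 := by
            have := conj_pow (i := orderOf (h : G)) (b := (h : G)) (a := g⁻¹)
            rw [inv_inv, pow_orderOf_eq_one] at this
            rw [this]; group
          rw [hga, (show Commute t a from D.comm a (D.HK ha)).mul_pow] at h1
          obtain ⟨j, hj⟩ := D.odd_H h.2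
          rw [hj, pow_succ, pow_mul, pow_two, D.tt, one_pow, one_mul] at h1
          exact D.tK (by rw [eq_inv_of_mul_eq_one_left h1]; exact inv_mem (pow_mem (D.HK ha) _))
    · rw [D.ind_value D.HK ψ (t * h) e' heK hinj (by
        rw [mul_assoc t (h : G) t, ← D.comm _ (D.HK h.2)]) (fun g hg => ?_)]
      · have hv : ∀ w, Cfsg.extendByZero (tExt t H) ψ ((e' w)⁻¹ * (t * (h : G)) * e' w) =
            (e : ℂ) * if w.1 then 1 - (lam h⁻¹ : ℂ) else 1 - (lam h : ℂ) := by
          rintro ⟨b, a⟩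
          rw [show (e' (b, a))⁻¹ * (t * (h : G)) * e' (b, a) = ((e' (b, a))⁻¹ * t) * (h * e' (b, a)) by group,
            ← (show Commute t (e' (b, a))⁻¹ from D.comm _ (inv_mem (heK _))).eq,
            show t * (e' (b, a))⁻¹ * ((h : G) * e' (b, a)) = t * ((e' (b, a))⁻¹ * h * e' (b, a)) by group, hconj]
          cases b
          · simp [(hval h).2]
          · simp only [if_true]
            rw [← InvMemClass.coe_inv, (hval h⁻¹).2]
        rw [Finset.sum_congr rfl fun w _ => hv w, Fintype.sum_prod_type, Fintype.sum_bool]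
        simp only [if_true, Bool.false_eq_true, if_false, Finset.sum_const, Finset.card_univ,
          ← Nat.card_eq_fintype_card, D.cardH, nsmul_eq_mul]
        field_simp
        ring
      · obtain ⟨hgt, hga⟩ := D.conj_t_mem D.HK (D.cardH ▸ D.odd_m) (D.HK h.2) (D.odd_H h.2) hg
        exact hcov g hgt hga
  · intro u hu
    rcases eq_or_ne u 1 with rfl | hu1
    · rw [mul_one]; exact ht0
    refine indFun_zero_of_pow _ _ _ (2 * Nat.card H) (D.pow_tExt D.HK) (D.tK_pow_ne D.HK (D.UK hu) (D.orderOf_U hu) hu1 ?_)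
    rw [D.cardH]
    exact D.odd_q.coprime_two_right.mul_right D.coprime_qm
  · intro ρ hρ
    rcases eq_or_ne ρ 1 with rfl | hρ1
    · rw [mul_one]; exact ht0
    refine indFun_zero_of_pow _ _ _ (2 * Nat.card H) (D.pow_tExt D.HK) (D.tK_pow_ne D.HK (D.RK hρ) (D.orderOf_R hρ) hρ1 ?_)
    rw [D.cardH]
    exact D.odd_r.coprime_two_right.mul_right D.coprime_mr.symm

end Cfsg.Lib.ReeThree
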