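import Cfsg.Agent.ReeInvolveThree.CharValues

/-!
A group of Ree type without a section `S₃`: further virtual characters, from the Borel subgroup, the
Sylow `3`-subgroup and the cyclic group `R`.
-/

set_option autoImplicit false
set_option linter.style.haveILetI false
set_option linter.unusedSectionVars false

namespace Cfsg.Lib.ReeThree

open Cfsg.Lib.Chars
open Subgroup
open scoped ComplexConjugate

universe u v

variable {G : Type u} [Group G]

variable {t s z : G} {K U H R : Subgroup G} {q m r : ℕ} [Fintype G] (D : Frame t K q m r U H R s z)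
include D

/-- `(1 - ε) φ` on `⟨t⟩ × A`. -/
theorem Frame.exists_odd_part {A : Subgroup G} (hA : A ≤ K) (f : A →* ℂˣ) :
    ∃ ψ : tExt t A → ℂ, Cfsg.IsGeneralizedCharacter (tExt t A) ψ ∧
      ∀ a : A, Cfsg.extendByZero (tExt t A) ψ a = 0 ∧
        Cfsg.extendByZero (tExt t A) ψ (t * a) = 2 * (f a : ℂ) := by
  obtain ⟨F₁, hF₁, hF₁v⟩ := D.exists_lin hA f (one_mul (1 : ℂˣ))
  obtain ⟨F₂, hF₂, hF₂v⟩ := D.exists_lin hA f D.pm_sq
  refine ⟨F₁ - F₂, ⟨F₁, F₂, hF₁, hF₂, rfl⟩, fun a => ?_⟩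
  have hsub : ∀ x, Cfsg.extendByZero (tExt t A) (F₁ - F₂) x =
      Cfsg.extendByZero (tExt t A) F₁ x - Cfsg.extendByZero (tExt t A) F₂ x := fun x => by
    by_cases hx : x ∈ tExt t A <;> simp [extendByZero_mem, extendByZero_not_mem, hx]
  rw [hsub, hsub, (hF₁v a).1, (hF₁v a).2, (hF₂v a).1, (hF₂v a).2]
  constructor
  · simp
  · simp; ring

theorem Frame.ind_inner_odd {A : Subgroup G} [Fintype A] (hA : A ≤ K) {ψ : tExt t A → ℂ} {f : A → ℂ}
    (hv : ∀ a : A, Cfsg.extendByZero (tExt t A) ψ a = 0 ∧ Cfsg.extendByZero (tExt t A) ψ (t * a) = 2 * f a)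
    {χ : G → ℂ} (hχ : Cfsg.IsClassFunction G χ) :
    Cfsg.classInner (Cfsg.indFun (tExt t A) ψ) χ = (Nat.card A : ℂ)⁻¹ * ∑ a : A, f a * conj (χ (t * a)) := by
  rw [D.ind_inner hA ψ hχ, Finset.mul_sum, Finset.mul_sum]
  refine Finset.sum_congr rfl fun a _ => ?_
  rw [(hv a).1, (hv a).2]
  have : (Nat.card A : ℂ) ≠ 0 := by exact_mod_cast Nat.card_pos.ne'
  push_cast
  field_simp
  ring

/-- The value at `t a`. -/
theorem Frame.ind_value_odd {A : Subgroup G} (hA : A ≤ K) (hAo : Odd (Nat.card A)) {ψ : tExt t A → ℂ} {f : A → ℂ}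
    (hv : ∀ a : A, Cfsg.extendByZero (tExt t A) ψ a = 0 ∧ Cfsg.extendByZero (tExt t A) ψ (t * a) = 2 * f a)
    {a : G} (ha : a ∈ K) (hao : Odd (orderOf a)) {ι : Type v} [Fintype ι] (e : ι → G) (heK : ∀ i, e i ∈ K)
    (he : Function.Injective e) (hmem : ∀ i, (e i)⁻¹ * a * e i ∈ A)
    (hcover : ∀ k ∈ K, k⁻¹ * a * k ∈ A → ∃ i, e i = k) :
    Cfsg.indFun (tExt t A) ψ (t * a) = 2 * (Nat.card A : ℂ)⁻¹ * ∑ i, f ⟨(e i)⁻¹ * a * e i, hmem i⟩ := by
  rw [D.ind_value hA ψ (t * a) e heK he (by rw [mul_assoc t a t, ← D.comm a ha]) (fun g hg => ?_)]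
  · have hterm : ∀ i, Cfsg.extendByZero (tExt t A) ψ ((e i)⁻¹ * (t * a) * e i) =
        2 * f ⟨(e i)⁻¹ * a * e i, hmem i⟩ := fun i => by
      rw [show (e i)⁻¹ * (t * a) * e i = ((e i)⁻¹ * t) * (a * e i) by group,
        ← D.comm _ (inv_mem (heK i)), show t * (e i)⁻¹ * (a * e i) = t * ((e i)⁻¹ * a * e i) by group]
      exact (hv ⟨_, hmem i⟩).2
    rw [Finset.sum_congr rfl fun i _ => hterm i, ← Finset.mul_sum]
    ring
  · obtain ⟨hgt, hga⟩ := D.conj_t_mem hA hAo ha hao hg
    obtain ⟨k, hk, hgk⟩ := D.split g hgt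
    refine ⟨k, hgk, hcover k hk ?_⟩
    rcases hgk with rfl | rfl
    · exact hga
    · rw [show k⁻¹ * a * k = k⁻¹ * (t⁻¹ * (a * t)) * k by rw [← D.comm a ha, inv_mul_cancel_left]]
      convert hga using 1
      group

/-- The value at `t`. -/
theorem Frame.ind_value_t {A : Subgroup G} (hA : A ≤ K) (hAo : Odd (Nat.card A)) {ψ : tExt t A → ℂ} {f : A → ℂ}
    (hv : ∀ a : A, Cfsg.extendByZero (tExt t A) ψ a = 0 ∧ Cfsg.extendByZero (tExt t A) ψ (t * a) = 2 * f a) :
    Cfsg.indFun (tExt t A) ψ t = 2 * (Nat.card A : ℂ)⁻¹ * ((4 * r * m * q : ℕ) : ℂ) * f 1 := by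
  classical
  haveI := Fintype.ofFinite K
  have h := D.ind_value_odd hA hAo hv (a := 1) (one_mem K) (by simp) (Subtype.val : K → G) (fun i => i.2)
    Subtype.val_injective (fun i => by rw [mul_one, inv_mul_cancel]; exact one_mem A)
    (fun k hk _ => ⟨⟨k, hk⟩, rfl⟩)
  rw [mul_one] at h
  rw [h, Finset.sum_congr rfl fun i _ => (congrArg f (Subtype.ext (by simp)) : _ = f 1), Finset.sum_const,
    Finset.card_univ, ← Nat.card_eq_fintype_card, D.cardK, nsmul_eq_mul]
  ring

/-- The torus normalises `U`. -/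
theorem Frame.exists_borel : ∃ B : Subgroup G, B ≤ K ∧ Nat.card B = q * m ∧
    (∀ v ∈ U, ∀ h ∈ H, v * h ∈ B) ∧ ∀ x ∈ B, ∃ v ∈ U, ∃ h ∈ H, x = v * h := by
  classical
  let B : Subgroup G :=
    { carrier := {x | ∃ v ∈ U, ∃ h ∈ H, x = v * h}
      one_mem' := ⟨1, one_mem U, 1, one_mem H, (one_mul 1).symm⟩
      inv_mem' := by
        rintro x ⟨v, hv, h, hh, rfl⟩
        refine ⟨h⁻¹ * v⁻¹ * h, ?_, h⁻¹, inv_mem hh, by group⟩
        have := D.HU h⁻¹ (inv_mem hh) v⁻¹ (inv_mem hv)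
        rwa [inv_inv] at this
      mul_mem' := by
        rintro x y ⟨v, hv, h, hh, rfl⟩ ⟨v', hv', h', hh', rfl⟩
        exact ⟨v * (h * v' * h⁻¹), mul_mem hv (D.HU h hh v' hv'), h * h', mul_mem hh hh', by group⟩ }
  refine ⟨B, ?_, ?_, fun v hv h hh => ⟨v, hv, h, hh, rfl⟩, fun x hx => hx⟩
  · rintro x ⟨v, hv, h, hh, rfl⟩
    exact mul_mem (D.UK hv) (D.HK hh)
  · let f : U × H → B := fun x => ⟨(x.1 : G) * x.2, x.1, x.1.2, x.2, x.2.2, rfl⟩
    have hf : Function.Bijective f := by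
      refine ⟨fun x y h => D.UH_inj (congrArg Subtype.val h), ?_⟩
      rintro ⟨x, v, hv, h, hh, rfl⟩
      exact ⟨(⟨v, hv⟩, ⟨h, hh⟩), rfl⟩
    rw [← Nat.card_congr (Equiv.ofBijective f hf), Nat.card_prod, D.cardU, D.cardH]

/-- Every element of `UH` outside `U` is conjugate to an element of `H` by an element of `U`. -/
theorem Frame.conj_borel {h : G} (hh : h ∈ H) (hh1 : h ≠ 1) {v : G} (hv : v ∈ U) :
    ∃ w ∈ U, v * h = w * h * w⁻¹ := by
  classical
  let f : U → U := fun w => ⟨(w : G) * (h * (w : G)⁻¹ * h⁻¹), mul_mem w.2 (D.HU h hh _ (inv_mem w.2))⟩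
  have hinj : Function.Injective f := by
    rintro ⟨a, ha⟩ ⟨b, hb⟩ e
    have e' : a * (h * a⁻¹ * h⁻¹) = b * (h * b⁻¹ * h⁻¹) := congrArg Subtype.val e
    have hc : b⁻¹ * a * h = h * (b⁻¹ * a) := by
      calc b⁻¹ * a * h = b⁻¹ * (a * (h * a⁻¹ * h⁻¹)) * h * a := by group
        _ = b⁻¹ * (b * (h * b⁻¹ * h⁻¹)) * h * a := by rw [e']
        _ = h * (b⁻¹ * a) := by group
    have hbaU : b⁻¹ * a ∈ U := mul_mem (inv_mem hb) ha
    have h' := D.disjoint_UH hbaU (D.Hcent h hh hh1 _ (D.UK hbaU) hc) rfl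
    exact Subtype.ext (inv_mul_eq_one.1 h'.1).symm
  obtain ⟨w, hw⟩ := (Finite.injective_iff_surjective.1 hinj) ⟨v, hv⟩
  have hw' : (w : G) * (h * (w : G)⁻¹ * h⁻¹) = v := congrArg Subtype.val hw
  exact ⟨w, w.2, by rw [← hw']; group⟩

theorem Frame.borel_U {B : Subgroup G} (hBdec : ∀ x ∈ B, ∃ v ∈ U, ∃ h ∈ H, x = v * h) {x : G} (hx : x ∈ B)
    (hx3 : x ^ 3 = 1) : x ∈ U := by
  obtain ⟨v, hv, h, hh, rfl⟩ := hBdec x hx
  rcases eq_or_ne h 1 with rfl | hh1
  · rwa [mul_one]
  exfalso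
  obtain ⟨w, -, he⟩ := D.conj_borel hh hh1 hv
  rw [he, conj_pow, mul_inv_eq_one, mul_eq_left] at hx3
  exact hh1 (eq_one_of_dvd_coprime (orderOf_dvd_of_pow_eq_one hx3) (D.orderOf_H hh)
    (Nat.prime_three.coprime_iff_not_dvd.2 D.three_not_dvd_m))

/-- The function induced from the Borel subgroup. -/
theorem Frame.exists_c [Fintype U] [Fintype H] [DecidableEq H] : ∃ c : G → ℂ, Cfsg.IsGeneralizedCharacter G c ∧
    (∀ χ : G → ℂ, Cfsg.IsClassFunction G χ → Cfsg.classInner c χ = ((q * m : ℕ) : ℂ)⁻¹ *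
      ((∑ u : U, conj (χ (t * u))) + (q : ℂ) * ∑ h ∈ Finset.univ.erase (1 : H), conj (χ (t * h)))) ∧
    c t = 8 * r ∧ (∀ u ∈ U, u ≠ 1 → c (t * u) = 2) ∧ (∀ h ∈ H, h ≠ 1 → c (t * h) = 4) := by
  classical
  obtain ⟨B, hBK, hBc, hBmem, hBdec⟩ := D.exists_borel
  haveI := Fintype.ofFinite B
  have hBo : Odd (Nat.card B) := hBc ▸ D.odd_q.mul D.odd_m
  obtain ⟨ψ, hψg, hψv⟩ := D.exists_odd_part hBK 1
  have hψv' : ∀ a : B, Cfsg.extendByZero (tExt t B) ψ a = 0 ∧
      Cfsg.extendByZero (tExt t B) ψ (t * a) = 2 * (fun _ : B => (1 : ℂ)) a := fun a => by simpa using hψv a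
  have hq0 : (q : ℂ) ≠ 0 := by have := D.q27; exact_mod_cast (show q ≠ 0 by omega)
  have hm0 : (m : ℂ) ≠ 0 := by have := D.m13; exact_mod_cast (show m ≠ 0 by omega)
  refine ⟨Cfsg.indFun (tExt t B) ψ, IsGeneralizedCharacter.indFun hψg, fun χ hχ => ?_, ?_, ?_, ?_⟩
  · rw [D.ind_inner_odd hBK hψv' hχ, hBc]
    congr 1
    let f : U × H → B := fun x => ⟨(x.1 : G) * x.2, hBmem _ x.1.2 _ x.2.2⟩
    have hf : Function.Bijective f := by
      refine ⟨fun x y h => D.UH_inj (congrArg Subtype.val h), ?_⟩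
      rintro ⟨x, hx⟩
      obtain ⟨v, hv, h, hh, rfl⟩ := hBdec x hx
      exact ⟨(⟨v, hv⟩, ⟨h, hh⟩), rfl⟩
    rw [← Equiv.sum_comp (Equiv.ofBijective f hf), Fintype.sum_prod_type_right]
    simp only [one_mul]
    rw [← Finset.add_sum_erase Finset.univ _ (Finset.mem_univ (1 : H)), Finset.mul_sum]
    congr 1
    · refine Finset.sum_congr rfl fun u _ => ?_
      simp [f]
    · refine Finset.sum_congr rfl fun h hh => ?_
      have hh1 : (h : G) ≠ 1 := fun e => (Finset.mem_erase.1 hh).1 (Subtype.ext e)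
      have hconst : ∀ u : U, conj (χ (t * ((Equiv.ofBijective f hf) (u, h) : G))) = conj (χ (t * h)) := by
        intro u
        obtain ⟨w, hw, he⟩ := D.conj_borel h.2 hh1 u.2
        congr 1
        show χ (t * ((u : G) * h)) = χ (t * h)
        rw [he, show t * (w * (h : G) * w⁻¹) = t * w * (h * w⁻¹) by group, D.comm w (D.UK hw),
          show w * t * ((h : G) * w⁻¹) = w * (t * h) * w⁻¹ by group, hχ]
      rw [Finset.sum_congr rfl fun u _ => hconst u, Finset.sum_const, Finset.card_univ,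
        ← Nat.card_eq_fintype_card, D.cardU, nsmul_eq_mul]
  · rw [D.ind_value_t hBK hBo hψv', hBc]
    push_cast
    field_simp
    ring
  · intro u hu hu1
    rw [D.ind_value_odd hBK hBo hψv' (D.UK hu) (D.odd_U hu) (fun x : U × H => (x.1 : G) * x.2)
      (fun x => mul_mem (D.UK x.1.2) (D.HK x.2.2)) D.UH_inj
      (fun x => mul_mem (mul_mem (inv_mem (hBmem _ x.1.2 _ x.2.2))
        (by simpa using hBmem u hu 1 (one_mem H))) (hBmem _ x.1.2 _ x.2.2))
      (fun k hk hk' => by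
        obtain ⟨v, hv, h, hh, rfl⟩ := D.conj_U_cover hk hu hu1 (D.borel_U hBdec hk' (by
          have h3 := conj_pow (i := 3) (a := k⁻¹) (b := u)
          rw [inv_inv, D.Ucube u hu] at h3
          rw [h3]; group))
        exact ⟨(⟨v, hv⟩, ⟨h, hh⟩), rfl⟩)]
    simp only [Finset.sum_const, Finset.card_univ, ← Nat.card_eq_fintype_card, Nat.card_prod, D.cardU, D.cardH,
      hBc, nsmul_eq_mul, mul_one]
    push_cast
    field_simp
  · intro h hh hh1
    let e : U × Bool × H → G := fun x => (x.2.2 : G) * (if x.2.1 then s else 1) * x.1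
    have hinj : Function.Injective e := by
      rintro ⟨v, b, a⟩ ⟨v', b', a'⟩ he
      simp only [e] at he
      have hbb : b = b' := by
        by_contra hne
        have key : ∀ (a a' : H) (v v' : U), (a : G) * s * v = a' * v' → False := by
          intro a a' v v' h'
          have h1 : (a' : G)⁻¹ * (a * s) = v' * (v : G)⁻¹ := by
            calc (a' : G)⁻¹ * (a * s) = (a' : G)⁻¹ * (a * s * v) * (v : G)⁻¹ := by group
              _ = (a' : G)⁻¹ * (a' * v') * (v : G)⁻¹ := by rw [h']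
              _ = v' * (v : G)⁻¹ := by group
          set c := (a' : G)⁻¹ * a with hc
          have hcH : c ∈ H := mul_mem (inv_mem a'.2) a.2
          have hcs : c * s * (c * s) = 1 := by
            have := D.sH c hcH
            calc c * s * (c * s) = c * (s * c * s⁻¹) * (s * s) := by group
              _ = 1 := by rw [this, D.ss, mul_inv_cancel, one_mul]
          rw [← mul_assoc, ← hc] at h1
          have hodd := D.odd_U (mul_mem v'.2 (inv_mem v.2))
          rw [← h1] at hodd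
          have h2 := eq_one_of_odd_sq hodd hcs
          refine D.s1 (eq_one_of_odd_sq (D.odd_H (g := s) ?_) D.ss)
          rw [show s = c⁻¹ by rw [← mul_one c⁻¹, ← h2, inv_mul_cancel_left]]
          exact inv_mem hcH
        cases b <;> cases b' <;>
          first
            | exact hne rfl
            | (simp only [Bool.false_eq_true, if_false, if_true, mul_one] at he
               first
                 | exact key a a' v v' he
                 | exact key a' a v' v he.symm)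
      subst hbb
      set b' : G := if b then s else 1 with hb'
      have h1 : (v : G) * (v' : G)⁻¹ = b'⁻¹ * ((a : G)⁻¹ * a') * b' := by
        calc (v : G) * (v' : G)⁻¹ = b'⁻¹ * (a : G)⁻¹ * (a * b' * v) * (v' : G)⁻¹ := by group
          _ = b'⁻¹ * (a : G)⁻¹ * (a' * b' * v') * (v' : G)⁻¹ := by rw [he]
          _ = b'⁻¹ * ((a : G)⁻¹ * a') * b' := by group
      have hH : b'⁻¹ * ((a : G)⁻¹ * a') * b' ∈ H := by
        have hx := mul_mem (inv_mem a.2) a'.2
        cases b
        · simpa [b'] using hx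
        · simp only [b', if_true, inv_eq_of_mul_eq_one_right D.ss]
          have := D.sH _ hx
          rw [inv_eq_of_mul_eq_one_right D.ss] at this
          rw [this]
          exact inv_mem hx
      obtain ⟨hA1, hB1⟩ := D.disjoint_UH (mul_mem v.2 (inv_mem v'.2)) hH h1
      have h2 : (a : G)⁻¹ * a' = 1 := by
        calc (a : G)⁻¹ * a' = b' * (b'⁻¹ * ((a : G)⁻¹ * a') * b') * b'⁻¹ := by group
          _ = 1 := by rw [hB1]; group
      exact Prod.ext (Subtype.ext (mul_inv_eq_one.1 hA1)) (Prod.ext rfl (Subtype.ext (inv_mul_eq_one.1 h2)))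
    have hmem : ∀ x, (e x)⁻¹ * h * e x ∈ B := by
      rintro ⟨v, b, a⟩
      have hconj : ((a : G) * (if b then s else 1))⁻¹ * h * ((a : G) * (if b then s else 1)) ∈ H := by
        cases b
        · simp only [Bool.false_eq_true, if_false, mul_one]
          exact mul_mem (mul_mem (inv_mem a.2) hh) a.2
        · simp only [if_true]
          have hx := mul_mem (mul_mem (inv_mem a.2) hh) a.2
          have := D.sH _ hx
          rw [inv_eq_of_mul_eq_one_right D.ss] at this
          rw [_root_.mul_inv_rev, inv_eq_of_mul_eq_one_right D.ss,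
            show s * (a : G)⁻¹ * h * (a * s) = s * ((a : G)⁻¹ * h * a) * s by group, this]
          exact inv_mem hx
      have hv : (v : G) ∈ B := by simpa using hBmem _ v.2 1 (one_mem H)
      have hc : ((a : G) * (if b then s else 1))⁻¹ * h * ((a : G) * (if b then s else 1)) ∈ B := by
        simpa using hBmem 1 (one_mem U) _ hconj
      rw [show (e (v, b, a))⁻¹ * h * e (v, b, a) = (v : G)⁻¹ *
        (((a : G) * (if b then s else 1))⁻¹ * h * ((a : G) * (if b then s else 1))) * v by simp only [e]; group]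
      exact mul_mem (mul_mem (inv_mem hv) hc) hv
    rw [D.ind_value_odd hBK hBo hψv' (D.HK hh) (D.odd_H hh) e
      (fun x => mul_mem (mul_mem (D.HK x.2.2.2) (by cases x.2.1 <;> simp [D.sK])) (D.UK x.1.2)) hinj hmem
      (fun k hk hk' => by
        obtain ⟨w, hw, a, ha, he⟩ := hBdec _ hk'
        rcases eq_or_ne a 1 with rfl | ha1
        · exfalso
          refine hh1 (eq_one_of_dvd_coprime ?_ (D.orderOf_H hh) D.coprime_qm)
          rw [mul_one] at he
          rw [← orderOf_conj_eq k⁻¹ h, inv_inv, he]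
          exact D.orderOf_U hw
        · obtain ⟨w', hw', he'⟩ := D.conj_borel ha ha1 hw
          have hk2 : k * w' ∈ K := mul_mem hk (D.UK hw')
          have hmem2 : (k * w')⁻¹ * h * (k * w') ∈ H := by
            rw [show (k * w')⁻¹ * h * (k * w') = w'⁻¹ * (k⁻¹ * h * k) * w' by group, he, he']
            convert ha using 1
            group
          obtain ⟨c, hc, hkc⟩ := D.conj_h hk2 hh hh1 hmem2
          rcases hkc with hkc | hkc
          · exact ⟨(⟨w'⁻¹, inv_mem hw'⟩, false, ⟨c, hc⟩), by simp [e, ← hkc]⟩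
          · exact ⟨(⟨w'⁻¹, inv_mem hw'⟩, true, ⟨c, hc⟩), by simp [e, ← hkc]⟩)]
    simp only [Finset.sum_const, Finset.card_univ, ← Nat.card_eq_fintype_card, Nat.card_prod, (by simp : Nat.card Bool = 2),
      D.cardU, D.cardH, hBc, nsmul_eq_mul, mul_one]
    push_cast
    field_simp
    ring

/-- The two orbits of `H` cover `U` minus the identity. -/
theorem Frame.sum_orbit [Fintype U] [Fintype H] (φ : U →* ℂˣ) (hφ : φ ≠ 1) {u : G} (hu : u ∈ U) (hu1 : u ≠ 1)
    (cj : H → U) (hcj : ∀ h : H, (cj h : G) = (h : G)⁻¹ * u * h) :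
    ∑ h : H, ((φ (cj h) : ℂ) + (φ (cj h)⁻¹ : ℂ)) = -1 := by
  classical
  -- the two orbits cover `U` minus the identity
  let g : H × Bool → U := fun w => ⟨(w.1 : G)⁻¹ * (if w.2 then u else u⁻¹) * w.1, by
    have h := D.HU _ (inv_mem w.1.2) (if w.2 then u else u⁻¹) (by split <;> [exact hu; exact inv_mem hu])
    rwa [inv_inv] at h⟩
  have hginj : Function.Injective g := by
    rintro ⟨a, b⟩ ⟨a', b'⟩ he
    have he' : (a : G)⁻¹ * (if b then u else u⁻¹) * a = (a' : G)⁻¹ * (if b' then u else u⁻¹) * a' :=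
      congrArg Subtype.val he
    have hconj : ((a' : G) * (a : G)⁻¹) * (if b then u else u⁻¹) * ((a' : G) * (a : G)⁻¹)⁻¹ =
        if b' then u else u⁻¹ := by
      calc _ = (a' : G) * ((a : G)⁻¹ * (if b then u else u⁻¹) * a) * (a' : G)⁻¹ := by group
        _ = (a' : G) * ((a' : G)⁻¹ * (if b' then u else u⁻¹) * a') * (a' : G)⁻¹ := by rw [he']
        _ = _ := by group
    set k := (a' : G) * (a : G)⁻¹ with hk
    have hkH : k ∈ H := mul_mem a'.2 (inv_mem a.2)
    have hbb : b = b' := by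
      cases b <;> cases b' <;> first | rfl | skip
      · simp only [Bool.false_eq_true, if_false, if_true] at hconj
        refine absurd ?_ (D.notreal u hu hu1 k⁻¹ (inv_mem (D.HK hkH)))
        rw [inv_inv]
        calc k⁻¹ * u * k = k⁻¹ * (k * u⁻¹ * k⁻¹) * k := by rw [hconj]
          _ = u⁻¹ := by group
      · simp only [Bool.false_eq_true, if_false, if_true] at hconj
        exact absurd hconj (D.notreal u hu hu1 k (D.HK hkH))
    subst hbb
    have hw : (if b then u else u⁻¹) ∈ U := by split <;> [exact hu; exact inv_mem hu]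
    have hw1 : (if b then u else u⁻¹) ≠ 1 := by split <;> simp [hu1]
    have hk1 := D.disjoint_UH (D.Ucent _ hw hw1 k (D.HK hkH) (mul_inv_eq_iff_eq_mul.1 hconj)) hkH rfl
    exact Prod.ext (Subtype.ext (mul_inv_eq_one.1 hk1.1).symm) rfl
  have himg : Finset.univ.image g = Finset.univ.erase (1 : U) := by
    refine Finset.eq_of_subset_of_card_le (fun x hx => ?_) ?_
    · obtain ⟨⟨a, b⟩, -, rfl⟩ := Finset.mem_image.1 hx
      refine Finset.mem_erase.2 ⟨fun e => hu1 ?_, Finset.mem_univ _⟩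
      have e' : (a : G)⁻¹ * (if b then u else u⁻¹) * a = 1 := congrArg Subtype.val e
      have : (if b then u else u⁻¹) = 1 := by
        calc (if b then u else u⁻¹) = (a : G) * ((a : G)⁻¹ * (if b then u else u⁻¹) * a) * (a : G)⁻¹ := by group
          _ = 1 := by rw [e']; group
      cases b <;> simpa using this
    · rw [Finset.card_image_of_injective _ hginj, Finset.card_erase_of_mem (Finset.mem_univ _), Finset.card_univ,
        Finset.card_univ, Fintype.card_prod, Fintype.card_bool, ← Nat.card_eq_fintype_card,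
        ← Nat.card_eq_fintype_card, D.cardU, D.cardH]
      have := D.nums.qm
      omega
  have hsum := sum_lin_ne_one φ hφ
  rw [← himg, Finset.sum_image hginj.injOn, Fintype.sum_prod_type] at hsum
  simp only [Fintype.sum_bool] at hsum
  rw [← hsum]
  refine Finset.sum_congr rfl fun h _ => ?_
  have e1 : cj h = g (h, true) := Subtype.ext (hcj h)
  have e2 : (g (h, true))⁻¹ = g (h, false) := Subtype.ext (by
    show ((h : G)⁻¹ * u * h)⁻¹ = (h : G)⁻¹ * u⁻¹ * h
    group)
  rw [e1, e2]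

/-- The function induced from `U`. -/
theorem Frame.exists_psi [Fintype U] [Fintype H] (φ : U →* ℂˣ) (hφ : φ ≠ 1) : ∃ f : G → ℂ, Cfsg.IsGeneralizedCharacter G f ∧
    (∀ χ : G → ℂ, Cfsg.IsClassFunction G χ → Cfsg.classInner f χ = (q : ℂ)⁻¹ *
      ∑ u : U, ((φ u : ℂ) + (φ u⁻¹ : ℂ)) * conj (χ (t * u))) ∧
    f t = 16 * m * r ∧ (∀ u ∈ U, u ≠ 1 → f (t * u) = -2) ∧ (∀ h ∈ H, h ≠ 1 → f (t * h) = 0) ∧
    (∀ ρ ∈ R, ρ ≠ 1 → f (t * ρ) = 0) := by
  classical
  obtain ⟨ψ₁, hψ₁g, hψ₁v⟩ := D.exists_odd_part D.UK φ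
  obtain ⟨ψ₂, hψ₂g, hψ₂v⟩ := D.exists_odd_part D.UK φ⁻¹
  set f₀ : U → ℂ := fun u => (φ u : ℂ) + (φ u⁻¹ : ℂ) with hf₀
  have hv : ∀ a : U, Cfsg.extendByZero (tExt t U) (ψ₁ + ψ₂) a = 0 ∧
      Cfsg.extendByZero (tExt t U) (ψ₁ + ψ₂) (t * a) = 2 * f₀ a := fun a => by
    rw [extendByZero_add, Pi.add_apply, Pi.add_apply, (hψ₁v a).1, (hψ₁v a).2, (hψ₂v a).1, (hψ₂v a).2]
    simp [f₀, mul_add]
  have hUo : Odd (Nat.card U) := D.cardU ▸ D.odd_q
  have hq0 : (q : ℂ) ≠ 0 := by have := D.q27; exact_mod_cast (show q ≠ 0 by omega)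
  refine ⟨Cfsg.indFun (tExt t U) (ψ₁ + ψ₂), IsGeneralizedCharacter.indFun (IsGeneralizedCharacter.add hψ₁g hψ₂g), fun χ hχ => ?_,
    ?_, ?_, ?_, ?_⟩
  · rw [D.ind_inner_odd D.UK hv hχ, D.cardU]
  · rw [D.ind_value_t D.UK hUo hv, D.cardU]
    simp only [f₀, inv_one, map_one, Units.val_one]
    push_cast
    field_simp
    ring
  · intro u hu hu1
    have hmem : ∀ x : U × H, ((x.1 : G) * x.2)⁻¹ * u * ((x.1 : G) * x.2) ∈ U := fun x => by
      rw [show ((x.1 : G) * x.2)⁻¹ * u * ((x.1 : G) * x.2) = (x.2 : G)⁻¹ * ((x.1 : G)⁻¹ * (u * x.1)) * (x.2 : G)⁻¹⁻¹ by group,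
        D.Ucomm u hu _ x.1.2, inv_mul_cancel_left]
      exact D.HU _ (inv_mem x.2.2) u hu
    rw [D.ind_value_odd D.UK hUo hv (D.UK hu) (D.odd_U hu) (fun x : U × H => (x.1 : G) * x.2)
      (fun x => mul_mem (D.UK x.1.2) (D.HK x.2.2)) D.UH_inj hmem
      (fun k hk hk' => by
        obtain ⟨v, hv', h, hh, rfl⟩ := D.conj_U_cover hk hu hu1 hk'
        exact ⟨(⟨v, hv'⟩, ⟨h, hh⟩), rfl⟩), D.cardU, Fintype.sum_prod_type_right]
    have hterm : ∀ (v : U) (h : H), f₀ ⟨((v : G) * h)⁻¹ * u * ((v : G) * h), hmem (v, h)⟩ =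
        f₀ ⟨(h : G)⁻¹ * u * h, by
          have := hmem (1, h)
          simpa using this⟩ := by
      intro v h
      refine congrArg f₀ (Subtype.ext ?_)
      show ((v : G) * h)⁻¹ * u * ((v : G) * h) = (h : G)⁻¹ * u * h
      rw [show ((v : G) * h)⁻¹ * u * ((v : G) * h) = (h : G)⁻¹ * ((v : G)⁻¹ * (u * v)) * h by group,
        D.Ucomm u hu _ v.2, inv_mul_cancel_left]
    rw [Finset.sum_congr rfl fun h _ => Finset.sum_congr rfl fun v _ => hterm v h]
    simp only [Finset.sum_const, Finset.card_univ, ← Nat.card_eq_fintype_card, D.cardU, nsmul_eq_mul]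
    rw [← Finset.mul_sum, D.sum_orbit φ hφ hu hu1 (fun h : H => ⟨(h : G)⁻¹ * u * h, by
      have := hmem (1, h)
      simpa using this⟩) fun h => rfl]
    field_simp
  · intro h hh hh1
    refine indFun_zero_of_pow _ _ _ (2 * Nat.card U) (D.pow_tExt D.UK) (D.tK_pow_ne D.UK (D.HK hh) (D.orderOf_H hh) hh1 ?_)
    rw [D.cardU]
    exact D.odd_m.coprime_two_right.mul_right D.coprime_qm.symm
  · intro ρ hρ hρ1
    refine indFun_zero_of_pow _ _ _ (2 * Nat.card U) (D.pow_tExt D.UK) (D.tK_pow_ne D.UK (D.RK hρ) (D.orderOf_R hρ) hρ1 ?_)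
    rw [D.cardU]
    exact D.odd_r.coprime_two_right.mul_right D.coprime_qr.symm

/-- The function induced from `R`. -/
theorem Frame.exists_theta [Fintype R] (θ : R →* ℂˣ) : ∃ f : G → ℂ, Cfsg.IsGeneralizedCharacter G f ∧
    (∀ χ : G → ℂ, Cfsg.IsClassFunction G χ → Cfsg.classInner f χ = (r : ℂ)⁻¹ *
      ∑ ρ : R, (θ ρ : ℂ) * conj (χ (t * ρ))) ∧
    f t = 8 * q * m ∧ (∀ u ∈ U, u ≠ 1 → f (t * u) = 0) ∧ (∀ h ∈ H, h ≠ 1 → f (t * h) = 0) ∧
    (∀ ρ : R, ρ ≠ 1 → f (t * ρ) = 4 * ((θ ρ : ℂ) + (θ ρ⁻¹ : ℂ))) := by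
  classical
  obtain ⟨ψ, hψg, hv⟩ := D.exists_odd_part D.RK θ
  have hv' : ∀ a : R, Cfsg.extendByZero (tExt t R) ψ a = 0 ∧
      Cfsg.extendByZero (tExt t R) ψ (t * a) = 2 * (fun a : R => (θ a : ℂ)) a := hv
  have hRo : Odd (Nat.card R) := D.cardR ▸ D.odd_r
  have hr0 : (r : ℂ) ≠ 0 := by
    have : r ≠ 0 := fun h => by simpa [h] using D.odd_r
    exact_mod_cast this
  refine ⟨Cfsg.indFun (tExt t R) ψ, IsGeneralizedCharacter.indFun hψg, fun χ hχ => ?_, ?_, ?_, ?_, ?_⟩
  · rw [D.ind_inner_odd D.RK hv' hχ, D.cardR]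
  · rw [D.ind_value_t D.RK hRo hv', D.cardR]
    simp only [map_one, Units.val_one]
    push_cast
    field_simp
    ring
  · intro u hu hu1
    refine indFun_zero_of_pow _ _ _ (2 * Nat.card R) (D.pow_tExt D.RK) (D.tK_pow_ne D.RK (D.UK hu) (D.orderOf_U hu) hu1 ?_)
    rw [D.cardR]
    exact D.odd_q.coprime_two_right.mul_right D.coprime_qr
  · intro h hh hh1
    refine indFun_zero_of_pow _ _ _ (2 * Nat.card R) (D.pow_tExt D.RK) (D.tK_pow_ne D.RK (D.HK hh) (D.orderOf_H hh) hh1 ?_)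
    rw [D.cardR]
    exact D.odd_m.coprime_two_right.mul_right D.coprime_mr
  · intro ρ hρ1
    have hρ1' : (ρ : G) ≠ 1 := fun e => hρ1 (Subtype.ext e)
    let e : R × Bool × Bool → G := fun x => (x.1 : G) * ((if x.2.1 then s else 1) * (if x.2.2 then z else 1))
    have hsz1 : s * z ≠ 1 := fun h => D.zne (by
      calc z = (s * s) * z := by rw [D.ss, one_mul]
        _ = s := by rw [mul_assoc, h, mul_one])
    have hsq : ∀ b c : Bool, ((if b then s else 1) * (if c then z else 1)) * ((if b then s else 1) * (if c then z else 1)) = 1 := by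
      intro b c
      cases b <;> cases c <;> simp only [Bool.false_eq_true, if_false, if_true, one_mul, mul_one]
      · exact D.zz
      · exact D.ss
      · rw [show s * z * (s * z) = s * (z * s) * z by group, D.zs,
          show s * (s * z) * z = (s * s) * (z * z) by group, D.ss, D.zz, one_mul]
    have hinj : Function.Injective e := by
      rintro ⟨a, b, c⟩ ⟨a', b', c'⟩ he
      simp only [e] at he
      set X := (if b then s else 1) * (if c then z else (1 : G)) with hX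
      set X' := (if b' then s else 1) * (if c' then z else (1 : G)) with hX'
      have h1 : (a' : G)⁻¹ * a = X' * X := by
        calc (a' : G)⁻¹ * a = (a' : G)⁻¹ * (a * X) * X⁻¹ := by group
          _ = (a' : G)⁻¹ * (a' * X') * X⁻¹ := by rw [he]
          _ = X' * X := by rw [inv_mul_cancel_left, inv_eq_of_mul_eq_one_right (hsq b c)]
      have h2 : (X' * X) * (X' * X) = 1 := by
        have hcomm : X * X' = X' * X := by
          have hzs' : Commute z s := D.zs
          simp only [hX, hX']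
          cases b <;> cases c <;> cases b' <;> cases c' <;>
            simp only [Bool.false_eq_true, if_false, if_true, one_mul, mul_one]
          all_goals first
            | exact hzs'.eq
            | exact hzs'.eq.symm
            | exact (hzs'.symm.mul_right (Commute.refl z)).symm.eq
            | exact (hzs'.symm.mul_right (Commute.refl z)).eq
            | exact ((Commute.refl s).mul_right hzs'.symm).eq
            | exact ((Commute.refl s).mul_right hzs'.symm).eq.symm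
            | exact (hzs'.mul_right (Commute.refl z)).eq
            | exact (hzs'.mul_right (Commute.refl z)).eq.symm
        rw [show X' * X * (X' * X) = X' * (X * X') * X by group, hcomm,
          show X' * (X' * X) * X = (X' * X') * (X * X) by group, hsq, hsq, one_mul]
      rw [← h1] at h2
      have h3 := eq_one_of_odd_sq (D.odd_R (mul_mem (inv_mem a'.2) a.2)) h2
      rw [h3] at h1
      have hXX : X = X' := by
        calc X = (X' * X') * X := by rw [hsq, one_mul]
          _ = X' := by rw [mul_assoc, ← h1, mul_one]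
      have hbc : (b, c) = (b', c') := by
        cases b <;> cases c <;> cases b' <;> cases c' <;>
          simp [hX, hX', D.s1, D.z1, hsz1, D.zne, Ne.symm D.s1, Ne.symm D.z1, Ne.symm hsz1, Ne.symm D.zne] at hXX ⊢
      exact Prod.ext (Subtype.ext (inv_mul_eq_one.1 h3).symm) hbc
    haveI := D.Rcyc
    letI := IsCyclic.commGroup (α := R)
    have hconj : ∀ x, (e x)⁻¹ * (ρ : G) * e x = if x.2.2 then ((ρ⁻¹ : R) : G) else (ρ : G) := by
      rintro ⟨a, b, c⟩
      have h1 : (ρ : G) * a = a * ρ := congrArg Subtype.val (mul_comm ρ a)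
      have h2 : (ρ : G) * (if b then s else 1) = (if b then s else 1) * ρ := by
        cases b
        · simp
        · exact D.Rs ρ ρ.2
      simp only [e]
      rw [show ((a : G) * ((if b then s else 1) * (if c then z else 1)))⁻¹ * ρ *
        ((a : G) * ((if b then s else 1) * (if c then z else 1))) = (if c then z else (1 : G))⁻¹ *
        ((if b then s else (1 : G))⁻¹ * ((a : G)⁻¹ * (ρ * a)) * (if b then s else 1)) * (if c then z else 1) by group,
        h1, inv_mul_cancel_left, mul_assoc (if b then s else (1 : G))⁻¹, h2, inv_mul_cancel_left]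
      cases c
      · simp
      · simp only [if_true]
        have := D.zR ρ ρ.2
        rw [inv_eq_of_mul_eq_one_right D.zz] at this ⊢
        rw [this, InvMemClass.coe_inv]
    have hmem : ∀ x, (e x)⁻¹ * (ρ : G) * e x ∈ R := fun x => by
      rw [hconj]; split <;> exact SetLike.coe_mem _
    rw [D.ind_value_odd D.RK hRo hv' (D.RK ρ.2) (D.odd_R ρ.2) e
      (fun x => mul_mem (D.RK x.1.2) (mul_mem (by cases x.2.1 <;> simp [D.sK]) (by cases x.2.2 <;> simp [D.zK])))
      hinj hmem (fun k hk hk' => by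
        have hρ'1 : k⁻¹ * (ρ : G) * k ≠ 1 := fun h => hρ1' (by
          calc (ρ : G) = k * (k⁻¹ * ρ * k) * k⁻¹ := by group
            _ = 1 := by rw [h]; group)
        have hks : k * s = s * k := by
          have hc : k⁻¹ * s * k * (k⁻¹ * (ρ : G) * k) = k⁻¹ * (ρ : G) * k * (k⁻¹ * s * k) := by
            calc k⁻¹ * s * k * (k⁻¹ * (ρ : G) * k) = k⁻¹ * (s * ρ) * k := by group
              _ = k⁻¹ * ((ρ : G) * s) * k := by rw [D.Rs ρ ρ.2]
              _ = _ := by group
          have hii : k⁻¹ * s * k * (k⁻¹ * s * k) = 1 := by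
            rw [show k⁻¹ * s * k * (k⁻¹ * s * k) = k⁻¹ * (s * s) * k by group, D.ss]; group
          have hne : k⁻¹ * s * k ≠ 1 := fun h => D.s1 (by
            calc s = k * (k⁻¹ * s * k) * k⁻¹ := by group
              _ = 1 := by rw [h]; group)
          obtain ⟨ρ₁, hρ₁, h | h⟩ := D.Rcent _ hk' hρ'1 _ (mul_mem (mul_mem (inv_mem hk) D.sK) hk) hc
          · rw [h] at hii hne
            exact absurd (eq_one_of_odd_sq (D.odd_R hρ₁) hii) hne
          · rw [h, show ρ₁ * s * (ρ₁ * s) = ρ₁ * (s * ρ₁) * s by group, ← D.Rs ρ₁ hρ₁,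
              show ρ₁ * (ρ₁ * s) * s = (ρ₁ * ρ₁) * (s * s) by group, D.ss, mul_one] at hii
            rw [eq_one_of_odd_sq (D.odd_R hρ₁) hii, one_mul] at h
            calc k * s = k * (k⁻¹ * s * k) := by rw [h]
              _ = s * k := by group
        obtain ⟨ρ₁, hρ₁, h | h | h | h⟩ := D.Cs k hk hks
        · exact ⟨(⟨ρ₁, hρ₁⟩, false, false), by simp [e, h]⟩
        · exact ⟨(⟨ρ₁, hρ₁⟩, true, false), by simp [e, h]⟩
        · exact ⟨(⟨ρ₁, hρ₁⟩, false, true), by simp [e, h]⟩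
        · exact ⟨(⟨ρ₁, hρ₁⟩, true, true), by simp [e, h]⟩)]
    have hterm : ∀ x, (θ ⟨(e x)⁻¹ * (ρ : G) * e x, hmem x⟩ : ℂ) = if x.2.2 then (θ ρ⁻¹ : ℂ) else (θ ρ : ℂ) := by
      intro x
      have : (⟨(e x)⁻¹ * (ρ : G) * e x, hmem x⟩ : R) = if x.2.2 then ρ⁻¹ else ρ := Subtype.ext (by
        show (e x)⁻¹ * (ρ : G) * e x = ((if x.2.2 then ρ⁻¹ else ρ : R) : G)
        rw [hconj]; split <;> rfl)
      rw [this]
      split <;> rfl
    rw [Finset.sum_congr rfl fun x _ => hterm x]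
    simp only [Fintype.sum_prod_type, Fintype.sum_bool, if_true, Bool.false_eq_true, if_false, Finset.sum_const,
      Finset.card_univ, ← Nat.card_eq_fintype_card, D.cardR, (by simp : Nat.card Bool = 2), nsmul_eq_mul]
    field_simp
    ring

end Cfsg.Lib.ReeThree
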