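import Cfsg.Agent.ReeInvolveThree.Model
import Cfsg.Agent.GoldschmidtSFour.Basic
import Cfsg.Agent.Transfer.Control

/-!
A group of Ree type without a section `S₃`: the centraliser of an involution and the
Sylow `2`-subgroups.
-/

set_option autoImplicit false
set_option linter.style.haveILetI false
set_option linter.unusedSectionVars false

namespace Cfsg.Lib.ReeThree

open Subgroup
open scoped commutatorElement

universe u

variable {G : Type u} [Group G]

/-- The standing hypotheses, read inside `G`. -/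
structure Frame (t : G) (K : Subgroup G) (q m r : ℕ) (U H R : Subgroup G) (s z : G) : Prop where
  simple : IsSimpleGroup G
  noncomm : ¬ IsMulCommutative G
  free : ¬ Cfsg.Involves (Equiv.Perm (Fin 3)) G
  tt : t * t = 1
  t1 : t ≠ 1
  oddIndex : Odd (centralizer ({t} : Set G)).index
  comm : ∀ k ∈ K, t * k = k * t
  tK : t ∉ K
  split : ∀ c, c * t = t * c → ∃ k ∈ K, c = k ∨ c = t * k
  nums : Nums q m r
  cardK : Nat.card K = 4 * r * m * q
  UK : U ≤ K
  HK : H ≤ K
  RK : R ≤ K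
  sK : s ∈ K
  zK : z ∈ K
  cardU : Nat.card U = q
  Ucube : ∀ u ∈ U, u ^ 3 = 1
  Ucomm : ∀ u ∈ U, ∀ v ∈ U, u * v = v * u
  Ucent : ∀ u ∈ U, u ≠ 1 → ∀ c ∈ K, c * u = u * c → c ∈ U
  Unorm : ∀ u ∈ U, u ≠ 1 → ∀ c ∈ K, c * u * c⁻¹ ∈ U → ∃ v ∈ U, ∃ h ∈ H, c = v * h
  HU : ∀ h ∈ H, ∀ u ∈ U, h * u * h⁻¹ ∈ U
  notreal : ∀ u ∈ U, u ≠ 1 → ∀ c ∈ K, c * u * c⁻¹ ≠ u⁻¹
  cardH : Nat.card H = m
  Hcyc : IsCyclic H
  Hcent : ∀ h ∈ H, h ≠ 1 → ∀ c ∈ K, c * h = h * c → c ∈ H
  Hnorm : ∀ h ∈ H, h ≠ 1 → ∀ c ∈ K, c * h * c⁻¹ ∈ H → c ∈ H ∨ c * s ∈ H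
  ss : s * s = 1
  s1 : s ≠ 1
  sH : ∀ h ∈ H, s * h * s⁻¹ = h⁻¹
  zz : z * z = 1
  z1 : z ≠ 1
  zs : z * s = s * z
  zne : z ≠ s
  cardR : Nat.card R = r
  Rcyc : IsCyclic R
  Rs : ∀ ρ ∈ R, ρ * s = s * ρ
  zR : ∀ ρ ∈ R, z * ρ * z⁻¹ = ρ⁻¹
  Cs : ∀ c ∈ K, c * s = s * c → ∃ ρ ∈ R, c = ρ ∨ c = ρ * s ∨ c = ρ * z ∨ c = ρ * (s * z)
  Rcent : ∀ ρ ∈ R, ρ ≠ 1 → ∀ c ∈ K, c * ρ = ρ * c → ∃ ρ' ∈ R, c = ρ' ∨ c = ρ' * s
  invol : ∀ i ∈ K, i * i = 1 → i ≠ 1 → ∃ k ∈ K, k * s * k⁻¹ = i
  types : ∀ g ∈ K, Odd (orderOf g) → ∃ a ∈ K, a * g * a⁻¹ ∈ U ∨ a * g * a⁻¹ ∈ H ∨ a * g * a⁻¹ ∈ R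

/-- A group of Ree type without a section `S₃` has a frame. -/
theorem exists_frame [Finite G] (hR : Cfsg.IsReeType G) (hfree : ¬ Cfsg.Involves (Equiv.Perm (Fin 3)) G) :
    ∃ (t : G) (K : Subgroup G) (q m r : ℕ) (U H R : Subgroup G) (s z : G), Frame t K q m r U H R s z := by
  classical
  obtain ⟨hs, hnc, t, K, n, hn, ht, hodd, ⟨hle1, hle2, hcomm, hinf, hsup⟩, F, hF1, hF2, hF, ⟨e⟩⟩ := hR
  obtain ⟨n', rfl⟩ : ∃ n', n = n' + 1 := ⟨n - 1, by omega⟩
  have hF' : Fintype.card F = 3 ^ (2 * n' + 3) := by rw [hF]; congr 1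
  obtain ⟨m, r, U, H, R, s, z, kf⟩ := exists_kfacts hF'
  let ι : Matrix.ProjectiveSpecialLinearGroup (Fin 2) F →* G := K.subtype.comp e.symm.toMonoidHom
  have hι : Function.Injective ι := K.subtype_injective.comp e.symm.injective
  have hK : ∀ c ∈ K, ∃ x, ι x = c := fun c hc =>
    ⟨e ⟨c, hc⟩, congrArg Subtype.val (e.symm_apply_apply ⟨c, hc⟩)⟩
  have hin : ∀ x, ι x ∈ K := fun x => (e.symm x).2
  have hmap : ∀ (S : Subgroup (Matrix.ProjectiveSpecialLinearGroup (Fin 2) F)), S.map ι ≤ K := by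
    rintro S _ ⟨x, -, rfl⟩; exact hin x
  have hmem : ∀ {S : Subgroup (Matrix.ProjectiveSpecialLinearGroup (Fin 2) F)} {x}, ι x ∈ S.map ι → x ∈ S :=
    fun {S x} h => by
      obtain ⟨y, hy, he⟩ := h
      exact hι he ▸ hy
  have htt : t * t = 1 := by rw [← pow_two, ← ht, pow_orderOf_eq_one]
  have ht1 : t ≠ 1 := fun h => by rw [h, orderOf_one] at ht; omega
  have htK : t ∉ K := fun h => ht1 (by
    have h' : t ∈ zpowers t ⊓ K := ⟨mem_zpowers t, h⟩
    rw [hinf] at h'
    exact h')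
  refine ⟨t, K, Fintype.card F, m, r, U.map ι, H.map ι, R.map ι, ι s, ι z,
    ⟨hs, hnc, hfree, htt, ht1, hodd, fun k hk => hcomm t (mem_zpowers t) k hk, htK, ?_, kf.nums, ?_, hmap U, hmap H,
    hmap R, hin s, hin z, ?_, ?_, ?_, ?_, ?_, ?_, ?_, ?_, ?_, ?_, ?_, ?_, ?_, ?_, ?_, ?_, ?_, ?_, ?_, ?_, ?_, ?_,
    ?_, ?_, ?_, ?_⟩⟩
  · intro c hc
    have hmem' : c ∈ zpowers t ⊔ K := hsup.symm ▸ mem_centralizer_singleton_iff.2 hc
    have hn : K ≤ normalizer ((zpowers t : Subgroup G) : Set G) := by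
      refine le_trans (fun k hk => ?_) (centralizer_le_normalizer (zpowers t : Set G))
      exact mem_centralizer_iff.2 fun a ha => hcomm a ha k hk
    rw [sup_comm, ← SetLike.mem_coe, Subgroup.coe_mul_of_left_le_normalizer_right _ _ hn] at hmem'
    obtain ⟨k, hk, a, ha, rfl⟩ := hmem'
    show ∃ k' ∈ K, k * a = k' ∨ k * a = t * k'
    rw [← hcomm a ha k hk]
    obtain ⟨i, rfl⟩ := mem_zpowers_iff.1 ha
    refine ⟨k, hk, ?_⟩
    rcases Int.even_or_odd i with ⟨j, rfl⟩ | ⟨j, rfl⟩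
    · left; show t ^ (j + j) * k = k
      rw [← two_mul, _root_.zpow_mul, zpow_two, htt, one_zpow, one_mul]
    · right; show t ^ (2 * j + 1) * k = t * k
      rw [zpow_add_one, _root_.zpow_mul, zpow_two, htt, one_zpow, one_mul]
  · rw [Nat.card_congr e.toEquiv]; exact kf.card
  · rw [card_map_of_injective hι]; exact kf.cardU
  · rintro _ ⟨u, hu, rfl⟩; rw [← map_pow, kf.Ucube u hu, map_one]
  · rintro _ ⟨u, hu, rfl⟩ _ ⟨v, hv, rfl⟩; rw [← map_mul, ← map_mul, kf.Ucomm u hu v hv]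
  · rintro _ ⟨u, hu, rfl⟩ hu1 c hc h
    obtain ⟨c, rfl⟩ := hK c hc
    rw [← map_mul, ← map_mul] at h
    exact mem_map_of_mem ι (kf.Ucent u hu (fun e => hu1 (by rw [e, map_one])) c (hι h))
  · rintro _ ⟨u, hu, rfl⟩ hu1 c hc h
    obtain ⟨c, rfl⟩ := hK c hc
    rw [← map_inv, ← map_mul, ← map_mul] at h
    obtain ⟨v, hv, x, hx, e⟩ := kf.Unorm u hu (fun e => hu1 (by rw [e, map_one])) c (hmem h)
    exact ⟨ι v, mem_map_of_mem ι hv, ι x, mem_map_of_mem ι hx, by rw [← map_mul, e]⟩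
  · rintro _ ⟨h, hh, rfl⟩ _ ⟨u, hu, rfl⟩
    rw [← map_inv, ← map_mul, ← map_mul]
    exact mem_map_of_mem ι (kf.HU h hh u hu)
  · rintro _ ⟨u, hu, rfl⟩ hu1 c hc h
    obtain ⟨c, rfl⟩ := hK c hc
    rw [← map_inv, ← map_inv, ← map_mul, ← map_mul] at h
    exact kf.notreal u hu (fun e => hu1 (by rw [e, map_one])) c (hι h)
  · rw [card_map_of_injective hι]; exact kf.cardH
  · haveI := kf.Hcyc
    exact isCyclic_of_surjective _ (MonoidHom.subgroupMap_surjective ι H)
  · rintro _ ⟨x, hx, rfl⟩ hx1 c hc h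
    obtain ⟨c, rfl⟩ := hK c hc
    rw [← map_mul, ← map_mul] at h
    exact mem_map_of_mem ι (kf.Hcent x hx (fun e => hx1 (by rw [e, map_one])) c (hι h))
  · rintro _ ⟨x, hx, rfl⟩ hx1 c hc h
    obtain ⟨c, rfl⟩ := hK c hc
    rw [← map_inv, ← map_mul, ← map_mul] at h
    rcases kf.Hnorm x hx (fun e => hx1 (by rw [e, map_one])) c (hmem h) with h' | h'
    · exact Or.inl (mem_map_of_mem ι h')
    · exact Or.inr (by rw [← map_mul]; exact mem_map_of_mem ι h')
  · rw [← map_mul, kf.ss, map_one]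
  · exact fun e => kf.s1 (hι (e.trans (map_one ι).symm))
  · rintro _ ⟨x, hx, rfl⟩; rw [← map_inv, ← map_mul, ← map_mul, kf.sH x hx, map_inv]
  · rw [← map_mul, kf.zz, map_one]
  · exact fun e => kf.z1 (hι (e.trans (map_one ι).symm))
  · rw [← map_mul, ← map_mul, kf.zs]
  · exact fun e => kf.zne (hι e)
  · rw [card_map_of_injective hι]; exact kf.cardR
  · haveI := kf.Rcyc
    exact isCyclic_of_surjective _ (MonoidHom.subgroupMap_surjective ι R)
  · rintro _ ⟨x, hx, rfl⟩; rw [← map_mul, ← map_mul, kf.Rs x hx]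
  · rintro _ ⟨x, hx, rfl⟩; rw [← map_inv, ← map_mul, ← map_mul, kf.zR x hx, map_inv]
  · intro c hc h
    obtain ⟨c, rfl⟩ := hK c hc
    rw [← map_mul, ← map_mul] at h
    obtain ⟨ρ, hρ, h'⟩ := kf.Cs c (hι h)
    refine ⟨ι ρ, mem_map_of_mem ι hρ, ?_⟩
    rcases h' with rfl | rfl | rfl | rfl <;> simp [map_mul]
  · rintro _ ⟨x, hx, rfl⟩ hx1 c hc h
    obtain ⟨c, rfl⟩ := hK c hc
    rw [← map_mul, ← map_mul] at h
    obtain ⟨ρ, hρ, h'⟩ := kf.Rcent x hx (fun e => hx1 (by rw [e, map_one])) c (hι h)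
    refine ⟨ι ρ, mem_map_of_mem ι hρ, ?_⟩
    rcases h' with rfl | rfl <;> simp [map_mul]
  · intro i hi hii hi1
    obtain ⟨i, rfl⟩ := hK i hi
    rw [← map_mul, ← map_one ι] at hii
    obtain ⟨k, hk⟩ := isConj_iff.1 (kf.invol i (hι hii) (fun e => hi1 (by rw [e, map_one])))
    exact ⟨ι k, hin k, by rw [← map_inv, ← map_mul, ← map_mul, hk]⟩
  · intro g hg ho
    obtain ⟨g, rfl⟩ := hK g hg
    rw [orderOf_injective ι hι] at ho
    obtain ⟨a, ha⟩ := kf.types g ho
    refine ⟨ι a, hin a, ?_⟩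
    rcases ha with ha | ha | ha
    · exact Or.inl (by rw [← map_inv, ← map_mul, ← map_mul]; exact mem_map_of_mem ι ha)
    · exact Or.inr (Or.inl (by rw [← map_inv, ← map_mul, ← map_mul]; exact mem_map_of_mem ι ha))
    · exact Or.inr (Or.inr (by rw [← map_inv, ← map_mul, ← map_mul]; exact mem_map_of_mem ι ha))

section Basic

variable {t s z : G} {K U H R : Subgroup G} {q m r : ℕ} (D : Frame t K q m r U H R s z)
include D

theorem Frame.t_comm_iff {c : G} : c ∈ centralizer ({t} : Set G) ↔ c * t = t * c :=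
  mem_centralizer_singleton_iff

theorem Frame.K_le : K ≤ centralizer ({t} : Set G) := fun k hk =>
  mem_centralizer_singleton_iff.2 (D.comm k hk).symm

theorem Frame.odd_m : Odd m := D.nums.facts.1
theorem Frame.odd_r : Odd r := D.nums.facts.2.1
theorem Frame.three_not_dvd_m : ¬ 3 ∣ m := D.nums.facts.2.2.1
theorem Frame.three_not_dvd_r : ¬ 3 ∣ r := D.nums.facts.2.2.2.1
theorem Frame.q27 : 27 ≤ q := D.nums.facts.2.2.2.2.1
theorem Frame.m13 : 13 ≤ m := D.nums.facts.2.2.2.2.2.1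

theorem Frame.odd_q : Odd q := by
  obtain ⟨n, hn⟩ := D.nums.pow
  exact hn ▸ Odd.pow (by decide)

theorem Frame.coprime_qm : q.Coprime m := by
  obtain ⟨n, hn⟩ := D.nums.pow
  exact hn ▸ (Nat.prime_three.coprime_iff_not_dvd.2 D.three_not_dvd_m).pow_left _

theorem Frame.coprime_qr : q.Coprime r := by
  obtain ⟨n, hn⟩ := D.nums.pow
  exact hn ▸ (Nat.prime_three.coprime_iff_not_dvd.2 D.three_not_dvd_r).pow_left _

theorem Frame.coprime_mr : m.Coprime r := D.nums.facts.2.2.2.2.2.2.2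

theorem Frame.card_cent [Finite G] : Nat.card (centralizer ({t} : Set G)) = 8 * r * m * q := by
  classical
  have key : Nat.card (zpowers t) = 2 := by
    rw [Nat.card_zpowers, orderOf_eq_prime (p := 2) (by rw [pow_two, D.tt]) D.t1]
  let f : zpowers t × K → centralizer ({t} : Set G) := fun x => ⟨x.1 * x.2,
    mul_mem (zpowers_le.2 (mem_centralizer_singleton_iff.2 rfl) x.1.2) (D.K_le x.2.2)⟩
  have hf : Function.Bijective f := by
    constructor
    · rintro ⟨⟨a, ha⟩, k⟩ ⟨⟨b, hb⟩, l⟩ h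
      have h' : a * (k : G) = b * l := congrArg Subtype.val h
      have hab : b⁻¹ * a ∈ K := by
        rw [show b⁻¹ * a = (l : G) * (k : G)⁻¹ by
          calc b⁻¹ * a = b⁻¹ * (a * k) * (k : G)⁻¹ := by group
            _ = b⁻¹ * (b * l) * (k : G)⁻¹ := by rw [h']
            _ = _ := by group]
        exact mul_mem l.2 (inv_mem k.2)
      have hab1 : b⁻¹ * a = 1 := by
        obtain ⟨i, hi⟩ := mem_zpowers_iff.1 (mul_mem (inv_mem hb) ha)
        rcases Int.even_or_odd i with ⟨j, rfl⟩ | ⟨j, rfl⟩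
        · rw [← hi, ← two_mul, _root_.zpow_mul, zpow_two, D.tt, one_zpow]
        · exfalso
          rw [← hi, zpow_add_one, _root_.zpow_mul, zpow_two, D.tt, one_zpow, one_mul] at hab
          exact D.tK hab
      have hba : a = b := (inv_mul_eq_one.1 hab1).symm
      subst hba
      exact Prod.ext rfl (Subtype.ext (mul_left_cancel h'))
    · rintro ⟨c, hc⟩
      obtain ⟨k, hk, rfl | rfl⟩ := D.split c (mem_centralizer_singleton_iff.1 hc)
      · exact ⟨(⟨1, one_mem _⟩, ⟨c, hk⟩), Subtype.ext (one_mul c)⟩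
      · exact ⟨(⟨t, mem_zpowers t⟩, ⟨k, hk⟩), rfl⟩
  rw [← Nat.card_congr (Equiv.ofBijective f hf), Nat.card_prod, key, D.cardK]
  ring

/-- An element of odd order centralising `t` lies in `K`. -/
theorem Frame.odd_mem [Finite G] {c : G} (hc : c * t = t * c) (ho : Odd (orderOf c)) : c ∈ K := by
  obtain ⟨k, hk, rfl | rfl⟩ := D.split c hc
  · exact hk
  · exfalso
    obtain ⟨j, hj⟩ := ho
    have h1 : (t * k) ^ orderOf (t * k) = 1 := pow_orderOf_eq_one _
    rw [(show Commute t k from D.comm k hk).mul_pow] at h1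
    rw [show t ^ orderOf (t * k) = t by rw [hj, pow_succ, pow_mul, pow_two, D.tt, one_pow, one_mul]] at h1
    exact D.tK (eq_inv_of_mul_eq_one_left h1 ▸ inv_mem (pow_mem hk _))

theorem Frame.conj_K {c k : G} (hc : c * t = t * c) (hk : k ∈ K) :
    ∃ l ∈ K, c * k * c⁻¹ = l * k * l⁻¹ := by
  obtain ⟨l, hl, rfl | rfl⟩ := D.split c hc
  · exact ⟨c, hl, rfl⟩
  · refine ⟨l, hl, ?_⟩
    rw [show t * l * k * (t * l)⁻¹ = t * (l * k * l⁻¹) * t⁻¹ by group,
      D.comm _ (mul_mem (mul_mem hl hk) (inv_mem hl)), mul_inv_cancel_right]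

/-- The elementary abelian group of order eight. -/
theorem Frame.exists_sylow [Finite G] :
    ∃ E : Sylow 2 G, t ∈ (E : Subgroup G) ∧ s ∈ (E : Subgroup G) ∧ z ∈ (E : Subgroup G) ∧
      Nat.card (E : Subgroup G) = 8 ∧ (∀ e ∈ (E : Subgroup G), e * e = 1) ∧
      ∀ e ∈ (E : Subgroup G), ∃ v : G, (v = 1 ∨ v = s ∨ v = z ∨ v = s * z) ∧ (e = v ∨ e = t * v) := by
  classical
  haveI : Fact (Nat.Prime 2) := ⟨Nat.prime_two⟩
  have hts := D.comm s D.sK
  have htz := D.comm z D.zK
  have hzs := D.zs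
  let E₀ : Subgroup G :=
    { carrier := {e | ∃ v : G, (v = 1 ∨ v = s ∨ v = z ∨ v = s * z) ∧ (e = v ∨ e = t * v)}
      one_mem' := ⟨1, Or.inl rfl, Or.inl rfl⟩
      inv_mem' := by
        rintro e ⟨v, hv, he⟩
        have hvv : v * v = 1 := by
          rcases hv with rfl | rfl | rfl | rfl
          · rw [one_mul]
          · exact D.ss
          · exact D.zz
          · rw [show s * z * (s * z) = s * (z * s) * z by group, hzs, show s * (s * z) * z = (s * s) * (z * z) by
              group, D.ss, D.zz, one_mul]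
        have hvt : t * v = v * t := by
          rcases hv with rfl | rfl | rfl | rfl
          · rw [mul_one, one_mul]
          · exact hts
          · exact htz
          · exact D.comm _ (mul_mem D.sK D.zK)
        have hvi : v⁻¹ = v := inv_eq_of_mul_eq_one_right hvv
        rcases he with rfl | rfl
        · exact ⟨e, hv, Or.inl hvi⟩
        · refine ⟨v, hv, Or.inr ?_⟩
          rw [mul_inv_rev, hvi, inv_eq_of_mul_eq_one_right D.tt, hvt]
      mul_mem' := by
        rintro a b ⟨v, hv, ha⟩ ⟨w, hw, hb⟩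
        have hvw : ∃ x : G, (x = 1 ∨ x = s ∨ x = z ∨ x = s * z) ∧ v * w = x := by
          rcases hv with rfl | rfl | rfl | rfl <;> rcases hw with rfl | rfl | rfl | rfl
          · exact ⟨1, Or.inl rfl, one_mul _⟩
          · exact ⟨w, Or.inr (Or.inl rfl), one_mul _⟩
          · exact ⟨w, Or.inr (Or.inr (Or.inl rfl)), one_mul _⟩
          · exact ⟨s * z, Or.inr (Or.inr (Or.inr rfl)), one_mul _⟩
          · exact ⟨v, Or.inr (Or.inl rfl), mul_one _⟩
          · exact ⟨1, Or.inl rfl, D.ss⟩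
          · exact ⟨v * w, Or.inr (Or.inr (Or.inr rfl)), rfl⟩
          · exact ⟨z, Or.inr (Or.inr (Or.inl rfl)), by rw [← mul_assoc, D.ss, one_mul]⟩
          · exact ⟨v, Or.inr (Or.inr (Or.inl rfl)), mul_one _⟩
          · exact ⟨w * v, Or.inr (Or.inr (Or.inr rfl)), hzs⟩
          · exact ⟨1, Or.inl rfl, D.zz⟩
          · exact ⟨s, Or.inr (Or.inl rfl), by rw [← mul_assoc, hzs, mul_assoc, D.zz, mul_one]⟩
          · exact ⟨s * z, Or.inr (Or.inr (Or.inr rfl)), mul_one _⟩
          · exact ⟨z, Or.inr (Or.inr (Or.inl rfl)), by rw [mul_assoc, hzs, ← mul_assoc, D.ss, one_mul]⟩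
          · exact ⟨s, Or.inr (Or.inl rfl), by rw [mul_assoc, D.zz, mul_one]⟩
          · exact ⟨1, Or.inl rfl, by
              rw [show s * z * (s * z) = s * (z * s) * z by group, hzs,
                show s * (s * z) * z = (s * s) * (z * z) by group, D.ss, D.zz, one_mul]⟩
        obtain ⟨x, hx, hxe⟩ := hvw
        have hvt : t * v = v * t := by
          rcases hv with rfl | rfl | rfl | rfl
          · rw [mul_one, one_mul]
          · exact hts
          · exact htz
          · exact D.comm _ (mul_mem D.sK D.zK)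
        rcases ha with rfl | rfl <;> rcases hb with rfl | rfl
        · exact ⟨x, hx, Or.inl hxe⟩
        · exact ⟨x, hx, Or.inr (by rw [← mul_assoc, ← hvt, mul_assoc, hxe])⟩
        · exact ⟨x, hx, Or.inr (by rw [mul_assoc, hxe])⟩
        · exact ⟨x, hx, Or.inl (by
            rw [show t * v * (t * w) = t * (v * t) * w by group, ← hvt,
              show t * (t * v) * w = (t * t) * (v * w) by group, D.tt, one_mul, hxe])⟩ }
  have hsq : ∀ e ∈ E₀, e * e = 1 := by
    intro e he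
    have h := E₀.inv_mem he
    obtain ⟨v, hv, he'⟩ := he
    have hvv : v * v = 1 := by
      rcases hv with rfl | rfl | rfl | rfl
      · rw [one_mul]
      · exact D.ss
      · exact D.zz
      · rw [show s * z * (s * z) = s * (z * s) * z by group, hzs, show s * (s * z) * z = (s * s) * (z * z) by
          group, D.ss, D.zz, one_mul]
    have hvK : v ∈ K := by
      rcases hv with rfl | rfl | rfl | rfl
      exacts [one_mem _, D.sK, D.zK, mul_mem D.sK D.zK]
    rcases he' with rfl | rfl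
    · exact hvv
    · rw [show t * v * (t * v) = t * (v * t) * v by group, ← D.comm v hvK,
        show t * (t * v) * v = (t * t) * (v * v) by group, D.tt, hvv, one_mul]
  have hs : s ∈ E₀ := ⟨s, Or.inr (Or.inl rfl), Or.inl rfl⟩
  have hz : z ∈ E₀ := ⟨z, Or.inr (Or.inr (Or.inl rfl)), Or.inl rfl⟩
  have ht : t ∈ E₀ := ⟨1, Or.inl rfl, Or.inr (mul_one t).symm⟩
  have hp : IsPGroup 2 E₀ := fun e => ⟨1, Subtype.ext (by simpa [pow_two] using hsq e e.2)⟩
  obtain ⟨P, hP⟩ := hp.exists_le_sylow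
  have hP8 : Nat.card (P : Subgroup G) ∣ 8 := by
    obtain ⟨j, hj⟩ := P.2.exists_card_eq
    have hd : 2 ^ j ∣ (centralizer ({t} : Set G)).index * (8 * (r * m * q)) := by
      rw [← hj, show 8 * (r * m * q) = 8 * r * m * q by ring, ← D.card_cent, index_mul_card]
      exact card_subgroup_dvd_card _
    have hcop : (2 ^ j).Coprime ((centralizer ({t} : Set G)).index * (r * m * q)) :=
      ((D.oddIndex.mul ((D.odd_r.mul D.odd_m).mul D.odd_q)).coprime_two_left).pow_left j
    rw [show (centralizer ({t} : Set G)).index * (8 * (r * m * q)) =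
      8 * ((centralizer ({t} : Set G)).index * (r * m * q)) by ring] at hd
    exact hj ▸ hcop.dvd_of_dvd_mul_right hd
  have hcard : 8 ≤ Nat.card E₀ := by
    have hinj : Function.Injective (fun x : Bool × Bool × Bool =>
        (⟨(if x.1 then t else 1) * ((if x.2.1 then s else 1) * (if x.2.2 then z else 1)),
          mul_mem (by split <;> [exact ht; exact one_mem _])
            (mul_mem (by split <;> [exact hs; exact one_mem _]) (by split <;> [exact hz; exact one_mem _]))⟩ :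
          E₀)) := by
      have hsz1 : s * z ≠ 1 := fun h => D.zne (by
        calc z = (s * s) * z := by rw [D.ss, one_mul]
          _ = s := by rw [mul_assoc, h, mul_one])
      have hsK := D.sK
      have hzK := D.zK
      rintro ⟨a, b, c⟩ ⟨a', b', c'⟩ h
      have h' := congrArg Subtype.val h
      simp only at h'
      have hv : ∀ b c : Bool, (if b then s else 1) * (if c then z else 1) ∈ K := by
        intro b c
        cases b <;> cases c <;> simp [hsK, hzK, mul_mem]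
      have haa : a = a' := by
        by_contra hne
        cases a <;> cases a' <;> first | exact hne rfl | simp only [Bool.false_eq_true, if_false, if_true, one_mul] at h'
        · exact D.tK (by
            have : t = (if b then s else 1) * (if c then z else 1) * ((if b' then s else 1) * (if c' then z else 1))⁻¹ :=
              eq_mul_inv_of_mul_eq h'.symm
            rw [this]; exact mul_mem (hv b c) (inv_mem (hv b' c')))
        · exact D.tK (by
            have : t = (if b' then s else 1) * (if c' then z else 1) * ((if b then s else 1) * (if c then z else 1))⁻¹ :=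
              eq_mul_inv_of_mul_eq h'
            rw [this]; exact mul_mem (hv b' c') (inv_mem (hv b c)))
      subst haa
      have h'' := mul_left_cancel h'
      have hbc : (b, c) = (b', c') := by
        cases b <;> cases c <;> cases b' <;> cases c' <;>
          simp [D.s1, D.z1, hsz1, D.zne, Ne.symm D.s1, Ne.symm D.z1, Ne.symm hsz1, Ne.symm D.zne] at h'' ⊢
      exact Prod.ext rfl hbc
    have := Nat.card_le_card_of_injective _ hinj
    simpa [Nat.card_prod] using this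
  have hEP : E₀ = (P : Subgroup G) :=
    eq_of_le_of_card_ge hP ((Nat.le_of_dvd (by norm_num) hP8).trans hcard)
  have h8 : Nat.card (P : Subgroup G) = 8 :=
    le_antisymm (Nat.le_of_dvd (by norm_num) hP8) (hEP ▸ hcard)
  refine ⟨P, hEP ▸ ht, hEP ▸ hs, hEP ▸ hz, h8, hEP ▸ hsq, fun e he => ?_⟩
  rw [← hEP] at he
  exact he

/-- Elements of `2`-power order square to one. -/
theorem Frame.two_sq [Finite G] {a : G} {j : ℕ} (ha : a ^ 2 ^ j = 1) : a * a = 1 := by
  haveI : Fact (Nat.Prime 2) := ⟨Nat.prime_two⟩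
  obtain ⟨E, -, -, -, -, hsq, -⟩ := D.exists_sylow
  obtain ⟨P, hP⟩ := (show IsPGroup 2 (zpowers a) from fun w => ⟨j, by
    obtain ⟨k, hk⟩ := mem_zpowers_iff.1 w.2
    refine Subtype.ext ?_
    rw [SubgroupClass.coe_pow, ← hk, ← zpow_natCast, ← _root_.zpow_mul, mul_comm, _root_.zpow_mul, zpow_natCast, ha]
    simp⟩).exists_le_sylow
  obtain ⟨g, hg⟩ := MulAction.exists_smul_eq G E P
  have h := hP (mem_zpowers a)
  rw [← hg, Sylow.coe_subgroup_smul, mem_smul_pointwise_iff_exists] at h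
  obtain ⟨e, he, rfl⟩ := h
  show MulAut.conj g e * MulAut.conj g e = 1
  rw [← map_mul, hsq e he, map_one]

/-- Elements of a `2`-subgroup commute. -/
theorem Frame.two_comm [Finite G] {P : Subgroup G} (hP : IsPGroup 2 P) {a b : G} (ha : a ∈ P) (hb : b ∈ P) :
    a * b = b * a := by
  have key : ∀ x ∈ P, x * x = 1 := by
    intro x hx
    obtain ⟨j, hj⟩ := hP ⟨x, hx⟩
    exact D.two_sq (congrArg Subtype.val hj)
  calc a * b = (a * b)⁻¹ := (inv_eq_of_mul_eq_one_right (key _ (mul_mem ha hb))).symm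
    _ = b * a := by rw [mul_inv_rev, inv_eq_of_mul_eq_one_right (key a ha), inv_eq_of_mul_eq_one_right (key b hb)]

/-- An element conjugated to its inverse is inverted by an involution. -/
theorem Frame.exists_inverting [Finite G] {x y : G} (hxy : x * y * x⁻¹ = y⁻¹) :
    ∃ i : G, i * i = 1 ∧ i * y * i⁻¹ = y⁻¹ := by
  haveI : Fact (Nat.Prime 2) := ⟨Nat.prime_two⟩
  obtain ⟨a, b, -, hb, hab, ⟨j, hj⟩, hbo⟩ := Cfsg.Lib.Transfer.exists_pPart 2 x
  refine ⟨a, D.two_sq (j := j) (by rw [← hj, pow_orderOf_eq_one]), ?_⟩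
  -- the odd part commutes with `y`
  have hxx : (x * x) * y * (x * x)⁻¹ = y := by
    rw [show x * x * y * (x * x)⁻¹ = x * (x * y * x⁻¹) * x⁻¹ by group, hxy,
      show x * y⁻¹ * x⁻¹ = (x * y * x⁻¹)⁻¹ by group, hxy, inv_inv]
  obtain ⟨k, hk⟩ := mem_zpowers_iff.1 hb
  have ho : Odd (orderOf b) := Nat.coprime_two_right.1 hbo
  have hbmem : b ∈ zpowers (x * x) := by
    obtain ⟨l, hl⟩ := exists_pow_eq_self_of_coprime (x := b) (show Nat.Coprime 2 (orderOf b) from hbo.symm)
    rw [← hl, ← hk, ← zpow_natCast, ← zpow_natCast]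
    exact mem_zpowers_iff.2 ⟨k * l, by
      rw [← pow_two, ← zpow_natCast, ← _root_.zpow_mul, ← _root_.zpow_mul, ← _root_.zpow_mul]; congr 1; push_cast; ring⟩
  have hby : b * y * b⁻¹ = y := by
    have h1 : zpowers (x * x) ≤ centralizer ({y} : Set G) :=
      zpowers_le.2 (mem_centralizer_singleton_iff.2 (mul_inv_eq_iff_eq_mul.1 hxx))
    exact mul_inv_eq_iff_eq_mul.2 (mem_centralizer_singleton_iff.1 (h1 hbmem))
  calc a * y * a⁻¹ = a * (b * y * b⁻¹) * a⁻¹ := by rw [hby]
    _ = (a * b) * y * (a * b)⁻¹ := by group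
    _ = y⁻¹ := by rw [hab, hxy]

/-- No element of order three is conjugate to its inverse. -/
theorem Frame.not_real_three [Finite G] {x y : G} (hy : y ^ 3 = 1) (hxy : x * y * x⁻¹ = y⁻¹) : y = 1 := by
  by_contra h
  haveI : Fact (Nat.Prime 3) := ⟨Nat.prime_three⟩
  exact D.free (Cfsg.Lib.GoldschmidtSFour.involves_of_real (orderOf_eq_prime hy h) hxy)

/-- All involutions are conjugate. -/
theorem Frame.conj_invol [Finite G] {i : G} (hi : i * i = 1) (hi1 : i ≠ 1) : ∃ g : G, g * i * g⁻¹ = t := by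
  classical
  haveI : Fact (Nat.Prime 2) := ⟨Nat.prime_two⟩
  obtain ⟨E, htE, hsE, hzE, h8, hsq, hEcases⟩ := D.exists_sylow
  have hEK : ∀ v : G, (v = 1 ∨ v = s ∨ v = z ∨ v = s * z) → v ∈ K := by
    rintro v (rfl | rfl | rfl | rfl)
    exacts [one_mem _, D.sK, D.zK, mul_mem D.sK D.zK]
  have hEc : ∀ e ∈ (E : Subgroup G), e * t = t * e := fun e he => D.two_comm E.2 he htE
  haveI hEab : IsMulCommutative (E : Subgroup G) :=
    ⟨⟨fun a b => Subtype.ext (D.two_comm E.2 a.2 b.2)⟩⟩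
  -- `t` is not central in its fusion
  have hmove : ∃ g : G, g * t * g⁻¹ ∈ (E : Subgroup G) ∧ g * t * g⁻¹ ≠ t := by
    by_contra! hfix
    have hN : normalizer ((E : Subgroup G) : Set G) ≤ centralizer ({t} : Set G) := fun n hn =>
      mem_centralizer_singleton_iff.2 (mul_inv_eq_iff_eq_mul.1 (hfix n ((mem_normalizer_iff.1 hn t).1 htE)))
    have hc : _root_.commutator G = ⊤ := by
      haveI := D.simple
      exact (Normal.eq_bot_or_eq_top inferInstance).resolve_left fun hb => D.noncomm ⟨⟨fun a b => by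
        refine commutatorElement_eq_one_iff_mul_comm.mp ?_
        rw [← mem_bot, ← hb]
        exact commutator_mem_commutator (mem_top a) (mem_top b)⟩⟩
    have hfoc : (E : Subgroup G) = ⁅(E : Subgroup G), normalizer ((E : Subgroup G) : Set G)⁆ := by
      have h := commutator_inf_eq_focalSubgroup E
      rw [hc, top_inf_eq] at h
      exact h.trans (Cfsg.Lib.Transfer.focal_eq_commutator_normalizer E hEab)
    have hle : ⁅(E : Subgroup G), normalizer ((E : Subgroup G) : Set G)⁆ ≤ K := by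
      rw [commutator_le]
      intro e he n hn
      have hnt := mem_centralizer_singleton_iff.1 (hN hn)
      obtain ⟨v, hv, he'⟩ := hEcases e he
      have hvK := hEK v hv
      obtain ⟨l, hl, hle'⟩ := D.conj_K hnt (inv_mem hvK)
      have hmain : ⁅v, n⁆ ∈ K := by
        rw [commutatorElement_def, show v * n * v⁻¹ * n⁻¹ = v * (n * v⁻¹ * n⁻¹) by group, hle']
        exact mul_mem hvK (mul_mem (mul_mem hl (inv_mem hvK)) (inv_mem hl))
      rcases he' with rfl | rfl
      · exact hmain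
      · have hnt' : n * t⁻¹ * n⁻¹ = t⁻¹ := by
          rw [show n * t⁻¹ * n⁻¹ = (n * t * n⁻¹)⁻¹ by group, hnt, mul_inv_cancel_right]
        rw [commutatorElement_def, show t * v * n * (t * v)⁻¹ * n⁻¹ = t * (v * n * v⁻¹ * n⁻¹) * (n * t⁻¹ * n⁻¹) by
          group, hnt', ← commutatorElement_def, D.comm _ hmain, mul_inv_cancel_right]
        exact hmain
    exact D.tK (hle (hfoc ▸ htE))
  -- the class of `t` meets `E` in an odd number of elements
  set O : Set G := {e | e ∈ (E : Subgroup G) ∧ ∃ g, g * t * g⁻¹ = e} with hO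
  have hOodd : Odd O.ncard := by
    set N := normalizer ((E : Subgroup G) : Set G)
    let S : Subgroup N := (centralizer ({t} : Set G)).subgroupOf N
    have hbij : Nat.card (N ⧸ S) = O.ncard := by
      rw [← Nat.card_coe_set_eq]
      let f : N → O := fun n => ⟨(n : G) * t * (n : G)⁻¹, (mem_normalizer_iff.1 n.2 t).1 htE, n, rfl⟩
      have hf : Function.Surjective f := by
        rintro ⟨e, he, g, rfl⟩
        obtain ⟨n, hn, hne⟩ := Cfsg.Lib.Transfer.abelian_sylow_fusion E hEab t g htE he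
        exact ⟨⟨n, hn⟩, Subtype.ext hne.symm⟩
      have hfe : ∀ a b : N, f a = f b ↔ (QuotientGroup.mk a : N ⧸ S) = QuotientGroup.mk b := by
        intro a b
        rw [QuotientGroup.eq, mem_subgroupOf, mem_centralizer_singleton_iff, Subtype.ext_iff]
        show (a : G) * t * (a : G)⁻¹ = (b : G) * t * (b : G)⁻¹ ↔ ((a⁻¹ * b : N) : G) * t = t * ((a⁻¹ * b : N) : G)
        simp only [Subgroup.coe_mul, Subgroup.coe_inv]
        constructor
        · intro h
          calc (a : G)⁻¹ * b * t = (a : G)⁻¹ * ((b : G) * t * (b : G)⁻¹) * b := by group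
            _ = (a : G)⁻¹ * ((a : G) * t * (a : G)⁻¹) * b := by rw [h]
            _ = t * ((a : G)⁻¹ * b) := by group
        · intro h
          calc (a : G) * t * (a : G)⁻¹ = (a : G) * (t * ((a : G)⁻¹ * b)) * (b : G)⁻¹ := by group
            _ = (a : G) * ((a : G)⁻¹ * b * t) * (b : G)⁻¹ := by rw [h]
            _ = (b : G) * t * (b : G)⁻¹ := by group
      refine Nat.card_congr (Equiv.ofBijective (Quotient.lift f fun a b h => (hfe a b).2 (Quotient.sound h)) ⟨?_, ?_⟩)
      · rintro ⟨a⟩ ⟨b⟩ h; exact (hfe a b).1 h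
      · exact fun e => let ⟨n, hn⟩ := hf e; ⟨QuotientGroup.mk n, hn⟩
    rw [← hbij, ← Subgroup.index_eq_card]
    have hle : (E : Subgroup G).subgroupOf N ≤ S := fun x hx =>
      mem_subgroupOf.2 (mem_centralizer_singleton_iff.2 (hEc _ hx))
    refine Odd.of_dvd_nat ?_ (index_dvd_of_le hle)
    have h2 : ¬ 2 ∣ ((E : Subgroup G).subgroupOf N).index := by
      have := (E.subtype (le_normalizer (H := (E : Subgroup G)))).not_dvd_index
      rwa [Sylow.coe_subtype] at this
    exact Nat.odd_iff.2 (Nat.two_dvd_ne_zero.1 h2)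
  -- the two other classes of `C(t)`
  have hKV : ∀ v : G, (v = s ∨ v = z ∨ v = s * z) → ∀ (w : G), (w = s ∨ w = z ∨ w = s * z) →
      ∃ k ∈ K, k * v * k⁻¹ = w := by
    have hbase : ∀ v : G, (v = s ∨ v = z ∨ v = s * z) → ∃ k ∈ K, k * s * k⁻¹ = v := by
      rintro v (hv | hv | hv) <;> subst hv
      · exact D.invol _ D.sK D.ss D.s1
      · exact D.invol _ D.zK D.zz D.z1
      · refine D.invol _ (mul_mem D.sK D.zK) ?_ fun h => D.zne (by
          calc z = (s * s) * z := by rw [D.ss, one_mul]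
            _ = s := by rw [mul_assoc, h, mul_one])
        rw [show s * z * (s * z) = s * (z * s) * z by group, D.zs,
          show s * (s * z) * z = (s * s) * (z * z) by group, D.ss, D.zz, one_mul]
    intro v hv w hw
    obtain ⟨k, hk, hk'⟩ := hbase v hv
    obtain ⟨l, hl, hl'⟩ := hbase w hw
    refine ⟨l * k⁻¹, mul_mem hl (inv_mem hk), ?_⟩
    rw [← hk', ← hl']; group
  have hnz : s ≠ z := Ne.symm D.zne
  have hsz1 : s * z ≠ 1 := fun h => D.zne (by
    calc z = (s * s) * z := by rw [D.ss, one_mul]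
      _ = s := by rw [mul_assoc, h, mul_one])
  have hssz : s ≠ s * z := fun h => D.z1 (mul_left_cancel (a := s) (by rw [mul_one]; exact h.symm))
  have hzsz : z ≠ s * z := fun h => D.s1 (mul_right_cancel (b := z) (by rw [one_mul]; exact h.symm))
  set A : Set G := {v | v = s ∨ v = z ∨ v = s * z} with hA
  set B : Set G := {e | ∃ v ∈ A, e = t * v} with hB
  have hAK : ∀ v ∈ A, v ∈ K := fun v hv => hEK v (Or.inr hv)
  have hAE : ∀ v ∈ A, v ∈ (E : Subgroup G) := by
    rintro v (rfl | rfl | rfl)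
    exacts [hsE, hzE, mul_mem hsE hzE]
  have hAclass : ∀ v ∈ A, v ∈ O → A ⊆ O := by
    rintro v hv ⟨-, g, hg⟩ w hw
    obtain ⟨k, -, hk⟩ := hKV v hv w hw
    exact ⟨hAE w hw, k * g, by rw [show k * g * t * (k * g)⁻¹ = k * (g * t * g⁻¹) * k⁻¹ by group, hg, hk]⟩
  have hBclass : ∀ v ∈ A, t * v ∈ O → B ⊆ O := by
    rintro v hv ⟨-, g, hg⟩ _ ⟨w, hw, rfl⟩
    obtain ⟨k, hkK, hk⟩ := hKV v hv w hw
    refine ⟨mul_mem htE (hAE w hw), k * g, ?_⟩
    rw [show k * g * t * (k * g)⁻¹ = k * (g * t * g⁻¹) * k⁻¹ by group, hg,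
      show k * (t * v) * k⁻¹ = (k * t) * v * k⁻¹ by group, ← D.comm k hkK,
      show t * k * v * k⁻¹ = t * (k * v * k⁻¹) by group, hk]
  have htA : t ∉ A := fun h => D.tK (hAK t h)
  have hB3 : B.ncard = 3 := by
    have : B = {t * s, t * z, t * (s * z)} := by
      ext e; simp [hB, hA]
    rw [this, Set.ncard_eq_three]
    exact ⟨_, _, _, fun h => hnz (mul_left_cancel h), fun h => hssz (mul_left_cancel h),
      fun h => hzsz (mul_left_cancel h), rfl⟩
  have hA3 : A.ncard = 3 := by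
    have : A = {s, z, s * z} := by ext e; simp [hA]
    rw [this, Set.ncard_eq_three]
    exact ⟨_, _, _, hnz, hssz, hzsz, rfl⟩
  have hOsub : ∀ e ∈ O, e = t ∨ e ∈ A ∨ e ∈ B := by
    rintro e ⟨he, g, hg⟩
    obtain ⟨v, hv, he'⟩ := hEcases e he
    rcases hv with rfl | hv
    · rcases he' with rfl | rfl
      · exact absurd (conj_eq_one_iff.1 hg) D.t1
      · exact Or.inl (mul_one t)
    · rcases he' with rfl | rfl
      · exact Or.inr (Or.inl hv)
      · exact Or.inr (Or.inr ⟨v, hv, rfl⟩)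
  have htO : t ∈ O := ⟨htE, 1, by group⟩
  have htB : t ∉ B := by
    rintro ⟨v, hv, h⟩
    have hv1 : v = 1 := mul_left_cancel (a := t) (by rw [mul_one]; exact h.symm)
    rcases hv with rfl | rfl | rfl
    exacts [D.s1 hv1, D.z1 hv1, hsz1 hv1]
  have hall : A ⊆ O ∧ B ⊆ O := by
    obtain ⟨g, hgE, hgne⟩ := hmove
    have hgO : g * t * g⁻¹ ∈ O := ⟨hgE, g, rfl⟩
    rcases hOsub _ hgO with h | h | h
    · exact absurd h hgne
    · have hAO := hAclass _ h hgO
      refine ⟨hAO, ?_⟩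
      by_contra hBO
      have : O = insert t A := by
        refine Set.Subset.antisymm (fun e he => ?_) (Set.insert_subset htO hAO)
        rcases hOsub e he with h' | h' | ⟨v, hv, rfl⟩
        exacts [Or.inl h', Or.inr h', absurd (hBclass v hv he) hBO]
      rw [this, Set.ncard_insert_of_notMem htA, hA3] at hOodd
      exact absurd hOodd (by decide)
    · obtain ⟨v, hv, hv'⟩ := h
      have hBO := hBclass v hv (hv' ▸ hgO)
      refine ⟨?_, hBO⟩
      by_contra hAO
      have : O = insert t B := by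
        refine Set.Subset.antisymm (fun e he => ?_) (Set.insert_subset htO hBO)
        rcases hOsub e he with h' | h' | h'
        exacts [Or.inl h', absurd (hAclass e h' he) hAO, Or.inr h']
      rw [this, Set.ncard_insert_of_notMem htB, hB3] at hOodd
      exact absurd hOodd (by decide)
  -- conjugate `i` into `E`
  obtain ⟨P, hP⟩ := (show IsPGroup 2 (zpowers i) from fun w => ⟨1, by
    obtain ⟨k, hk⟩ := mem_zpowers_iff.1 w.2
    refine Subtype.ext ?_
    rw [SubgroupClass.coe_pow, ← hk, ← zpow_natCast, ← _root_.zpow_mul, mul_comm, _root_.zpow_mul, zpow_natCast,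
      pow_one, pow_two, hi]
    simp⟩).exists_le_sylow
  obtain ⟨g, hg⟩ := MulAction.exists_smul_eq G P E
  have hgE : g * i * g⁻¹ ∈ (E : Subgroup G) := by
    rw [← hg, Sylow.coe_subgroup_smul, mem_smul_pointwise_iff_exists]
    exact ⟨i, hP (mem_zpowers i), rfl⟩
  have hne : g * i * g⁻¹ ≠ 1 := fun h => hi1 (conj_eq_one_iff.1 h)
  have hO' : g * i * g⁻¹ ∈ O := by
    obtain ⟨v, hv, he'⟩ := hEcases _ hgE
    rcases hv with rfl | hv
    · rcases he' with h | h
      · exact absurd h hne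
      · rw [h, mul_one]; exact htO
    · rcases he' with h | h
      · rw [h]; exact hall.1 hv
      · rw [h]; exact hall.2 ⟨v, hv, rfl⟩
  obtain ⟨-, g', hg'⟩ := hO'
  refine ⟨g'⁻¹ * g, ?_⟩
  calc g'⁻¹ * g * i * (g'⁻¹ * g)⁻¹ = g'⁻¹ * (g * i * g⁻¹) * g' := by group
    _ = g'⁻¹ * (g' * t * g'⁻¹) * g' := by rw [hg']
    _ = t := by group

end Basic

end Cfsg.Lib.ReeThree
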