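import Cfsg.Agent.ReeInvolveThree.Centralizers
import Cfsg.Agent.S2202

/-!
A group of Ree type without a section `S₃`: two impossible configurations.
-/

set_option autoImplicit false
set_option linter.style.haveILetI false
set_option linter.unusedSectionVars false

namespace Cfsg.Lib.ReeThree

open Subgroup
open Matrix

universe u v

variable {G : Type u} [Group G]

/-- `SL₂` of characteristic two times a group has a section `S₃`. -/
theorem involves_three_sl2_prod {F : Type v} [Field F] [Fintype F] [CharP F 2] {A : Type v} [Group A] [Finite A] :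
    Cfsg.Involves (Equiv.Perm (Fin 3)) (Matrix.SpecialLinearGroup (Fin 2) F × A) := by
  haveI : Fact (Nat.Prime 3) := ⟨Nat.prime_three⟩
  have h2 : (2 : F) = 0 := CharP.cast_eq_zero F 2
  have h11 : (1 : F) + 1 = 0 := by rw [one_add_one_eq_two, h2]
  let y : Matrix.SpecialLinearGroup (Fin 2) F := ⟨!![1, 1; 1, 0], by
    rw [det_fin_two_of]; linear_combination (-(1 : F)) * h11⟩
  let x : Matrix.SpecialLinearGroup (Fin 2) F := ⟨!![0, 1; 1, 0], by
    rw [det_fin_two_of]; linear_combination (-(1 : F)) * h11⟩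
  refine Cfsg.Lib.GoldschmidtSFour.involves_of_real (x := ((x, 1) : _ × A)) (y := (y, 1)) ?_ ?_
  · refine orderOf_eq_prime ?_ ?_
    · refine Prod.ext ?_ (one_pow 3)
      show y ^ 3 = 1
      refine Subtype.ext ?_
      rw [pow_succ, pow_two]
      show !![(1 : F), 1; 1, 0] * !![1, 1; 1, 0] * !![1, 1; 1, 0] = 1
      ext i j
      fin_cases i <;> fin_cases j <;> simp [Matrix.mul_apply, Fin.sum_univ_two, h11]
    · intro h
      have h' := congrArg (fun a => (a.1 : Matrix (Fin 2) (Fin 2) F) 0 1) h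
      simp [y] at h'
  · refine Prod.ext ?_ (by simp)
    show x * y * x⁻¹ = y⁻¹
    refine mul_inv_eq_iff_eq_mul.2 (eq_inv_mul_iff_mul_eq.2 (Subtype.ext ?_))
    show !![(1 : F), 1; 1, 0] * (!![(0 : F), 1; 1, 0] * !![1, 1; 1, 0]) = !![0, 1; 1, 0]
    ext i j
    fin_cases i <;> fin_cases j <;> simp [Matrix.mul_apply, Fin.sum_univ_two, h11]

section Inverted

variable [Finite G] {t s z : G} {K U H R : Subgroup G} {q m r : ℕ} (D : Frame t K q m r U H R s z)
include D

theorem Frame.cent_R_comm {ρ c c' : G} (hρ : ρ ∈ R) (hρ1 : ρ ≠ 1) (hct : c * t = t * c) (hcρ : c * ρ = ρ * c)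
    (hct' : c' * t = t * c') (hcρ' : c' * ρ = ρ * c') : c * c' = c' * c := by
  have hform : ∀ d : G, d * t = t * d → d * ρ = ρ * d →
      ∃ ρ₁ ∈ R, ∃ a b : G, (a = 1 ∨ a = t) ∧ (b = 1 ∨ b = s) ∧ d = a * (ρ₁ * b) := by
    intro d hd hdρ
    obtain ⟨k, hk, h⟩ := D.split d hd
    have hkρ : k * ρ = ρ * k := by
      rcases h with rfl | rfl
      · exact hdρ
      · refine mul_left_cancel (a := t) ?_
        rw [← mul_assoc, hdρ, ← mul_assoc ρ, ← D.comm ρ (D.RK hρ), mul_assoc]
    obtain ⟨ρ₁, hρ₁, h'⟩ := D.Rcent ρ hρ hρ1 k hk hkρ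
    refine ⟨ρ₁, hρ₁, ?_⟩
    rcases h with rfl | rfl <;> rcases h' with rfl | rfl
    exacts [⟨1, 1, Or.inl rfl, Or.inl rfl, by group⟩, ⟨1, s, Or.inl rfl, Or.inr rfl, by group⟩,
      ⟨t, 1, Or.inr rfl, Or.inl rfl, by group⟩, ⟨t, s, Or.inr rfl, Or.inr rfl, rfl⟩]
  obtain ⟨ρ₁, hρ₁, a, b, ha, hb, rfl⟩ := hform c hct hcρ
  obtain ⟨ρ₂, hρ₂, a', b', ha', hb', rfl⟩ := hform c' hct' hcρ'
  haveI := D.Rcyc
  have hRR : ∀ x ∈ R, ∀ y ∈ R, Commute x y := fun x hx y hy =>
    letI := IsCyclic.commGroup (α := R)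
    congrArg Subtype.val (mul_comm (⟨x, hx⟩ : R) ⟨y, hy⟩)
  have hab : ∀ a b : G, (a = 1 ∨ a = t) → (b = 1 ∨ b = s) → Commute a b := by
    rintro a b (rfl | rfl) (rfl | rfl)
    exacts [Commute.one_left _, Commute.one_left _, Commute.one_right _, D.comm b D.sK]
  have haR : ∀ a : G, (a = 1 ∨ a = t) → ∀ x ∈ R, Commute a x := by
    rintro a (rfl | rfl) x hx
    exacts [Commute.one_left _, D.comm x (D.RK hx)]
  have hbR : ∀ b : G, (b = 1 ∨ b = s) → ∀ x ∈ R, Commute b x := by
    rintro b (rfl | rfl) x hx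
    exacts [Commute.one_left _, (D.Rs x hx).symm]
  have haa : ∀ a a' : G, (a = 1 ∨ a = t) → (a' = 1 ∨ a' = t) → Commute a a' := by
    rintro a a' (rfl | rfl) (rfl | rfl)
    exacts [Commute.one_left _, Commute.one_left _, Commute.one_right _, Commute.refl _]
  have hbb : ∀ b b' : G, (b = 1 ∨ b = s) → (b' = 1 ∨ b' = s) → Commute b b' := by
    rintro b b' (rfl | rfl) (rfl | rfl)
    exacts [Commute.one_left _, Commute.one_left _, Commute.one_right _, Commute.refl _]
  have h1 : Commute (ρ₁ * b) a' := (haR a' ha' ρ₁ hρ₁).symm.mul_left (hab a' b ha' hb).symm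
  have h2 : Commute (ρ₁ * b) (ρ₂ * b') :=
    ((hRR ρ₁ hρ₁ ρ₂ hρ₂).mul_right (hbR b' hb' ρ₁ hρ₁).symm).mul_left
      ((hbR b hb ρ₂ hρ₂).mul_right (hbb b b' hb hb'))
  exact (((haa a a' ha ha').mul_right ((haR a ha ρ₂ hρ₂).mul_right (hab a b' ha hb'))).mul_left
    (h1.mul_right h2)).eq

/-- An element conjugate into `R` centralises no real element of odd order. -/
theorem Frame.no_inverted_R {y i h : G} (hy : orderOf y ∣ r) (hy1 : y ≠ 1) (hi : i * i = 1) (hi1 : i ≠ 1)
    (hiy : i * y = y * i) (hh : h * y = y * h) (hho : Odd (orderOf h)) (hinv : i * h * i⁻¹ = h⁻¹) : h = 1 := by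
  haveI : Fact (Nat.Prime 2) := ⟨Nat.prime_two⟩
  obtain ⟨g, hg⟩ := D.conj_invol hi hi1
  have hyK : g * y * g⁻¹ ∈ K := by
    refine D.odd_mem ?_ ((orderOf_conj_eq g y).symm ▸ D.odd_r.of_dvd_nat hy)
    rw [← hg]
    calc g * y * g⁻¹ * (g * i * g⁻¹) = g * (y * i) * g⁻¹ := by group
      _ = g * (i * y) * g⁻¹ := by rw [hiy]
      _ = g * i * g⁻¹ * (g * y * g⁻¹) := by group
  obtain ⟨a, ha, haR⟩ := D.conj_R hyK ((orderOf_conj_eq g y).symm ▸ hy) (fun h => hy1 (conj_eq_one_iff.1 h))
  set d : G →* G := (MulAut.conj (a * g)).toMonoidHom with hd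
  have hdi : d i = t := by
    show a * g * i * (a * g)⁻¹ = t
    rw [show a * g * i * (a * g)⁻¹ = a * (g * i * g⁻¹) * a⁻¹ by group, hg, ← D.comm a ha, mul_inv_cancel_right]
  have hdy : d y ∈ R := by
    show a * g * y * (a * g)⁻¹ ∈ R
    rw [show a * g * y * (a * g)⁻¹ = a * (g * y * g⁻¹) * a⁻¹ by group]; exact haR
  refine (MulAut.conj (a * g)).injective ((?_ : d h = 1).trans (map_one _).symm)
  have hdy1 : d y ≠ 1 := fun e => hy1 ((MulAut.conj (a * g)).injective (e.trans (map_one d).symm))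
  have hdinv : t * d h * t⁻¹ = (d h)⁻¹ := by rw [← hdi, ← map_inv, ← map_mul, ← map_mul, hinv, map_inv]
  set ρ := d y with hρdef
  set X : Subgroup G := centralizer ({ρ} : Set G) with hX
  have htX : t ∈ X := mem_centralizer_singleton_iff.2 (D.comm ρ (D.RK hdy))
  have hsX : s ∈ X := mem_centralizer_singleton_iff.2 (D.Rs ρ hdy).symm
  have hhX : d h ∈ X := mem_centralizer_singleton_iff.2 (by rw [hρdef, ← map_mul, ← map_mul, hh])
  have heven : Even (Nat.card X) := by
    refine even_iff_two_dvd.2 ?_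
    have h2 : orderOf (⟨t, htX⟩ : X) = 2 := orderOf_eq_prime (Subtype.ext (by simpa [pow_two] using D.tt))
      (fun e => D.t1 (congrArg Subtype.val e))
    exact h2 ▸ orderOf_dvd_natCard _
  have hab : ∀ w : X, orderOf w = 2 → IsMulCommutative ↥(centralizer ({w} : Set X)) := by
    intro w hw
    have hww : (w : G) * w = 1 := by
      have := pow_orderOf_eq_one w
      rw [hw, pow_two] at this
      exact congrArg Subtype.val this
    have hw1 : (w : G) ≠ 1 := fun e => by
      rw [show w = 1 from Subtype.ext e, orderOf_one] at hw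
      omega
    obtain ⟨g', hg'⟩ := D.conj_invol hww hw1
    have hρK : g' * ρ * g'⁻¹ ∈ K := by
      refine D.odd_mem ?_ ((orderOf_conj_eq g' ρ).symm ▸ D.odd_R hdy)
      rw [← hg']
      calc g' * ρ * g'⁻¹ * (g' * w * g'⁻¹) = g' * (ρ * w) * g'⁻¹ := by group
        _ = g' * ((w : G) * ρ) * g'⁻¹ := by rw [mem_centralizer_singleton_iff.1 w.2]
        _ = g' * w * g'⁻¹ * (g' * ρ * g'⁻¹) := by group
    obtain ⟨a', ha', ha'R⟩ := D.conj_R hρK ((orderOf_conj_eq g' ρ).symm ▸ D.orderOf_R hdy)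
      (fun e => hdy1 (conj_eq_one_iff.1 e))
    set e : G →* G := (MulAut.conj (a' * g')).toMonoidHom with he
    have hew : e w = t := by
      show a' * g' * w * (a' * g')⁻¹ = t
      rw [show a' * g' * w * (a' * g')⁻¹ = a' * (g' * w * g'⁻¹) * a'⁻¹ by group, hg', ← D.comm a' ha',
        mul_inv_cancel_right]
    have heρ : e ρ ∈ R := by
      show a' * g' * ρ * (a' * g')⁻¹ ∈ R
      rw [show a' * g' * ρ * (a' * g')⁻¹ = a' * (g' * ρ * g'⁻¹) * a'⁻¹ by group]; exact ha'R
    have heρ1 : e ρ ≠ 1 := fun e' => hdy1 ((MulAut.conj (a' * g')).injective (e'.trans (map_one e).symm))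
    refine ⟨⟨fun c c' => Subtype.ext (Subtype.ext ((MulAut.conj (a' * g')).injective ?_))⟩⟩
    show e (((c : X) : G) * ((c' : X) : G)) = e (((c' : X) : G) * ((c : X) : G))
    have hmem : ∀ c : centralizer ({w} : Set X), e ((c : X) : G) * t = t * e ((c : X) : G) ∧
        e ((c : X) : G) * e ρ = e ρ * e ((c : X) : G) := fun c => by
      refine ⟨?_, ?_⟩
      · rw [← hew, ← map_mul, ← map_mul]
        exact congrArg e (congrArg Subtype.val (mem_centralizer_singleton_iff.1 c.2))
      · rw [← map_mul, ← map_mul, mem_centralizer_singleton_iff.1 (c : X).2]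
    rw [map_mul, map_mul]
    exact D.cent_R_comm heρ heρ1 (hmem c).1 (hmem c).2 (hmem c').1 (hmem c').2
  rcases Cfsg.Agent.S2202.result heven hab with hcyc | hnor | ⟨F, _, _, A, _, _, hchar, -, ⟨φ⟩⟩
  · exfalso
    let V : Subgroup X :=
      { carrier := {e | (e : G) = 1 ∨ (e : G) = t ∨ (e : G) = s ∨ (e : G) = t * s}
        one_mem' := Or.inl rfl
        inv_mem' := by
          intro e he
          rcases he with he | he | he | he
          · exact Or.inl (by simp [he])
          · exact Or.inr (Or.inl (by simp [he, D.tinv]))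
          · exact Or.inr (Or.inr (Or.inl (by simp [he, inv_eq_of_mul_eq_one_right D.ss])))
          · refine Or.inr (Or.inr (Or.inr ?_))
            simp [he, inv_eq_of_mul_eq_one_right D.ss, D.tinv, D.comm s D.sK]
        mul_mem' := by
          intro a b ha hb
          have hts := D.comm s D.sK
          rcases ha with ha | ha | ha | ha <;> rcases hb with hb | hb | hb | hb <;>
            simp only [Set.mem_setOf_eq, Subgroup.coe_mul, ha, hb]
          all_goals first
            | exact Or.inl (one_mul _)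
            | exact Or.inr (Or.inl (one_mul _))
            | exact Or.inr (Or.inr (Or.inl (one_mul _)))
            | exact Or.inr (Or.inr (Or.inr (one_mul _)))
            | exact Or.inr (Or.inl (mul_one _))
            | exact Or.inr (Or.inr (Or.inl (mul_one _)))
            | exact Or.inr (Or.inr (Or.inr (mul_one _)))
            | exact Or.inl D.tt
            | exact Or.inr (Or.inr (Or.inr trivial))
            | exact Or.inr (Or.inr (Or.inl (by rw [← mul_assoc, D.tt, one_mul])))
            | exact Or.inr (Or.inr (Or.inr hts.symm))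
            | exact Or.inl D.ss
            | exact Or.inr (Or.inl (by rw [hts, ← mul_assoc, D.ss, one_mul]))
            | exact Or.inr (Or.inr (Or.inl (by rw [mul_assoc, ← hts, ← mul_assoc, D.tt, one_mul])))
            | exact Or.inr (Or.inl (by rw [mul_assoc, D.ss, mul_one]))
            | exact Or.inl (by rw [show t * s * (t * s) = t * (s * t) * s by group, ← hts,
                show t * (t * s) * s = (t * t) * (s * s) by group, D.tt, D.ss, one_mul]) }
    have hV2 : IsPGroup 2 V := fun e => ⟨1, Subtype.ext (Subtype.ext (by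
      have hts := D.comm s D.sK
      show (((e : X) ^ 2 ^ 1 : X) : G) = 1
      rw [pow_one, pow_two, Subgroup.coe_mul]
      rcases e.2 with he | he | he | he <;> rw [he]
      · rw [one_mul]
      · exact D.tt
      · exact D.ss
      · rw [show t * s * (t * s) = t * (s * t) * s by group, ← hts,
          show t * (t * s) * s = (t * t) * (s * s) by group, D.tt, D.ss, one_mul]))⟩
    obtain ⟨P, hP⟩ := hV2.exists_le_sylow
    haveI := hcyc P
    let a : (P : Subgroup X) := ⟨⟨t, htX⟩, hP (Or.inr (Or.inl rfl))⟩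
    let b : (P : Subgroup X) := ⟨⟨s, hsX⟩, hP (Or.inr (Or.inr (Or.inl rfl)))⟩
    classical
    haveI := Fintype.ofFinite (P : Subgroup X)
    have hsub : ({1, a, b} : Finset (P : Subgroup X)) ⊆ Finset.univ.filter fun w => w ^ 2 = 1 := by
      intro w hw
      simp only [Finset.mem_insert, Finset.mem_singleton] at hw
      refine Finset.mem_filter.2 ⟨Finset.mem_univ _, ?_⟩
      rcases hw with rfl | rfl | rfl
      · exact one_pow 2
      · exact Subtype.ext (Subtype.ext (by simpa [a, pow_two] using D.tt))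
      · exact Subtype.ext (Subtype.ext (by simpa [b, pow_two] using D.ss))
    have hcard : ({1, a, b} : Finset (P : Subgroup X)).card = 3 :=
      Finset.card_eq_three.2 ⟨1, a, b, fun e => D.t1 (congrArg (fun w : (P : Subgroup X) => ((w : X) : G)) e).symm,
        fun e => D.s1 (congrArg (fun w : (P : Subgroup X) => ((w : X) : G)) e).symm,
        fun e => D.tK (by
          have : t = s := congrArg (fun w : (P : Subgroup X) => ((w : X) : G)) e
          exact this ▸ D.sK), rfl⟩
    have := (Finset.card_le_card hsub).trans (IsCyclic.card_pow_eq_one_le (α := (P : Subgroup X)) two_pos)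
    omega
  · haveI : Nonempty (Sylow 2 X) := inferInstance
    obtain ⟨P, hP⟩ := (show IsPGroup 2 (zpowers (⟨t, htX⟩ : X)) from IsPGroup.of_card (n := 1) (by
      rw [Nat.card_zpowers, pow_one]
      exact orderOf_eq_prime (Subtype.ext (by simpa [pow_two] using D.tt)) (fun h => D.t1 (congrArg Subtype.val h)))).exists_le_sylow
    have htP : (⟨t, htX⟩ : X) ∈ (P : Subgroup X) := hP (mem_zpowers _)
    haveI := hnor P
    set x' : X := ⟨d h, hhX⟩ with hx'
    have hmem : (⟨t, htX⟩ : X) * (x' * ⟨t, htX⟩ * x'⁻¹) ∈ (P : Subgroup X) :=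
      mul_mem htP ((inferInstance : (P : Subgroup X).Normal).conj_mem _ htP x')
    have hho' : Odd (orderOf (d h)) := by
      rw [show orderOf (d h) = orderOf h from orderOf_conj_eq _ h]; exact hho
    have he : t * (d h * t * (d h)⁻¹) = (d h)⁻¹ * (d h)⁻¹ := by
      rw [show t * (d h * t * (d h)⁻¹) = (t * d h * t⁻¹) * (t * t) * (d h)⁻¹ by group, D.tt, hdinv, mul_one]
    obtain ⟨j, hj⟩ := P.2 ⟨_, hmem⟩
    have hpow : ((d h)⁻¹ * (d h)⁻¹) ^ 2 ^ j = 1 := by
      rw [← he]
      exact congrArg (fun w : (P : Subgroup X) => ((w : X) : G)) hj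
    have hsq : (d h) * (d h) = 1 := by
      rw [← _root_.mul_inv_rev, inv_pow, inv_eq_one] at hpow
      refine orderOf_eq_one_iff.1 (Nat.eq_one_of_dvd_coprimes
        (((hho'.of_dvd_nat ?_).coprime_two_left).pow_left j) (orderOf_dvd_of_pow_eq_one hpow) dvd_rfl)
      rw [← pow_two]
      exact orderOf_pow_dvd 2
    exact eq_one_of_odd_sq hho' hsq
  · exfalso
    exact D.free (Cfsg.Lib.QdFree.involves_of_injective X.subtype_injective
      (Cfsg.Lib.GoldschmidtSFour.involves_equiv φ involves_three_sl2_prod))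

theorem Frame.v_facts {v : G} (hv : v = s ∨ v = t * s) :
    v * v = 1 ∧ v ≠ 1 ∧ v ≠ t ∧ v * t = t * v ∧ (∀ h ∈ H, v * h * v⁻¹ = h⁻¹) ∧
      ∀ e : G, e * t = t * e → (e * v = v * e ↔ e * s = s * e) := by
  have hts := D.comm s D.sK
  have hst : s ≠ t := fun h => D.tK (h ▸ D.sK)
  rcases hv with rfl | rfl
  · exact ⟨D.ss, D.s1, hst, hts.symm, D.sH, fun e _ => Iff.rfl⟩
  · refine ⟨by rw [show t * s * (t * s) = t * (s * t) * s by group, ← hts,
        show t * (t * s) * s = (t * t) * (s * s) by group, D.tt, D.ss, one_mul],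
      fun h => hst ((eq_inv_of_mul_eq_one_right h).trans D.tinv),
      fun h => D.s1 (mul_left_cancel (a := t) (by rw [h, mul_one])), by rw [mul_assoc, ← hts], ?_, ?_⟩
    · intro h hh
      rw [show t * s * h * (t * s)⁻¹ = t * (s * h * s⁻¹) * t⁻¹ by group, D.sH h hh,
        D.comm _ (inv_mem (D.HK hh)), mul_inv_cancel_right]
    · intro e he
      have het : Commute e t := he
      refine ⟨fun h => ?_, fun h => (het.mul_right (show Commute e s from h)).eq⟩
      have := het.inv_right.mul_right (show Commute e (t * s) from h)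
      rwa [inv_mul_cancel_left] at this

/-- No element of order three permutes `t, s, ts` cyclically and normalises the torus. -/
theorem Frame.no_cycle {x v h₀ : G} (hv : v = s ∨ v = t * s) (hx : x ^ 3 = 1) (hxt : x * t * x⁻¹ = v)
    (hxv : x * v * x⁻¹ = t * v) (hh : h₀ ∈ H) (hh1 : h₀ ≠ 1)
    (hcomm : h₀ * (x * h₀ * x⁻¹) = x * h₀ * x⁻¹ * h₀) : False := by
  classical
  haveI : Fact (Nat.Prime 3) := ⟨Nat.prime_three⟩
  obtain ⟨hvv, hv1, hvt, hvc, hvH, hviff⟩ := D.v_facts hv
  have hx1 : x ≠ 1 := fun e => hvt (by rw [← hxt, e, one_mul, inv_one, mul_one])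
  have hxtv : x * (t * v) * x⁻¹ = t := by
    rw [show x * (t * v) * x⁻¹ = (x * t * x⁻¹) * (x * v * x⁻¹) by group, hxt, hxv, ← mul_assoc, hvc, mul_assoc,
      hvv, mul_one]
  have hts := D.comm s D.sK
  -- the involutions of `C(t, s)` outside the four-group
  set S : Set G := {e | e * t = t * e ∧ e * v = v * e ∧ e * e = 1 ∧ e ≠ 1 ∧ e ≠ t ∧ e ≠ v ∧ e ≠ t * v} with hS
  let f : R × Bool × Bool → G := fun w =>
    (if w.2.1 then t else 1) * ((w.1 : G) * ((if w.2.2 then s else 1) * z))
  have hzρ : ∀ ρ ∈ R, z * ρ = ρ⁻¹ * z := fun ρ hρ => mul_inv_eq_iff_eq_mul.1 (D.zR ρ hρ)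
  have hnotR : ∀ ρ ∈ R, ∀ b : Bool, z ≠ ρ * (if b then s else 1) := by
    intro ρ hρ b h
    have h1 : z * z = 1 := D.zz
    rw [h] at h1
    have hρ1 : ρ * ρ = 1 := by
      cases b
      · simpa using h1
      · simp only [if_true] at h1
        rwa [show ρ * s * (ρ * s) = ρ * (s * ρ) * s by group, ← D.Rs ρ hρ,
          show ρ * (ρ * s) * s = (ρ * ρ) * (s * s) by group, D.ss, mul_one] at h1
    rw [eq_one_of_odd_sq (D.odd_R hρ) hρ1, one_mul] at h
    cases b
    · exact D.z1 (by simpa using h)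
    · exact D.zne (by simpa using h)
  have hk : ∀ (ρ : G), ρ ∈ R → ∀ b : Bool, ρ * ((if b then s else 1) * z) ∈ K := fun ρ hρ b =>
    mul_mem (D.RK hρ) (mul_mem (by cases b <;> simp [D.sK]) D.zK)
  have hinj : Function.Injective f := by
    rintro ⟨⟨ρ, hρ⟩, a, b⟩ ⟨⟨ρ', hρ'⟩, a', b'⟩ h
    simp only [f] at h
    have haa : a = a' := by
      by_contra hne
      cases a <;> cases a' <;> first | exact hne rfl | simp only [Bool.false_eq_true, if_false, if_true, one_mul] at h
      · exact D.tK (by rw [eq_mul_inv_of_mul_eq h.symm]; exact mul_mem (hk ρ hρ b) (inv_mem (hk ρ' hρ' b')))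
      · exact D.tK (by rw [eq_mul_inv_of_mul_eq h]; exact mul_mem (hk ρ' hρ' b') (inv_mem (hk ρ hρ b)))
    subst haa
    have h' := mul_left_cancel h
    rw [← mul_assoc, ← mul_assoc] at h'
    have h'' := mul_right_cancel h'
    have hbb : b = b' := by
      by_contra hne
      cases b <;> cases b' <;> first | exact hne rfl | simp only [Bool.false_eq_true, if_false, if_true, mul_one] at h''
      · exact D.s1 (eq_one_of_odd_sq (D.odd_R (g := s) (by
          rw [show s = ρ'⁻¹ * ρ by rw [h'']; group]; exact mul_mem (inv_mem hρ') hρ)) D.ss)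
      · exact D.s1 (eq_one_of_odd_sq (D.odd_R (g := s) (by
          rw [show s = ρ⁻¹ * ρ' by rw [← h'']; group]; exact mul_mem (inv_mem hρ) hρ')) D.ss)
    subst hbb
    exact Prod.ext (Subtype.ext (mul_right_cancel h'')) rfl
  have hrange : S = Set.range f := by
    refine Set.Subset.antisymm ?_ ?_
    · rintro e ⟨het, hev, hee, he1, het', hev', hetv⟩
      obtain ⟨k, hkK, hek⟩ := D.split e het
      have hes : e * s = s * e := (hviff e het).1 hev
      have hks : k * s = s * k := by
        rcases hek with rfl | rfl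
        · exact hes
        · refine mul_left_cancel (a := t) ?_
          rw [← mul_assoc, hes, ← mul_assoc s, ← hts, mul_assoc]
      have hkk : k * k = 1 := by
        rcases hek with rfl | rfl
        · exact hee
        · rwa [show t * k * (t * k) = t * (k * t) * k by group, ← D.comm k hkK,
            show t * (t * k) * k = (t * t) * (k * k) by group, D.tt, one_mul] at hee
      have hex1 : e ≠ s ∧ e ≠ t * s := by
        rcases hv with rfl | rfl
        · exact ⟨hev', hetv⟩
        · exact ⟨by rwa [← mul_assoc, D.tt, one_mul] at hetv, hev'⟩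
      obtain ⟨ρ, hρ, h | h | h | h⟩ := D.Cs k hkK hks
      · exfalso
        rw [h] at hkk hek
        rw [eq_one_of_odd_sq (D.odd_R hρ) hkk, mul_one] at hek
        rcases hek with rfl | rfl
        exacts [he1 rfl, het' rfl]
      · exfalso
        rw [h, show ρ * s * (ρ * s) = ρ * (s * ρ) * s by group, ← D.Rs ρ hρ,
          show ρ * (ρ * s) * s = (ρ * ρ) * (s * s) by group, D.ss, mul_one] at hkk
        rw [h, eq_one_of_odd_sq (D.odd_R hρ) hkk, one_mul] at hek
        rcases hek with h' | h'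
        exacts [hex1.1 h', hex1.2 h']
      · rcases hek with rfl | rfl
        · exact ⟨(⟨ρ, hρ⟩, false, false), by simp [f, h]⟩
        · exact ⟨(⟨ρ, hρ⟩, true, false), by simp [f, h]⟩
      · rcases hek with rfl | rfl
        · exact ⟨(⟨ρ, hρ⟩, false, true), by simp [f, h]⟩
        · exact ⟨(⟨ρ, hρ⟩, true, true), by simp [f, h]⟩
    · rintro _ ⟨⟨⟨ρ, hρ⟩, a, b⟩, rfl⟩
      set b' : G := if b then s else 1 with hb'
      set a' : G := if a then t else 1 with ha'
      have hbs : Commute b' s := by cases b <;> simp [b']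
      have hbρ : ∀ ρ ∈ R, Commute b' ρ := fun ρ hρ => by
        cases b
        · simp [b']
        · exact (D.Rs ρ hρ).symm
      have hbz : Commute b' z := by
        cases b
        · simp [b']
        · exact D.zs.symm
      have hbb : b' * b' = 1 := by cases b <;> simp [b', D.ss]
      have hkK := hk ρ hρ b
      have hks : Commute (ρ * (b' * z)) s := (show Commute ρ s from D.Rs ρ hρ).mul_left (hbs.mul_left D.zs)
      have hkk : ρ * (b' * z) * (ρ * (b' * z)) = 1 := by
        calc ρ * (b' * z) * (ρ * (b' * z)) = ρ * (b' * (z * ρ)) * (b' * z) := by group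
          _ = ρ * (b' * ρ⁻¹) * z * (b' * z) := by rw [hzρ ρ hρ]; group
          _ = ρ * (ρ⁻¹ * b') * z * (z * b') := by rw [(hbρ _ (inv_mem hρ)).eq, hbz.eq]
          _ = b' * (z * z) * b' := by group
          _ = 1 := by rw [D.zz, mul_one, hbb]
      have hat : Commute a' t := by cases a <;> simp [a']
      have hak : ∀ k ∈ K, Commute a' k := fun k hk => by
        cases a
        · simp [a']
        · exact D.comm k hk
      have haa : a' * a' = 1 := by cases a <;> simp [a', D.tt]
      have het : Commute (a' * (ρ * (b' * z))) t := hat.mul_left (D.comm _ hkK).symm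
      have hesc : Commute (a' * (ρ * (b' * z))) s := (hak s D.sK).mul_left hks
      have hnK : ∀ w : G, (w = 1 ∨ w = s) → ρ * (b' * z) ≠ w := by
        intro w hw h'
        rcases hw with rfl | rfl
        · refine hnotR ρ⁻¹ (inv_mem hρ) b ?_
          calc z = b' * (b' * z) := by rw [← mul_assoc, hbb, one_mul]
            _ = b' * (ρ⁻¹ * (ρ * (b' * z))) := by group
            _ = ρ⁻¹ * b' := by rw [h', mul_one, (hbρ _ (inv_mem hρ)).eq]
        · refine hnotR ρ⁻¹ (inv_mem hρ) (!b) ?_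
          calc z = b' * (b' * z) := by rw [← mul_assoc, hbb, one_mul]
            _ = b' * (ρ⁻¹ * (ρ * (b' * z))) := by group
            _ = ρ⁻¹ * (b' * w) := by rw [h', ← mul_assoc, (hbρ _ (inv_mem hρ)).eq, mul_assoc]
            _ = ρ⁻¹ * (if !b then w else 1) := by cases b <;> simp [b', D.ss]
      have hne : ∀ w : G, (w = 1 ∨ w = t ∨ w = s ∨ w = t * s) → a' * (ρ * (b' * z)) ≠ w := by
        intro w hw h'
        cases a with
        | false =>
          simp only [a', Bool.false_eq_true, if_false, one_mul] at h'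
          rcases hw with rfl | rfl | rfl | rfl
          · exact hnK _ (Or.inl rfl) h'
          · exact D.tK (h' ▸ hkK)
          · exact hnK _ (Or.inr rfl) h'
          · refine D.tK ?_
            have := mul_mem (h' ▸ hkK) (inv_mem D.sK)
            rwa [mul_inv_cancel_right] at this
        | true =>
          simp only [a', if_true] at h'
          rcases hw with rfl | rfl | rfl | rfl
          · exact D.tK (by rw [eq_inv_of_mul_eq_one_left h']; exact inv_mem hkK)
          · exact hnK _ (Or.inl rfl) (mul_left_cancel (h'.trans (mul_one _).symm))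
          · refine D.tK ?_
            rw [eq_mul_inv_of_mul_eq h']
            exact mul_mem D.sK (inv_mem hkK)
          · exact hnK _ (Or.inr rfl) (mul_left_cancel h')
      refine ⟨het.eq, (hviff _ het.eq).2 hesc.eq, ?_, hne _ (Or.inl rfl), hne _ (Or.inr (Or.inl rfl)), ?_, ?_⟩
      · show a' * (ρ * (b' * z)) * (a' * (ρ * (b' * z))) = 1
        rw [(hak _ hkK).symm.mul_mul_mul_comm, haa, hkk, one_mul]
      · rcases hv with h | h <;> rw [h]
        exacts [hne _ (Or.inr (Or.inr (Or.inl rfl))), hne _ (Or.inr (Or.inr (Or.inr rfl)))]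
      · rcases hv with h | h <;> rw [h]
        · exact hne _ (Or.inr (Or.inr (Or.inr rfl)))
        · rw [← mul_assoc, D.tt, one_mul]; exact hne _ (Or.inr (Or.inr (Or.inl rfl)))
  -- the permutation
  have hinv : ∀ e ∈ S, x * e * x⁻¹ ∈ S := by
    rintro e ⟨het, hev, hee, he1, het', hev', hetv⟩
    set c : G →* G := (MulAut.conj x).toMonoidHom with hc
    have hci : Function.Injective c := (MulAut.conj x).injective
    show c e ∈ S
    have h1 : c e * v = v * c e := by rw [← (show c t = v from hxt), ← map_mul, ← map_mul, het]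
    have h2 : c e * t = t * c e := by
      rw [← (show c (t * v) = t from hxtv), ← map_mul, ← map_mul]
      exact congrArg c ((show Commute e t from het).mul_right hev).eq
    refine ⟨h2, h1, by rw [← map_mul, hee, map_one], fun h => he1 (hci (h.trans (map_one c).symm)),
      fun h => hetv (hci (h.trans hxtv.symm)), fun h => het' (hci (h.trans hxt.symm)),
      fun h => hev' (hci (h.trans hxv.symm))⟩
  haveI : Finite S := Subtype.finite
  haveI := Fintype.ofFinite S
  let σ : Equiv.Perm S := Equiv.ofBijective (fun e => (⟨x * e * x⁻¹, hinv e e.2⟩ : S))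
    (Finite.injective_iff_bijective.1 fun a b h => Subtype.ext ((MulAut.conj x).injective (congrArg Subtype.val h)))
  have hσ : σ ^ 3 ^ 1 = 1 := by
    refine Equiv.ext fun e => Subtype.ext ?_
    rw [pow_one, pow_succ, pow_two]
    show x * (x * (x * (e : G) * x⁻¹) * x⁻¹) * x⁻¹ = (e : G)
    rw [show x * (x * (x * (e : G) * x⁻¹) * x⁻¹) * x⁻¹ = x ^ 3 * e * (x ^ 3)⁻¹ by
      simp only [pow_succ, pow_zero, one_mul]; group, hx]
    group
  have hcard : ¬ 3 ∣ Fintype.card S := by
    rw [← Nat.card_eq_fintype_card, hrange, Nat.card_congr (Equiv.ofInjective f hinj).symm, Nat.card_prod,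
      Nat.card_prod, D.cardR, Nat.card_eq_fintype_card, Fintype.card_bool]
    intro h
    have := D.three_not_dvd_r
    omega
  obtain ⟨⟨e, het, hev, hee, he1, het', hev', hetv⟩, he⟩ := Equiv.Perm.exists_fixed_point_of_prime hcard hσ
  have hex : x * e * x⁻¹ = e := congrArg Subtype.val he
  -- the product over the cycle
  set b := x * h₀ * x⁻¹ with hb
  set c := x * b * x⁻¹ with hc
  have hxc : x * c * x⁻¹ = h₀ := by
    rw [hc, hb, show x * (x * (x * h₀ * x⁻¹) * x⁻¹) * x⁻¹ = x ^ 3 * h₀ * (x ^ 3)⁻¹ by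
      simp only [pow_succ, pow_zero, one_mul]; group, hx]
    group
  have hbc : Commute b c := by
    show b * c = c * b
    rw [hc, hb]
    calc x * h₀ * x⁻¹ * (x * (x * h₀ * x⁻¹) * x⁻¹) = x * (h₀ * (x * h₀ * x⁻¹)) * x⁻¹ := by group
      _ = x * (x * h₀ * x⁻¹ * h₀) * x⁻¹ := by rw [hcomm]
      _ = x * (x * h₀ * x⁻¹) * x⁻¹ * (x * h₀ * x⁻¹) := by group
  have hch : Commute c h₀ := by
    show c * h₀ = h₀ * c
    rw [← hxc]
    calc c * (x * c * x⁻¹) = (x * b * x⁻¹) * (x * c * x⁻¹) := by rw [← hc]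
      _ = x * (b * c) * x⁻¹ := by group
      _ = x * (c * b) * x⁻¹ := by rw [hbc.eq]
      _ = x * c * x⁻¹ * (x * b * x⁻¹) := by group
      _ = x * c * x⁻¹ * c := by rw [← hc]
  have hhb : Commute h₀ b := hcomm
  set y := h₀ * b * c with hy
  have hyx : y * x = x * y := by
    have h' : x * y * x⁻¹ = y := by
      rw [hy, show x * (h₀ * b * c) * x⁻¹ = (x * h₀ * x⁻¹) * (x * b * x⁻¹) * (x * c * x⁻¹) by group, hxc, ← hb,
        ← hc]
      calc b * c * h₀ = b * (h₀ * c) := by rw [mul_assoc, hch.eq]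
        _ = h₀ * b * c := by rw [← mul_assoc, hhb.eq]
    exact (mul_inv_eq_iff_eq_mul.1 h').symm
  have hym : orderOf y ∣ m := by
    have h0 : h₀ ^ m = 1 := orderOf_dvd_iff_pow_eq_one.1 (D.orderOf_H hh)
    refine orderOf_dvd_of_pow_eq_one ?_
    rw [hy, (hch.symm.mul_left hbc).mul_pow, hhb.mul_pow, h0]
    simp only [hc, hb, conj_pow, h0]
    group
  have hy1 := D.inverted_of_three hx hx1 hee he1 ((mul_inv_eq_iff_eq_mul.1 hex).symm) hyx (D.odd_m.of_dvd_nat hym)
    (fun h => D.three_not_dvd_m (h.trans hym))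
  -- the action of `t`
  have htinv : ∀ w : G, v * w * v⁻¹ = w⁻¹ → t * w * t⁻¹ = w → (t * v) * w * (t * v)⁻¹ = w⁻¹ := fun w h1 h2 => by
    rw [show t * v * w * (t * v)⁻¹ = t * (v * w * v⁻¹) * t⁻¹ by group, h1,
      show t * w⁻¹ * t⁻¹ = (t * w * t⁻¹)⁻¹ by group, h2]
  have hth : t * h₀ * t⁻¹ = h₀ := by rw [D.comm h₀ (D.HK hh), mul_inv_cancel_right]
  have htb : t * b * t⁻¹ = b⁻¹ := by
    rw [hb]
    conv_lhs => rw [← hxtv]
    rw [show x * (t * v) * x⁻¹ * (x * h₀ * x⁻¹) * (x * (t * v) * x⁻¹)⁻¹ =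
      x * (t * v * h₀ * (t * v)⁻¹) * x⁻¹ by group, htinv h₀ (hvH h₀ hh) hth]
    group
  have htc : t * c * t⁻¹ = c⁻¹ := by
    have hvb : v * h₀ * v⁻¹ = h₀⁻¹ := hvH h₀ hh
    have ht' : x * (x * v * x⁻¹) * x⁻¹ = t := by rw [hxv, hxtv]
    rw [hc, hb]
    conv_lhs => rw [← ht']
    rw [show x * (x * v * x⁻¹) * x⁻¹ * (x * (x * h₀ * x⁻¹) * x⁻¹) * (x * (x * v * x⁻¹) * x⁻¹)⁻¹ =
      x * (x * (v * h₀ * v⁻¹) * x⁻¹) * x⁻¹ by group, hvb]
    simp only [_root_.mul_inv_rev, inv_inv, mul_assoc]
  have hty : t * y * t⁻¹ = h₀ * b⁻¹ * c⁻¹ := by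
    rw [hy, show t * (h₀ * b * c) * t⁻¹ = (t * h₀ * t⁻¹) * (t * b * t⁻¹) * (t * c * t⁻¹) by group, hth, htb, htc]
  have hety : e * (t * y * t⁻¹) * e⁻¹ = (t * y * t⁻¹)⁻¹ := by
    rw [show e * (t * y * t⁻¹) * e⁻¹ = (e * t) * y * (e * t)⁻¹ by group, het,
      show t * e * y * (t * e)⁻¹ = t * (e * y * e⁻¹) * t⁻¹ by group, hy1]
    group
  have hprod : y * (t * y * t⁻¹) = h₀ * h₀ := by
    rw [hty, hy]
    calc h₀ * b * c * (h₀ * b⁻¹ * c⁻¹) = h₀ * b * (c * h₀) * b⁻¹ * c⁻¹ := by group
      _ = h₀ * b * (h₀ * c) * b⁻¹ * c⁻¹ := by rw [hch.eq]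
      _ = h₀ * (b * h₀) * (c * b⁻¹) * c⁻¹ := by group
      _ = h₀ * (h₀ * b) * (b⁻¹ * c) * c⁻¹ := by rw [← hhb.eq, (hbc.symm.inv_right).eq]
      _ = h₀ * h₀ := by group
  have hcy : Commute y (t * y * t⁻¹) := by
    rw [hty, hy]
    exact ((((Commute.refl h₀).mul_right hhb.inv_right).mul_right hch.symm.inv_right).mul_left
      ((hhb.symm.mul_right (Commute.refl b).inv_right).mul_right hbc.inv_right)).mul_left
      ((hch.mul_right hbc.symm.inv_right).mul_right (Commute.refl c).inv_right)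
  have heh : e * (h₀ * h₀) * e⁻¹ = (h₀ * h₀)⁻¹ := by
    rw [← hprod, show e * (y * (t * y * t⁻¹)) * e⁻¹ = (e * y * e⁻¹) * (e * (t * y * t⁻¹) * e⁻¹) by group, hy1, hety,
      ← _root_.mul_inv_rev, hcy.eq]
  have heh₀ : e * h₀ * e⁻¹ = h₀⁻¹ := by
    obtain ⟨i, hi⟩ := mem_zpowers_iff.1 (mem_zpowers_sq (D.odd_H hh))
    rw [← hi, ← conj_zpow, heh, _root_.inv_zpow]
  obtain ⟨k, hkK, hek⟩ := D.split e het
  have hkh : k * h₀ * k⁻¹ = h₀⁻¹ := by
    rcases hek with rfl | rfl
    · exact heh₀
    · rw [show t * k * h₀ * (t * k)⁻¹ = t * (k * h₀ * k⁻¹) * t⁻¹ by group,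
        D.comm _ (mul_mem (mul_mem hkK (D.HK hh)) (inv_mem hkK)), mul_inv_cancel_right] at heh₀
      exact heh₀
  haveI := D.Hcyc
  letI := IsCyclic.commGroup (α := H)
  rcases D.Hnorm h₀ hh hh1 k hkK (hkh ▸ inv_mem hh) with hkH | hkH
  · have : k * h₀ = h₀ * k := congrArg Subtype.val (mul_comm (⟨k, hkH⟩ : H) ⟨h₀, hh⟩)
    rw [this, mul_inv_cancel_right] at hkh
    exact hh1 (eq_one_of_odd_sq (D.odd_H hh) (by rw [← eq_inv_iff_mul_eq_one]; exact hkh))
  · have hes : e * s = s * e := (hviff e het).1 hev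
    have hks : k * s = s * k := by
      rcases hek with rfl | rfl
      · exact hes
      · refine mul_left_cancel (a := t) ?_
        rw [← mul_assoc, hes, ← mul_assoc s, ← hts, mul_assoc]
    have ha : k * s = 1 := by
      refine eq_one_of_odd_sq (D.odd_H hkH) ?_
      have h1 := D.sH _ hkH
      rw [show s * (k * s) * s⁻¹ = s * k by group, ← hks] at h1
      exact eq_inv_iff_mul_eq_one.1 h1
    have hk' : k = s := (eq_inv_of_mul_eq_one_left ha).trans (inv_eq_of_mul_eq_one_right D.ss)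
    subst hk'
    rcases hv with rfl | rfl <;> rcases hek with rfl | rfl
    exacts [hev' rfl, hetv rfl, hetv (by rw [← mul_assoc, D.tt, one_mul]), hev' rfl]

end Inverted

end Cfsg.Lib.ReeThree
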