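import Mathlib

/-!
The facts about `PSL₂(q)`, `q = 3^N ≡ 3 (mod 8)`, used in the analysis of groups of Ree type.
-/

set_option autoImplicit false

namespace Cfsg.Lib.ReeThree

open Subgroup

universe u

/-- The numerical conditions: `q = 3^N = 2m + 1`, `q + 1 = 4r`. -/
structure Nums (q m r : ℕ) : Prop where
  pow : ∃ n, q = 3 ^ (2 * n + 3)
  qm : q = 2 * m + 1
  qr : q + 1 = 4 * r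

/-- `P` looks like `PSL₂(q)`. -/
structure KFacts (P : Type u) [Group P] (q m r : ℕ) (U H R : Subgroup P) (s z : P) : Prop where
  nums : Nums q m r
  card : Nat.card P = 4 * r * m * q
  cardU : Nat.card U = q
  Ucube : ∀ u ∈ U, u ^ 3 = 1
  Ucomm : ∀ u ∈ U, ∀ v ∈ U, u * v = v * u
  Ucent : ∀ u ∈ U, u ≠ 1 → ∀ c, c * u = u * c → c ∈ U
  Unorm : ∀ u ∈ U, u ≠ 1 → ∀ c, c * u * c⁻¹ ∈ U → ∃ v ∈ U, ∃ h ∈ H, c = v * h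
  HU : ∀ h ∈ H, ∀ u ∈ U, h * u * h⁻¹ ∈ U
  notreal : ∀ u ∈ U, u ≠ 1 → ∀ c, c * u * c⁻¹ ≠ u⁻¹
  cardH : Nat.card H = m
  Hcyc : IsCyclic H
  Hcent : ∀ h ∈ H, h ≠ 1 → ∀ c, c * h = h * c → c ∈ H
  Hnorm : ∀ h ∈ H, h ≠ 1 → ∀ c, c * h * c⁻¹ ∈ H → c ∈ H ∨ c * s ∈ H
  ss : s * s = 1
  s1 : s ≠ 1
  sH : ∀ h ∈ H, s * h * s⁻¹ = h⁻¹
  zz : z * z = 1
  z1 : z ≠ 1
  zs : z * s = s * z
  zne : z ≠ s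
  cardR : Nat.card R = r
  Rcyc : IsCyclic R
  Rs : ∀ ρ ∈ R, ρ * s = s * ρ
  zR : ∀ ρ ∈ R, z * ρ * z⁻¹ = ρ⁻¹
  Cs : ∀ c, c * s = s * c → ∃ ρ ∈ R, c = ρ ∨ c = ρ * s ∨ c = ρ * z ∨ c = ρ * (s * z)
  Rcent : ∀ ρ ∈ R, ρ ≠ 1 → ∀ c, c * ρ = ρ * c → ∃ ρ' ∈ R, c = ρ' ∨ c = ρ' * s
  invol : ∀ i : P, i * i = 1 → i ≠ 1 → IsConj s i
  types : ∀ g : P, Odd (orderOf g) → ∃ a : P, a * g * a⁻¹ ∈ U ∨ a * g * a⁻¹ ∈ H ∨ a * g * a⁻¹ ∈ R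

end Cfsg.Lib.ReeThree
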