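import Cfsg.Agent.SThreeFree.Families
import Cfsg.Agent.Known.SLTwo.Torus
import Cfsg.Agent.Known.SLTwo.Tori
import Cfsg.Agent.Classical.PSLTwoDihedral
import Cfsg.Agent.Components.FrakL.Small

/-!
`SL₂(F)` with `-1` a non-square: explicit elements and their centralisers modulo sign.
-/

set_option autoImplicit false
set_option linter.style.haveILetI false
set_option linter.unusedSectionVars false

namespace Cfsg.Lib.ReeThree

open Matrix Cfsg.Lib.SThreeFree

variable {F : Type*} [Field F]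

local notation "SL2" => Matrix.SpecialLinearGroup (Fin 2) F
local notation "PSL2" => Matrix.ProjectiveSpecialLinearGroup (Fin 2) F

/-- The Weyl element. -/
abbrev wey₂ : SL2 := Cfsg.Lib.FrakL.wey

/-- The rotation torus. -/
abbrev rot : Subgroup SL2 := Cfsg.Lib.PSLTwoDihedral.torus (-1 : F)

/-- The image in `PSL₂`. -/
abbrev pr : SL2 →* PSL2 := QuotientGroup.mk' _

theorem pr_eq {X Y : SL2} : pr X = pr Y ↔ X = Y ∨ X = -Y := psl_eq_iff X Y

theorem pr_neg (X : SL2) : pr (-X) = pr X := pr_eq.2 (Or.inr rfl)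

/-- Commuting up to sign in coordinates. -/
theorem comm_entries {X Y Z : SL2} (h : pr X * pr Y = pr Z * pr X) :
    ∃ ε : F, (ε = 1 ∨ ε = -1) ∧
      (X.1 0 0 * Y.1 0 0 + X.1 0 1 * Y.1 1 0 = ε * (Z.1 0 0 * X.1 0 0 + Z.1 0 1 * X.1 1 0)) ∧
      (X.1 0 0 * Y.1 0 1 + X.1 0 1 * Y.1 1 1 = ε * (Z.1 0 0 * X.1 0 1 + Z.1 0 1 * X.1 1 1)) ∧
      (X.1 1 0 * Y.1 0 0 + X.1 1 1 * Y.1 1 0 = ε * (Z.1 1 0 * X.1 0 0 + Z.1 1 1 * X.1 1 0)) ∧
      (X.1 1 0 * Y.1 0 1 + X.1 1 1 * Y.1 1 1 = ε * (Z.1 1 0 * X.1 0 1 + Z.1 1 1 * X.1 1 1)) := by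
  rw [← map_mul, ← map_mul, pr_eq] at h
  rcases h with h | h
  · refine ⟨1, Or.inl rfl, ?_, ?_, ?_, ?_⟩
    all_goals
      first
        | (have := congrArg (fun M : SL2 => M.1 0 0) h
           simp [Matrix.SpecialLinearGroup.coe_mul, Matrix.mul_apply, Fin.sum_univ_two] at this ⊢
           exact this)
        | (have := congrArg (fun M : SL2 => M.1 0 1) h
           simp [Matrix.SpecialLinearGroup.coe_mul, Matrix.mul_apply, Fin.sum_univ_two] at this ⊢
           exact this)
        | (have := congrArg (fun M : SL2 => M.1 1 0) h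
           simp [Matrix.SpecialLinearGroup.coe_mul, Matrix.mul_apply, Fin.sum_univ_two] at this ⊢
           exact this)
        | (have := congrArg (fun M : SL2 => M.1 1 1) h
           simp [Matrix.SpecialLinearGroup.coe_mul, Matrix.mul_apply, Fin.sum_univ_two] at this ⊢
           exact this)
  · refine ⟨-1, Or.inr rfl, ?_, ?_, ?_, ?_⟩
    all_goals
      first
        | (have := congrArg (fun M : SL2 => M.1 0 0) h
           simp [Matrix.SpecialLinearGroup.coe_mul, Matrix.mul_apply, Fin.sum_univ_two] at this ⊢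
           linear_combination this)
        | (have := congrArg (fun M : SL2 => M.1 0 1) h
           simp [Matrix.SpecialLinearGroup.coe_mul, Matrix.mul_apply, Fin.sum_univ_two] at this ⊢
           linear_combination this)
        | (have := congrArg (fun M : SL2 => M.1 1 0) h
           simp [Matrix.SpecialLinearGroup.coe_mul, Matrix.mul_apply, Fin.sum_univ_two] at this ⊢
           linear_combination this)
        | (have := congrArg (fun M : SL2 => M.1 1 1) h
           simp [Matrix.SpecialLinearGroup.coe_mul, Matrix.mul_apply, Fin.sum_univ_two] at this ⊢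
           linear_combination this)

theorem sl_det (X : SL2) : X.1 0 0 * X.1 1 1 - X.1 0 1 * X.1 1 0 = 1 := by
  rw [← Matrix.det_fin_two]; exact X.2

variable (hns : ¬ IsSquare (-1 : F))
include hns

theorem two_ne : (2 : F) ≠ 0 := by
  intro h
  exact hns ⟨1, by linear_combination -h⟩

theorem four_ne : (4 : F) ≠ 0 := by
  rw [show (4 : F) = 2 * 2 by norm_num]
  exact mul_ne_zero (two_ne hns) (two_ne hns)

theorem sq_sum_ne {a b : F} (h : a * a + b * b = 0) : a = 0 ∧ b = 0 := by
  by_cases hb : b = 0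
  · subst hb
    exact ⟨mul_self_eq_zero.1 (by linear_combination h), rfl⟩
  · exact absurd ⟨a / b, by field_simp; linear_combination -h⟩ hns

omit hns in
theorem up_coe (x : F) : (Cfsg.Lib.FrakL.up x).1 = !![1, x; 0, 1] := rfl

/-- What conjugates one root element into another is triangular. -/
theorem triangular_of_up {X : SL2} {x y : F} (hx : x ≠ 0)
    (h : pr X * pr (Cfsg.Lib.FrakL.up x) = pr (Cfsg.Lib.FrakL.up y) * pr X) :
    X.1 1 0 = 0 ∧ x * (X.1 0 0 * X.1 0 0) = y := by
  obtain ⟨ε, hε, e00, e01, e10, e11⟩ := comm_entries h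
  simp only [up_coe, Matrix.cons_val', Matrix.cons_val_zero, Matrix.cons_val_one, Matrix.cons_val_fin_one,
    Matrix.of_apply] at e00 e01 e10 e11
  have hd := sl_det X
  rcases hε with rfl | rfl
  · have hc : X.1 1 0 = 0 :=
      (mul_eq_zero.1 (show X.1 1 0 * x = 0 by linear_combination e11)).resolve_right hx
    refine ⟨hc, ?_⟩
    rw [hc] at hd
    linear_combination X.1 0 0 * e01 + y * hd
  · exfalso
    have hc : X.1 1 0 = 0 :=
      (mul_eq_zero.1 (show (2 : F) * X.1 1 0 = 0 by linear_combination e10)).resolve_left (two_ne hns)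
    rw [hc] at hd e00
    have ha : X.1 0 0 = 0 :=
      (mul_eq_zero.1 (show (2 : F) * X.1 0 0 = 0 by linear_combination e00)).resolve_left (two_ne hns)
    rw [ha] at hd
    simp at hd

/-- The centraliser of a root element. -/
theorem exists_up_of_comm {X : SL2} {x : F} (hx : x ≠ 0)
    (h : pr X * pr (Cfsg.Lib.FrakL.up x) = pr (Cfsg.Lib.FrakL.up x) * pr X) :
    ∃ y : F, pr X = pr (Cfsg.Lib.FrakL.up y) := by
  obtain ⟨hc, hy⟩ := triangular_of_up hns hx h
  have ha : X.1 0 0 * X.1 0 0 = 1 := mul_left_cancel₀ hx (by rw [hy, mul_one])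
  have hd := sl_det X
  rw [hc] at hd
  rcases mul_self_eq_one_iff.1 ha with ha | ha <;> rw [ha] at hd
  · refine ⟨X.1 0 1, congrArg pr (Subtype.ext (Matrix.ext fun i j => ?_))⟩
    have hd' : X.1 1 1 = 1 := by linear_combination hd
    fin_cases i <;> fin_cases j <;> simp [up_coe, ha, hc, hd']
  · refine ⟨-X.1 0 1, ?_⟩
    rw [← pr_neg (Cfsg.Lib.FrakL.up _)]
    refine congrArg pr (Subtype.ext (Matrix.ext fun i j => ?_))
    have hd' : X.1 1 1 = -1 := by linear_combination -hd
    fin_cases i <;> fin_cases j <;> simp [up_coe, ha, hc, hd']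

/-- No root element is conjugate to its inverse. -/
theorem up_not_real {X : SL2} {x : F} (hx : x ≠ 0)
    (h : pr X * pr (Cfsg.Lib.FrakL.up x) = pr (Cfsg.Lib.FrakL.up (-x)) * pr X) : False := by
  obtain ⟨-, hy⟩ := triangular_of_up hns hx h
  exact hns ⟨X.1 0 0, mul_left_cancel₀ hx (by rw [hy]; ring)⟩

omit hns in
theorem torus_coe (a : Fˣ) :
    (Cfsg.Lib.GLTwo.torus a : SL2).1 = !![(a : F), 0; 0, ((a⁻¹ : Fˣ) : F)] := rfl

/-- What conjugates one diagonal element into another is monomial. -/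
theorem monomial_of_torus {X : SL2} {a c : Fˣ} (ha : (a : F) * a ≠ 1)
    (h : pr X * pr (Cfsg.Lib.GLTwo.torus a) = pr (Cfsg.Lib.GLTwo.torus c) * pr X) :
    (X.1 0 1 = 0 ∧ X.1 1 0 = 0) ∨ (X.1 0 0 = 0 ∧ X.1 1 1 = 0) := by
  obtain ⟨ε, hε, e00, e01, e10, e11⟩ := comm_entries h
  simp only [torus_coe, Matrix.cons_val', Matrix.cons_val_zero, Matrix.cons_val_one, Matrix.cons_val_fin_one,
    Matrix.of_apply] at e00 e01 e10 e11
  have ha' := a.mul_inv
  by_contra hcon
  simp only [not_or, not_and_or] at hcon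
  obtain ⟨hbc, had⟩ := hcon
  -- a nonzero entry in each pair forces `a = a⁻¹`
  have key : ((a : F) - ((a⁻¹ : Fˣ) : F)) = 0 := by
    rcases had with h0 | h1 <;> rcases hbc with hb | hc
    · have p1 : (a : F) = ε * (c : F) := mul_left_cancel₀ h0 (by linear_combination e00)
      have p2 : ((a⁻¹ : Fˣ) : F) = ε * (c : F) := mul_left_cancel₀ hb (by linear_combination e01)
      rw [p1, p2, sub_self]
    · have p1 : (a : F) = ε * (c : F) := mul_left_cancel₀ h0 (by linear_combination e00)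
      have p2 : (a : F) = ε * ((c⁻¹ : Fˣ) : F) := mul_left_cancel₀ hc (by linear_combination e10)
      have h2 : (a : F) * a = ε * ε := by
        calc (a : F) * a = (ε * c) * (ε * ((c⁻¹ : Fˣ) : F)) := by rw [← p1, ← p2]
          _ = ε * ε * ((c : F) * ((c⁻¹ : Fˣ) : F)) := by ring
          _ = ε * ε := by rw [c.mul_inv, mul_one]
      exact absurd (by rw [h2]; rcases hε with rfl | rfl <;> ring) ha
    · have p1 : ((a⁻¹ : Fˣ) : F) = ε * ((c⁻¹ : Fˣ) : F) := mul_left_cancel₀ h1 (by linear_combination e11)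
      have p2 : ((a⁻¹ : Fˣ) : F) = ε * (c : F) := mul_left_cancel₀ hb (by linear_combination e01)
      have h2 : ((a⁻¹ : Fˣ) : F) * ((a⁻¹ : Fˣ) : F) = ε * ε := by
        calc ((a⁻¹ : Fˣ) : F) * ((a⁻¹ : Fˣ) : F) = (ε * ((c⁻¹ : Fˣ) : F)) * (ε * c) := by rw [← p1, ← p2]
          _ = ε * ε * ((c : F) * ((c⁻¹ : Fˣ) : F)) := by ring
          _ = ε * ε := by rw [c.mul_inv, mul_one]
      refine absurd ?_ ha
      have h3 : ε * ε = 1 := by rcases hε with rfl | rfl <;> ring
      rw [h3] at h2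
      calc (a : F) * a = ((a : F) * a) * (((a⁻¹ : Fˣ) : F) * ((a⁻¹ : Fˣ) : F)) := by rw [h2, mul_one]
        _ = ((a : F) * ((a⁻¹ : Fˣ) : F)) * ((a : F) * ((a⁻¹ : Fˣ) : F)) := by ring
        _ = 1 := by rw [a.mul_inv, one_mul]
    · have p1 : ((a⁻¹ : Fˣ) : F) = ε * ((c⁻¹ : Fˣ) : F) := mul_left_cancel₀ h1 (by linear_combination e11)
      have p2 : (a : F) = ε * ((c⁻¹ : Fˣ) : F) := mul_left_cancel₀ hc (by linear_combination e10)
      rw [p1, ← p2, sub_self]
  exact ha (by linear_combination (a : F) * key + ha')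

/-- An element commuting up to sign with a rotation other than `±1`, `±w`. -/
theorem rot_of_comm {X M : SL2} (hM : M ∈ rot) (hb : M.1 1 0 ≠ 0) (ha : M.1 0 0 ≠ 0)
    (h : pr X * pr M = pr M * pr X) : X ∈ rot := by
  obtain ⟨ε, hε, e00, e01, e10, e11⟩ := comm_entries h
  rw [hM.1, hM.2] at *
  rcases hε with rfl | rfl
  · refine ⟨?_, ?_⟩
    · exact mul_left_cancel₀ hb (by linear_combination e10)
    · exact mul_left_cancel₀ hb (by linear_combination e00)
  · have h2a : (2 : F) * M.1 0 0 ≠ 0 := mul_ne_zero (two_ne hns) ha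
    refine ⟨?_, ?_⟩
    · exact (mul_left_cancel₀ h2a (show (2 : F) * M.1 0 0 * X.1 0 0 = 2 * M.1 0 0 * X.1 1 1 by
        linear_combination e00 - e11)).symm
    · exact mul_left_cancel₀ h2a (show (2 : F) * M.1 0 0 * X.1 0 1 = 2 * M.1 0 0 * (-1 * X.1 1 0) by
        linear_combination e01 + e10)

/-- The centraliser of the Weyl element, up to sign. -/
theorem wey_comm {X : SL2} (h : pr X * pr wey₂ = pr wey₂ * pr X) :
    X ∈ rot ∨ (X.1 1 1 = -X.1 0 0 ∧ X.1 0 1 = X.1 1 0) := by
  obtain ⟨ε, hε, e00, e01, e10, e11⟩ := comm_entries h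
  simp only [Cfsg.Lib.FrakL.coe_wey, Matrix.cons_val', Matrix.cons_val_zero, Matrix.cons_val_one,
    Matrix.cons_val_fin_one, Matrix.of_apply] at e00 e01 e10 e11
  rcases hε with rfl | rfl
  · exact Or.inl ⟨by linear_combination -e01, by linear_combination -e00⟩
  · exact Or.inr ⟨by linear_combination e01, by linear_combination -e00⟩

omit hns in
theorem wey_mem_rot : wey₂ (F := F) ∈ rot := by
  constructor <;> simp [Cfsg.Lib.FrakL.coe_wey]

end Cfsg.Lib.ReeThree
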