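import Cfsg.Agent.ReeInvolveThree.Matrices
import Cfsg.Agent.ReeInvolveThree.KFacts

/-!
`PSL₂(3^(2n+3))` has the properties `KFacts`.
-/

set_option autoImplicit false
set_option linter.style.haveILetI false
set_option linter.unusedSectionVars false

namespace Cfsg.Lib.ReeThree

open Matrix Subgroup Cfsg.Lib.GLTwo Cfsg.Lib.FrakL

variable {F : Type*} [Field F] [Fintype F]

local notation "SL2" => Matrix.SpecialLinearGroup (Fin 2) F
local notation "PSL2" => Matrix.ProjectiveSpecialLinearGroup (Fin 2) F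

theorem nums_of_pow (n : ℕ) : ∃ m r, Nums (3 ^ (2 * n + 3)) m r := by
  have h : 3 ^ (2 * n + 3) % 4 = 3 := by
    rw [show 2 * n + 3 = 2 * (n + 1) + 1 by ring, pow_succ, pow_mul, Nat.mul_mod, Nat.pow_mod]
    norm_num
  exact ⟨3 ^ (2 * n + 3) / 2, (3 ^ (2 * n + 3) + 1) / 4, ⟨n, rfl⟩, by omega, by omega⟩

theorem Nums.mod_eight {q m r : ℕ} (h : Nums q m r) : q % 8 = 3 := by
  obtain ⟨n, rfl⟩ := h.pow
  rw [show 2 * n + 3 = 2 * (n + 1) + 1 by ring, pow_succ, pow_mul, Nat.mul_mod, Nat.pow_mod]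
  norm_num

theorem Nums.facts {q m r : ℕ} (h : Nums q m r) :
    Odd m ∧ Odd r ∧ ¬ 3 ∣ m ∧ ¬ 3 ∣ r ∧ 27 ≤ q ∧ 13 ≤ m ∧ 3 ∣ q ∧ m.Coprime r := by
  have h8 := h.mod_eight
  obtain ⟨n, hn⟩ := h.pow
  have h27 : 27 ≤ q := by
    rw [hn]
    calc 27 = 3 ^ 3 := by norm_num
      _ ≤ _ := Nat.pow_le_pow_right (by norm_num) (by omega)
  have h3 : 3 ∣ q := hn ▸ dvd_pow_self 3 (by omega)
  have := h.qm
  have := h.qr
  refine ⟨Nat.odd_iff.2 (by omega), Nat.odd_iff.2 (by omega), fun hd => ?_, fun hd => ?_, h27, by omega, h3,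
    ?_⟩
  · omega
  · omega
  · refine Nat.coprime_of_dvd fun k hk hkm hkr => ?_
    have h1 : k ∣ q + 1 := h.qr ▸ Dvd.dvd.mul_left hkr 4
    have h2 : k ∣ 2 * m := Dvd.dvd.mul_left hkm 2
    have h3' : k ∣ 2 := by
      have := Nat.dvd_sub h1 h2
      rwa [show q + 1 - 2 * m = 2 by omega] at this
    obtain rfl := (Nat.prime_dvd_prime_iff_eq hk Nat.prime_two).1 h3'
    omega

theorem exists_kfacts {n : ℕ} (hF : Fintype.card F = 3 ^ (2 * n + 3)) :
    ∃ (m r : ℕ) (U H R : Subgroup PSL2) (s z : PSL2), KFacts PSL2 (Fintype.card F) m r U H R s z := by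
  classical
  haveI : Fact (Nat.Prime 3) := ⟨Nat.prime_three⟩
  haveI : CharP F 3 := charP_of_card_eq_prime_pow hF
  obtain ⟨m, r, hN⟩ := nums_of_pow n
  rw [← hF] at hN
  obtain ⟨hm, hr, hm3, hr3, h27, hm13, h3q, hmr⟩ := hN.facts
  have hq8 := hN.mod_eight
  have hqm := hN.qm
  have hqr := hN.qr
  have hns : ¬ IsSquare (-1 : F) := by rw [FiniteField.isSquare_neg_one_iff]; omega
  have hodd : Fintype.card F % 2 = 1 := by omega
  have h2 := two_ne hns
  have hpre : ∀ X : PSL2, ∃ Y : SL2, pr Y = X := QuotientGroup.mk'_surjective _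
  have hone : ∀ Y : SL2, pr Y = 1 ↔ Y = 1 ∨ Y = -1 := fun Y => by rw [← map_one pr, pr_eq]
  have hcard : Nat.card PSL2 = 4 * r * m * Fintype.card F := by
    have h := Cfsg.Lib.Classical.SmallPSL.card_psl (F := F) rfl
    rw [Nat.gcd_eq_left (show 2 ∣ Fintype.card F - 1 by omega)] at h
    have hsq : Fintype.card F ^ 2 - 1 = 4 * r * (2 * m) := by
      rw [← hqr, show Fintype.card F ^ 2 - 1 = (Fintype.card F + 1) * (Fintype.card F - 1) by
        rw [← Nat.sq_sub_sq, one_pow], hqm, Nat.add_sub_cancel]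
    rw [hsq] at h
    exact Nat.eq_of_mul_eq_mul_left two_pos (h.trans (by ring))
  -- the root subgroup
  set U : Subgroup PSL2 := (upSub (F := F)).map pr with hU
  have hUmem : ∀ u ∈ U, ∃ x : F, u = pr (up x) := by
    rintro _ ⟨_, ⟨x, rfl⟩, rfl⟩; exact ⟨x, rfl⟩
  have hmemU : ∀ x : F, pr (up x) ∈ U := fun x => mem_map_of_mem _ ⟨x, rfl⟩
  have hx0 : ∀ x : F, pr (up x) ≠ 1 → x ≠ 0 := fun x h e => h (by rw [e, up_zero, map_one])
  have h3F : (3 : F) = 0 := by exact_mod_cast CharP.cast_eq_zero F 3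
  have hcardU : Nat.card U = Fintype.card F := by
    rw [← card_upSub (F := F)]
    refine (Nat.card_eq_of_bijective (pr.subgroupMap upSub) ⟨?_, MonoidHom.subgroupMap_surjective _ _⟩).symm
    refine (injective_iff_map_eq_one _).2 fun g hg => Subtype.ext ?_
    obtain ⟨x, hx⟩ := g.2
    rcases (hone _).1 (congrArg Subtype.val hg) with h | h
    · exact h
    · exfalso
      have := congrArg (fun M : SL2 => M.1 0 0) h
      simp [hx, Matrix.SpecialLinearGroup.coe_neg] at this
      exact h2 (by linear_combination this)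
  -- the split torus
  set H : Subgroup PSL2 := ((pr (F := F)).comp (GLTwo.torus (F := F))).range with hH
  have hHdiag : ∀ X : SL2, X.1 0 1 = 0 → X.1 1 0 = 0 → pr X ∈ H := by
    intro X hb hc
    have hd := sl_det X
    rw [hb, hc, mul_zero, sub_zero] at hd
    refine ⟨⟨X.1 0 0, X.1 1 1, hd, by rw [mul_comm]; exact hd⟩, congrArg pr (Subtype.ext ?_)⟩
    ext i j
    fin_cases i <;> fin_cases j <;> simp [torus_coe, hb, hc]
  have hHne : ∀ a : Fˣ, pr (GLTwo.torus a) ≠ 1 → (a : F) * a ≠ 1 := by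
    intro a ha hsq
    refine ha ((hone _).2 ?_)
    rcases mul_self_eq_one_iff.1 hsq with h | h
    · left; rw [show a = 1 from Units.ext h, map_one]
    · right
      refine Subtype.ext ?_
      have hi : ((a⁻¹ : Fˣ) : F) = -1 := by
        have := a.mul_inv
        rw [h] at this
        linear_combination -this
      rw [torus_coe, h, hi]
      ext i j
      fin_cases i <;> fin_cases j <;> simp
  have hcardH : Nat.card H = m := by
    obtain ⟨ζ, hζ⟩ := IsCyclic.exists_generator (α := Fˣ)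
    have e : H = zpowers (pr (GLTwo.torus ζ)) := by
      rw [hH, MonoidHom.range_eq_map, ← (Subgroup.eq_top_iff' _).2 hζ, MonoidHom.map_zpowers]
      rfl
    have ho : orderOf (GLTwo.torus ζ : SL2) = Fintype.card F - 1 := by
      rw [orderOf_injective _ GLTwo.torus_injective, orderOf_eq_card_of_forall_mem_zpowers hζ, Nat.card_units,
        Nat.card_eq_fintype_card]
    rw [e, Nat.card_zpowers]
    refine (GLTwo.orderOf_prj (GLTwo.torus ζ)).trans ?_
    rw [orderOf_pow, ho, Nat.gcd_eq_left (show 2 ∣ Fintype.card F - 1 by omega),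
      Nat.gcd_eq_right (show 2 ∣ Fintype.card F - 1 by omega)]
    omega
  have hHcyc : IsCyclic H := isCyclic_of_surjective _ (MonoidHom.rangeRestrict_surjective _)
  -- the Weyl element and a reflection
  set s : PSL2 := pr wey₂ with hs
  have hww : wey₂ * wey₂ = (-1 : SL2) := by
    refine Subtype.ext (Matrix.ext fun i j => ?_)
    fin_cases i <;> fin_cases j <;> simp [Matrix.SpecialLinearGroup.coe_mul]
  have hss : s * s = 1 := by rw [hs, ← map_mul, hone]; exact Or.inr hww
  have hs1 : s ≠ 1 := by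
    rw [hs, Ne, hone]
    rintro (h | h) <;>
      · have := congrArg (fun M : SL2 => M.1 0 1) h
        simp at this
  obtain ⟨a₀, b₀, hab₀⟩ := two_squares (-1 : F)
  have hZdet : (!![a₀, b₀; b₀, -a₀] : Matrix (Fin 2) (Fin 2) F).det = 1 := by
    rw [Matrix.det_fin_two_of]; linear_combination -hab₀
  obtain ⟨Z, hZ⟩ : ∃ Z : SL2, Z.1 = !![a₀, b₀; b₀, -a₀] := ⟨⟨_, hZdet⟩, rfl⟩
  set z : PSL2 := pr Z with hz
  have hzz : z * z = 1 := by
    rw [hz, ← map_mul, hone]
    refine Or.inr (Subtype.ext (Matrix.ext fun i j => ?_))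
    fin_cases i <;> fin_cases j <;> simp [Matrix.SpecialLinearGroup.coe_mul, hZ]
    · linear_combination hab₀
    · ring
    · ring
    · linear_combination hab₀
  have hzs : z * s = s * z := by
    rw [hz, hs, ← map_mul, ← map_mul, pr_eq]
    refine Or.inr (Subtype.ext (Matrix.ext fun i j => ?_))
    fin_cases i <;> fin_cases j <;> simp [Matrix.SpecialLinearGroup.coe_mul, hZ]
  have hz1 : z ≠ 1 := by
    rw [hz, Ne, hone]
    rintro (h | h) <;>
      · have e00 := congrArg (fun M : SL2 => M.1 0 0) h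
        have e11 := congrArg (fun M : SL2 => M.1 1 1) h
        simp [hZ] at e00 e11
        refine h2 ?_
        first
          | linear_combination -e00 - e11
          | linear_combination e00 + e11
          | linear_combination e11 - e00
          | linear_combination e00 - e11
  have hzne : z ≠ s := by
    rw [hz, hs, Ne, pr_eq]
    rintro (h | h) <;>
      · have e00 := congrArg (fun M : SL2 => M.1 0 1) h
        have e11 := congrArg (fun M : SL2 => M.1 1 0) h
        simp [hZ] at e00 e11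
        refine h2 ?_
        first
          | linear_combination e00 - e11
          | linear_combination e11 - e00
  -- the non-split torus
  set T : Subgroup PSL2 := (rot (F := F)).map pr with hT
  haveI hrotc : IsCyclic (rot (F := F)) :=
    Cfsg.Lib.PSLTwoDihedral.torus_cyclic hodd (neg_ne_zero.2 one_ne_zero)
  haveI hTc : IsCyclic T := isCyclic_of_surjective _ (MonoidHom.subgroupMap_surjective pr rot)
  have hcardT : Nat.card T = 2 * r := by
    have h := Subgroup.card_mul_index (((pr (F := F)).subgroupMap rot).ker)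
    rw [Subgroup.index_ker, MonoidHom.range_eq_top.2 (MonoidHom.subgroupMap_surjective _ _), Subgroup.card_top,
      Cfsg.Lib.PSLTwoDihedral.card_torus_nonsquare hodd hns] at h
    have hker : Nat.card ((pr (F := F)).subgroupMap rot).ker = 2 := by
      have hm1 : (-1 : SL2) ∈ rot (F := F) := by
        constructor <;> simp [Matrix.SpecialLinearGroup.coe_neg]
      have hne : (⟨-1, hm1⟩ : rot (F := F)) ≠ 1 := fun h => by
        have := congrArg (fun M : rot (F := F) => (M : SL2).1 0 0) h
        simp [Matrix.SpecialLinearGroup.coe_neg] at this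
        exact h2 (by linear_combination -this)
      have : (((pr (F := F)).subgroupMap rot).ker : Set (rot (F := F))) = {1, ⟨-1, hm1⟩} := by
        ext g
        rw [SetLike.mem_coe, MonoidHom.mem_ker, Set.mem_insert_iff, Set.mem_singleton_iff, ← Subtype.coe_inj]
        refine (hone (g : SL2)).trans ?_
        simp only [Subtype.ext_iff, OneMemClass.coe_one]
      rw [SetLike.coe_sort_coe .. |>.symm, Nat.card_coe_set_eq, this, Set.ncard_pair hne.symm]
    rw [hker] at h
    rw [hT]
    omega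
  obtain ⟨γ, hγ⟩ := IsCyclic.exists_generator (α := T)
  have hγo : orderOf γ = 2 * r := by rw [orderOf_eq_card_of_forall_mem_zpowers hγ, hcardT]
  set R : Subgroup PSL2 := zpowers ((γ : PSL2) ^ 2) with hR
  have hRT : R ≤ T := zpowers_le.2 (pow_mem γ.2 2)
  have hcardR : Nat.card R = r := by
    rw [hR, Nat.card_zpowers, orderOf_pow, Subgroup.orderOf_coe, hγo, Nat.gcd_mul_right_left]
    omega
  have hsT : s ∈ T := mem_map_of_mem _ wey_mem_rot
  have hRodd : ∀ ρ ∈ R, Odd (orderOf ρ) := fun ρ hρ =>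
    hr.of_dvd_nat (hcardR ▸ Subgroup.orderOf_mk ρ hρ ▸ orderOf_dvd_natCard _)
  have hsR : s ∉ R := fun h => by
    have := hRodd s h
    rw [orderOf_eq_prime (p := 2) (by rw [pow_two, hss]) hs1] at this
    exact absurd this (by decide)
  have hTcase : ∀ x ∈ T, ∃ ρ ∈ R, x = ρ ∨ x = ρ * s := by
    intro x hx
    obtain ⟨k, hk⟩ := mem_zpowers_iff.1 (hγ ⟨x, hx⟩)
    obtain ⟨l, hl⟩ := mem_zpowers_iff.1 (hγ ⟨s, hsT⟩)
    have hk' : (γ : PSL2) ^ k = x := congrArg Subtype.val hk
    have hl' : (γ : PSL2) ^ l = s := congrArg Subtype.val hl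
    have hlodd : Odd l := by
      rw [← Int.not_even_iff_odd]
      rintro ⟨j, hj⟩
      exact hsR (hl' ▸ mem_zpowers_iff.2 ⟨j, by rw [← zpow_natCast, ← _root_.zpow_mul]; congr 1; push_cast; omega⟩)
    rcases Int.even_or_odd k with ⟨j, hj⟩ | hkodd
    · exact ⟨_, mem_zpowers_iff.2 ⟨j, rfl⟩, Or.inl (by
        rw [← hk', ← zpow_natCast, ← _root_.zpow_mul]; congr 1; push_cast; omega)⟩
    · obtain ⟨j, hj⟩ := hkodd.sub_odd hlodd
      refine ⟨_, mem_zpowers_iff.2 ⟨j, rfl⟩, Or.inr ?_⟩
      rw [← hk', ← hl', ← zpow_natCast, ← _root_.zpow_mul, ← _root_.zpow_add]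
      congr 1
      push_cast
      omega
  have hTcomm : ∀ x ∈ T, ∀ y ∈ T, x * y = y * x := fun x hx y hy =>
    congrArg Subtype.val ((IsCyclic.isMulCommutative (α := T)).is_comm.comm ⟨x, hx⟩ ⟨y, hy⟩)
  have hZinv : ∀ M : SL2, M ∈ rot (F := F) → Z * M = M⁻¹ * Z := by
    intro M hM
    refine Subtype.ext (Matrix.ext fun i j => ?_)
    fin_cases i <;> fin_cases j <;>
      simp [Matrix.SpecialLinearGroup.coe_mul, Matrix.SpecialLinearGroup.coe_inv, Matrix.adjugate_fin_two,
        Matrix.mul_apply, hZ, hM.1, hM.2] <;> ring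
  refine ⟨m, r, U, H, R, s, z, ⟨hN, hcard, hcardU, ?_, ?_, ?_, ?_, ?_, ?_, hcardH, hHcyc, ?_, ?_, hss, hs1, ?_,
    hzz, hz1, hzs, hzne, hcardR, inferInstance, fun ρ hρ => hTcomm ρ (hRT hρ) s hsT, ?_, ?_, ?_, ?_, ?_⟩⟩
  · -- exponent three
    intro u hu
    obtain ⟨x, rfl⟩ := hUmem u hu
    rw [← map_pow, pow_succ, pow_two, up_mul, up_mul, show x + x + x = 0 by linear_combination x * h3F,
      up_zero, map_one]
  · intro u hu v hv
    obtain ⟨x, rfl⟩ := hUmem u hu
    obtain ⟨y, rfl⟩ := hUmem v hv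
    rw [← map_mul, ← map_mul, up_mul, up_mul, add_comm]
  · intro u hu hu1 c hc
    obtain ⟨x, rfl⟩ := hUmem u hu
    obtain ⟨X, rfl⟩ := hpre c
    obtain ⟨y, hy⟩ := exists_up_of_comm hns (hx0 x hu1) hc
    exact hy ▸ hmemU y
  · intro u hu hu1 c hc
    obtain ⟨x, rfl⟩ := hUmem u hu
    obtain ⟨X, rfl⟩ := hpre c
    obtain ⟨y, hy⟩ := hUmem _ hc
    obtain ⟨hc0, -⟩ := triangular_of_up hns (hx0 x hu1) (mul_inv_eq_iff_eq_mul.1 hy)
    have hd := sl_det X
    rw [hc0, mul_zero, sub_zero] at hd
    let D : Fˣ := ⟨X.1 0 0, X.1 1 1, hd, by rw [mul_comm]; exact hd⟩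
    refine ⟨_, hmemU (X.1 0 0 * X.1 0 1), _, ⟨D, rfl⟩, ?_⟩
    rw [MonoidHom.comp_apply, ← map_mul]
    refine congrArg pr (Subtype.ext (Matrix.ext fun i j => ?_))
    fin_cases i <;> fin_cases j <;> simp [Matrix.SpecialLinearGroup.coe_mul, torus_coe, D, hc0]
    linear_combination -(X.1 0 1) * hd
  · rintro _ ⟨a, rfl⟩ u hu
    obtain ⟨x, rfl⟩ := hUmem u hu
    rw [MonoidHom.comp_apply, ← map_mul, ← map_inv, ← map_mul]
    convert hmemU ((a : F) * a * x) using 2
    refine Subtype.ext (Matrix.ext fun i j => ?_)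
    fin_cases i <;> fin_cases j <;>
      simp [Matrix.SpecialLinearGroup.coe_mul, Matrix.SpecialLinearGroup.coe_inv, Matrix.adjugate_fin_two,
        torus_coe, mul_comm, mul_assoc, mul_left_comm]
  · intro u hu hu1 c hc
    obtain ⟨x, rfl⟩ := hUmem u hu
    obtain ⟨X, rfl⟩ := hpre c
    rw [show (pr (up x))⁻¹ = pr (up (-x)) by rw [← map_inv, up_inv]] at hc
    exact up_not_real hns (hx0 x hu1) (mul_inv_eq_iff_eq_mul.1 hc)
  · rintro _ ⟨a, rfl⟩ ha1 c hc
    obtain ⟨X, rfl⟩ := hpre c
    rcases monomial_of_torus hns (hHne a ha1) hc with ⟨hb, hc'⟩ | ⟨ha, hd⟩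
    · exact hHdiag X hb hc'
    · exfalso
      obtain ⟨ε, hε, e00, e01, e10, e11⟩ := comm_entries hc
      simp only [torus_coe, Matrix.cons_val', Matrix.cons_val_zero, Matrix.cons_val_one,
        Matrix.cons_val_fin_one, Matrix.of_apply] at e00 e01 e10 e11
      have hdX := sl_det X
      rw [ha, hd] at hdX
      have hb : X.1 0 1 ≠ 0 := fun h => by rw [h] at hdX; simp at hdX
      have p : ((a⁻¹ : Fˣ) : F) = ε * (a : F) := mul_left_cancel₀ hb (by linear_combination e01)
      have q : ε * ((a : F) * a) = 1 := by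
        rw [← a.mul_inv, p]; ring
      rcases hε with rfl | rfl
      · exact hHne a ha1 (by linear_combination q)
      · exact hns ⟨a, by linear_combination q⟩
  · rintro _ ⟨a, rfl⟩ ha1 c hc
    obtain ⟨X, rfl⟩ := hpre c
    obtain ⟨b, hb⟩ := hc
    rcases monomial_of_torus hns (hHne a ha1) (mul_inv_eq_iff_eq_mul.1 hb.symm) with ⟨h1, h1'⟩ | ⟨h1, h1'⟩
    · exact Or.inl (hHdiag X h1 h1')
    · refine Or.inr ?_
      rw [hs, ← map_mul]
      refine hHdiag _ ?_ ?_ <;> simp [Matrix.SpecialLinearGroup.coe_mul, Matrix.mul_apply, h1, h1']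
  · rintro _ ⟨a, rfl⟩
    rw [hs, MonoidHom.comp_apply, ← map_mul, ← map_inv, ← map_mul, ← map_inv]
    refine congrArg pr (Subtype.ext (Matrix.ext fun i j => ?_))
    fin_cases i <;> fin_cases j <;>
      simp [Matrix.SpecialLinearGroup.coe_mul, Matrix.SpecialLinearGroup.coe_inv, Matrix.adjugate_fin_two,
        torus_coe]
  · intro ρ hρ
    obtain ⟨M, hM, rfl⟩ := hRT hρ
    rw [hz, ← map_mul, hZinv M hM, map_mul, mul_inv_cancel_right, map_inv]
  · -- centraliser of `s`
    intro c hc
    obtain ⟨X, rfl⟩ := hpre c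
    rcases wey_comm hns hc with h | ⟨h11, h01⟩
    · obtain ⟨ρ, hρ, h'⟩ := hTcase _ (mem_map_of_mem pr h)
      exact ⟨ρ, hρ, h'.elim Or.inl fun e => Or.inr (Or.inl e)⟩
    · have hXZ : X * Z ∈ rot (F := F) := by
        constructor <;> simp [Matrix.SpecialLinearGroup.coe_mul, Matrix.mul_apply, hZ, h11, h01] <;> ring
      obtain ⟨ρ, hρ, h'⟩ := hTcase _ (mem_map_of_mem pr hXZ)
      rw [map_mul, ← hz] at h'
      refine ⟨ρ, hρ, Or.inr (Or.inr ?_)⟩
      rcases h' with h' | h'
      · left
        rw [← h', mul_assoc, hzz, mul_one]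
      · right
        rw [← mul_assoc, ← h', mul_assoc, hzz, mul_one]
  · intro ρ hρ hρ1 c hc
    obtain ⟨M, hM, rfl⟩ := hRT hρ
    obtain ⟨X, rfl⟩ := hpre c
    have hdM := sl_det M
    rw [hM.1, hM.2] at hdM
    have hb : M.1 1 0 ≠ 0 := by
      intro h0
      refine hρ1 ((hone _).2 ?_)
      rw [h0] at hdM
      have h01 : M.1 0 1 = 0 := by rw [hM.2, h0, mul_zero]
      have hsq : M.1 0 0 * M.1 0 0 = 1 := by linear_combination hdM
      rcases mul_self_eq_one_iff.1 hsq with e | e <;> [left; right] <;>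
        · refine Subtype.ext (Matrix.ext fun i j => ?_)
          fin_cases i <;> fin_cases j <;>
            simp [Matrix.SpecialLinearGroup.coe_neg, h0, h01, hM.1, e]
    have ha : M.1 0 0 ≠ 0 := by
      intro h0
      have hsq : M.1 1 0 * M.1 1 0 = 1 := by rw [h0] at hdM; linear_combination hdM
      refine hsR ?_
      have e : pr M = s := by
        rw [hs, pr_eq]
        rcases mul_self_eq_one_iff.1 hsq with e | e <;> [right; left] <;>
          · refine Subtype.ext (Matrix.ext fun i j => ?_)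
            fin_cases i <;> fin_cases j <;>
              simp [Matrix.SpecialLinearGroup.coe_neg, h0, hM.1, hM.2, e]
      exact e ▸ hρ
    exact hTcase _ (mem_map_of_mem pr (rot_of_comm hns hM hb ha hc))
  · intro i hi hi1
    exact Cfsg.Lib.PSLTwoDihedral.involution_conj hodd (orderOf_eq_prime (by rw [pow_two, hss]) hs1)
      (orderOf_eq_prime (by rw [pow_two, hi]) hi1)
  · -- the three types
    intro g hg
    obtain ⟨Y, rfl⟩ := hpre g
    have hdY := sl_det Y
    by_cases hsc : NonScalar (Y.1)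
    swap
    · refine ⟨1, Or.inl ?_⟩
      rw [one_mul, inv_one, mul_one, (hone _).2 (GLTwo.scalar_pm hsc)]
      exact one_mem _
    set τ := Y.1 0 0 + Y.1 1 1 with hτ
    by_cases hdisc : τ * τ - 4 = 0
    · -- unipotent up to sign
      have hcube : pr Y ^ 3 = 1 := by
        rw [← map_pow, hone]
        have hτ2 : τ = 2 ∨ τ = -2 := by
          refine mul_self_eq_mul_self_iff.1 ?_
          linear_combination hdisc
        rw [pow_succ, pow_two]
        rcases hτ2 with e | e <;> [left; right] <;>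
          · have h11 : Y.1 1 1 = τ - Y.1 0 0 := by rw [hτ]; ring
            rw [e] at h11
            rw [h11] at hdY
            refine Subtype.ext (Matrix.ext fun i j => ?_)
            fin_cases i <;> fin_cases j <;>
              simp [Matrix.SpecialLinearGroup.coe_mul, Matrix.SpecialLinearGroup.coe_neg,
                Matrix.mul_apply, Fin.sum_univ_two, h11] <;>
              first
                | linear_combination -(Y.1 0 0 + 2) * hdY + (Y.1 0 0 - 1) * h3F
                | linear_combination -(Y.1 0 0 - 2) * hdY + (Y.1 0 0 + 1) * h3F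
                | linear_combination -(Y.1 0 1) * hdY + Y.1 0 1 * h3F
                | linear_combination -(Y.1 1 0) * hdY + Y.1 1 0 * h3F
                | linear_combination -(4 - Y.1 0 0) * hdY + (1 - Y.1 0 0) * h3F
                | linear_combination (4 + Y.1 0 0) * hdY + (-1 - Y.1 0 0) * h3F
      obtain ⟨P, hP⟩ := (show IsPGroup 3 (zpowers (pr Y)) from fun w => ⟨1, by
        obtain ⟨k, hk⟩ := mem_zpowers_iff.1 w.2
        refine Subtype.ext ?_
        rw [SubgroupClass.coe_pow, pow_one, ← hk, ← zpow_natCast, ← _root_.zpow_mul, mul_comm, _root_.zpow_mul,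
          zpow_natCast, hcube]
        simp⟩).exists_le_sylow
      have hUS : Nat.card U = 3 ^ (Nat.card PSL2).factorization 3 := by
        rw [hcardU, hcard, hF]
        have h3' : ¬ 3 ∣ 4 * r * m := fun hd => by
          rcases (Nat.prime_three.dvd_mul.1 hd) with hd | hd
          · rcases (Nat.prime_three.dvd_mul.1 hd) with hd | hd
            · omega
            · exact hr3 hd
          · exact hm3 hd
        rw [Nat.factorization_mul (by
            intro h0; exact h3' (h0 ▸ dvd_zero 3)) (by positivity),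
          Nat.Prime.factorization_pow Nat.prime_three, Finsupp.add_apply,
          Nat.factorization_eq_zero_of_not_dvd h3', Finsupp.single_eq_same, zero_add]
      obtain ⟨a, ha⟩ := MulAction.exists_smul_eq PSL2 P (Sylow.ofCard U hUS)
      refine ⟨a, Or.inl ?_⟩
      have h := congrArg (fun S : Sylow 3 PSL2 => (S : Subgroup PSL2)) ha
      simp only [Sylow.coe_subgroup_smul, Sylow.coe_ofCard] at h
      rw [← h]
      exact ⟨pr Y, hP (mem_zpowers _), rfl⟩
    by_cases hsq : IsSquare (τ * τ - 4)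
    · -- split
      obtain ⟨δ, hδ⟩ := hsq
      have hδ0 : δ ≠ 0 := fun h => hdisc (by rw [hδ, h, zero_mul])
      have hprod : (τ + δ) / 2 * ((τ - δ) / 2) = 1 := by
        field_simp; linear_combination hδ
      let a : Fˣ := ⟨(τ + δ) / 2, (τ - δ) / 2, hprod, by rw [mul_comm]; exact hprod⟩
      have hrs : (τ + δ) / 2 ≠ (τ - δ) / 2 := by
        intro h
        field_simp at h
        exact hδ0 ((mul_eq_zero.1 (show (2 : F) * δ = 0 by linear_combination h)).resolve_left h2)
      have hns' : NonScalar (GLTwo.torus a : SL2).1 := by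
        intro h
        simp [torus_coe, a] at h
        exact hrs h
      obtain ⟨c, hc⟩ := isConj_iff.1 (GLTwo.isConj_SL hsc hns' (by
        rw [torus_coe, Matrix.trace_fin_two, Matrix.trace_fin_two_of, ← hτ]
        show τ = (τ + δ) / 2 + (τ - δ) / 2
        field_simp; ring) (GLTwo.full_split hrs (by
          show (Y.1).trace = _
          rw [Matrix.trace_fin_two, ← hτ]; field_simp; ring) (by
          show (Y.1).det = _
          rw [Y.2]; exact hprod.symm)))
      exact ⟨pr c, Or.inr (Or.inl ⟨a, by rw [MonoidHom.comp_apply, ← hc, map_mul, map_mul, map_inv]⟩)⟩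
    · -- non-split
      have hsq' : IsSquare (-1 * (τ * τ - 4)) := by
        rw [← quadraticChar_one_iff_isSquare (mul_ne_zero (neg_ne_zero.2 one_ne_zero) hdisc), map_mul,
          quadraticChar_neg_one_iff_not_isSquare.2 hns, quadraticChar_neg_one_iff_not_isSquare.2 hsq]
        ring
      obtain ⟨δ, hδ⟩ := hsq'
      have hn : (τ / 2) ^ 2 - (-1 : F) * (δ / 2) ^ 2 = 1 := by
        field_simp; linear_combination -hδ
      set M := Cfsg.Lib.PSLTwoDihedral.torusMk (-1 : F) (τ / 2) (δ / 2) hn with hM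
      have hδ0 : δ ≠ 0 := fun h => hdisc (by rw [h] at hδ; linear_combination -hδ)
      have hns' : NonScalar (M : SL2).1 := by
        intro h
        simp [hM, Cfsg.Lib.PSLTwoDihedral.torusMk] at h
        rcases h with h | h <;> first | exact hδ0 h | exact h2 h
      have hirr : Irred (Y.1).trace (Y.1).det := by
        intro x hx
        rw [Y.2, Matrix.trace_fin_two, ← hτ] at hx
        exact hsq ⟨2 * x - τ, by linear_combination -4 * hx⟩
      obtain ⟨c, hc⟩ := isConj_iff.1 (GLTwo.isConj_SL hsc hns' (by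
        rw [Matrix.trace_fin_two, Matrix.trace_fin_two, ← hτ]
        simp [hM, Cfsg.Lib.PSLTwoDihedral.torusMk]
        field_simp
        ring) (GLTwo.full_irred (g := Matrix.SpecialLinearGroup.toGL Y) hsc hirr).2)
      obtain ⟨ρ, hρ, h'⟩ := hTcase _ (mem_map_of_mem pr M.2)
      have hcg : pr c * pr Y * (pr c)⁻¹ = pr (M : SL2) := by rw [← hc, map_mul, map_mul, map_inv]
      rcases h' with h' | h'
      · exact ⟨pr c, Or.inr (Or.inr (by rw [hcg, h']; exact hρ))⟩
      · exfalso
        have ho : Odd (orderOf (ρ * s)) := by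
          rw [← h', ← hcg]
          exact (MulEquiv.orderOf_eq (MulAut.conj (pr c)) (pr Y)).symm ▸ hg
        have h1 : (ρ * s) ^ orderOf (ρ * s) = 1 := pow_orderOf_eq_one _
        rw [(show Commute ρ s from hTcomm ρ (hRT hρ) s hsT).mul_pow] at h1
        obtain ⟨k, hk⟩ := ho
        have hsk : s ^ orderOf (ρ * s) = s := by
          rw [hk, pow_succ, pow_mul, pow_two, hss, one_pow, one_mul]
        rw [hsk] at h1
        exact hsR ((eq_inv_of_mul_eq_one_right h1) ▸ inv_mem (pow_mem hρ _))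

end Cfsg.Lib.ReeThree
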