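import Cfsg.Agent.ReeInvolveThree.TorusGenerate

/-!
A group of Ree type without a section `S₃`: the centraliser of an element of the torus is the
centraliser inside `C(t)`.
-/

set_option autoImplicit false
set_option linter.style.haveILetI false
set_option linter.unusedSectionVars false

namespace Cfsg.Lib.ReeThree

open Subgroup

universe u

variable {G : Type u} [Group G] [Finite G] {t s z : G} {K U H R : Subgroup G} {q m r : ℕ}
  (D : Frame t K q m r U H R s z)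
include D

theorem Frame.H_inv_mem {a : G} (ha : a ∈ H) : t * a * t⁻¹ = a ∧ s * a * s⁻¹ = a⁻¹ :=
  ⟨by rw [D.comm a (D.HK ha), mul_inv_cancel_right], D.sH a ha⟩

/-- The kernel of `C(h)` is invariant under the four-group. -/
theorem Frame.kernel_inv {h : G} (hh : h ∈ H) {O : Subgroup G} (hOc : O ≤ centralizer ({h} : Set G))
    (hOodd : Odd (Nat.card O)) (hOmem : ∀ c, c * h = h * c → Odd (orderOf c) → c ∈ O) :
    (∀ o ∈ O, t * o * t⁻¹ ∈ O) ∧ ∀ o ∈ O, s * o * s⁻¹ ∈ O := by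
  have hodd : ∀ o ∈ O, Odd (orderOf o) := fun o ho =>
    hOodd.of_dvd_nat (orderOf_mk o ho ▸ orderOf_dvd_natCard (⟨o, ho⟩ : O))
  constructor
  · intro o ho
    refine hOmem _ ?_ ((orderOf_conj_eq t o).symm ▸ hodd o ho)
    have ht : Commute t h := D.comm h (D.HK hh)
    exact ((ht.mul_left (mem_centralizer_singleton_iff.1 (hOc ho))).mul_left ht.inv_left).eq
  · intro o ho
    refine hOmem _ ?_ ((orderOf_conj_eq s o).symm ▸ hodd o ho)
    have h1 : s * h⁻¹ * s⁻¹ = h := by rw [D.sH _ (inv_mem hh), inv_inv]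
    have h2 : Commute o h⁻¹ := (show Commute o h from mem_centralizer_singleton_iff.1 (hOc ho)).inv_right
    conv_lhs => arg 2; rw [← h1]
    conv_rhs => arg 1; rw [← h1]
    calc s * o * s⁻¹ * (s * h⁻¹ * s⁻¹) = s * (o * h⁻¹) * s⁻¹ := by group
      _ = s * (h⁻¹ * o) * s⁻¹ := by rw [h2.eq]
      _ = s * h⁻¹ * s⁻¹ * (s * o * s⁻¹) := by group

/-- The centraliser of a nontrivial torus element. -/
theorem Frame.cent_H {h c : G} (hh : h ∈ H) (hh1 : h ≠ 1) (hc : c * h = h * c) :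
    ∃ a ∈ H, c = a ∨ c = t * a := by
  classical
  haveI : Fact (Nat.Prime 2) := ⟨Nat.prime_two⟩
  obtain ⟨O, hOc, hOodd, hOcases, hOmem, hOfix⟩ :=
    D.exists_odd_kernel (D.comm h (D.HK hh)).symm (A := H) (D.cardH ▸ D.odd_m)
      (fun k hk hk' => D.Hcent h hh hh1 k hk hk')
  suffices hle : ∀ o ∈ O, o * t = t * o by
    rcases hOcases c hc with h' | h'
    · exact ⟨c, hOfix c h' (hle c h'), Or.inl rfl⟩
    · refine ⟨c * t, hOfix _ h' (hle _ h'), Or.inr ?_⟩
      rw [D.comm _ (D.HK (hOfix _ h' (hle _ h'))), mul_assoc, D.tt, mul_one]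
  obtain ⟨hOt, hOs⟩ := D.kernel_inv hh hOc hOodd hOmem
  have hodd : ∀ o ∈ O, Odd (orderOf o) := fun o ho =>
    hOodd.of_dvd_nat (orderOf_mk o ho ▸ orderOf_dvd_natCard (⟨o, ho⟩ : O))
  have hts := D.comm s D.sK
  -- a fixed point of `s` or `t s`
  by_contra hcon
  obtain ⟨v, y, hv, hy, hyv, hy1⟩ : ∃ v y, (v = s ∨ v = t * s) ∧ y ∈ O ∧ y * v = v * y ∧ y ≠ 1 := by
    by_contra! hnone
    refine hcon fun o ho => ?_
    have h1 := (fpf_inverts D.ss (S := O) hOs fun a ha has => hnone s a (Or.inl rfl) ha has).1 o ho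
    have hOts : ∀ o ∈ O, t * s * o * (t * s)⁻¹ ∈ O := fun o ho => by
      rw [show t * s * o * (t * s)⁻¹ = t * (s * o * s⁻¹) * t⁻¹ by group]; exact hOt _ (hOs o ho)
    have h2 := (fpf_inverts (D.v_facts (Or.inr rfl)).1 (S := O) hOts
      fun a ha hats => hnone (t * s) a (Or.inr rfl) ha hats).1 o ho
    rw [show t * s * o * (t * s)⁻¹ = t * (s * o * s⁻¹) * t⁻¹ by group, h1] at h2
    refine (mul_inv_eq_iff_eq_mul.1 ?_).symm
    rw [← inv_inj, ← h2]; group
  obtain ⟨hvv, hv1, hvt, hvc, hvH, hviff⟩ := D.v_facts hv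
  have hOv : ∀ o ∈ O, v * o * v⁻¹ ∈ O := fun o ho => by
    rcases hv with rfl | rfl
    · exact hOs o ho
    · rw [show t * s * o * (t * s)⁻¹ = t * (s * o * s⁻¹) * t⁻¹ by group]; exact hOt _ (hOs o ho)
  -- `t` inverts it
  set S : Subgroup G := O ⊓ centralizer ({v} : Set G) with hS
  have hSinv : ∀ w ∈ S, t * w * t⁻¹ ∈ S := fun w hw => mem_inf.2 ⟨hOt w (mem_inf.1 hw).1,
    mem_centralizer_singleton_iff.2 (((show Commute t v from hvc.symm).mul_left
      (mem_centralizer_singleton_iff.1 (mem_inf.1 hw).2)).mul_left (show Commute t v from hvc.symm).inv_left).eq⟩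
  have hfixS : ∀ w ∈ O, w * v = v * w → w * t = t * w → w = 1 := fun w hw hwv hwt => by
    have h' := hvH w (hOfix w hw hwt)
    rw [← hwv, mul_inv_cancel_right] at h'
    exact eq_one_of_odd_sq (hodd w hw) (eq_inv_iff_mul_eq_one.1 h')
  have hinv := (fpf_inverts D.tt (S := S) hSinv fun w hw =>
    hfixS w (mem_inf.1 hw).1 (mem_centralizer_singleton_iff.1 (mem_inf.1 hw).2)).1
  -- its power of prime order
  set p := (orderOf y).minFac with hpdef
  haveI hp : Fact p.Prime := ⟨Nat.minFac_prime (fun h' => hy1 (orderOf_eq_one_iff.1 h'))⟩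
  set x := y ^ (orderOf y / p) with hxdef
  have hxo : orderOf x = p := orderOf_pow_orderOf_div (orderOf_pos y).ne' (Nat.minFac_dvd _)
  have hxS : x ∈ S := pow_mem (mem_inf.2 ⟨hy, mem_centralizer_singleton_iff.2 hyv⟩ : y ∈ S) _
  have hxO := (mem_inf.1 hxS).1
  have hxv := mem_centralizer_singleton_iff.1 (mem_inf.1 hxS).2
  have hxt : t * x * t⁻¹ = x⁻¹ := hinv x hxS
  have hx1 : x ≠ 1 := fun h' => hp.out.one_lt.ne (by rw [← hxo, h', orderOf_one])
  obtain ⟨g, hg⟩ := D.conj_invol hvv hv1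
  have hxK : g * x * g⁻¹ ∈ K := by
    refine D.odd_mem ?_ ((orderOf_conj_eq g x).symm ▸ hodd x hxO)
    rw [← hg]
    calc g * x * g⁻¹ * (g * v * g⁻¹) = g * (x * v) * g⁻¹ := by group
      _ = g * (v * x) * g⁻¹ := by rw [hxv]
      _ = g * v * g⁻¹ * (g * x * g⁻¹) := by group
  obtain ⟨a, ha, hH | hH | hH⟩ := D.typesOrder hxK ((orderOf_conj_eq g x).symm ▸ hodd x hxO)
  · rw [orderOf_conj_eq, hxo] at hH
    obtain ⟨n, hn⟩ := D.nums.pow
    have hp3 : p = 3 := (Nat.prime_dvd_prime_iff_eq hp.out Nat.prime_three).1 (hp.out.dvd_of_dvd_pow (hn ▸ hH.2))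
    exact hx1 (D.not_real_three (x := t) (orderOf_dvd_iff_pow_eq_one.1 (by rw [hxo, hp3])) hxt)
  swap
  · rw [orderOf_conj_eq] at hH
    exact hh1 (D.no_inverted_R hH.2 hx1 hvv hv1 hxv.symm (mem_centralizer_singleton_iff.1 (hOc hxO)).symm
      (D.odd_H hh) (hvH h hh))
  rw [orderOf_conj_eq, hxo] at hH
  have hpm : p ∣ m := hH.2
  -- an element of order `p` in the torus
  obtain ⟨h₀', h0o⟩ := exists_prime_orderOf_dvd_card' (G := H) p (D.cardH.symm ▸ hpm)
  set h₀ : G := (h₀' : G) with hh₀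
  have h0H : h₀ ∈ H := h₀'.2
  have h0p : orderOf h₀ = p := by rw [hh₀, orderOf_coe, h0o]
  have hpo := D.p_odd h0H h0p
  -- the `p`-part of the torus
  haveI := D.Hcyc
  letI := IsCyclic.commGroup (α := H)
  obtain ⟨T⟩ : Nonempty (Sylow p H) := inferInstance
  haveI hTn : (T : Subgroup H).Normal := ⟨fun a ha b => by rwa [mul_comm b a, mul_inv_cancel_right]⟩
  haveI := Sylow.unique_of_normal T hTn
  set Hp : Subgroup G := (T : Subgroup H).map H.subtype with hHp
  have hHpH : Hp ≤ H := map_subtype_le _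
  have hHpp : IsPGroup p Hp := T.2.map _
  have hHpmem : ∀ w ∈ H, (∃ k : ℕ, w ^ p ^ k = 1) → w ∈ Hp := by
    rintro w hw ⟨k, hk⟩
    obtain ⟨T', hT'⟩ := (show IsPGroup p (zpowers (⟨w, hw⟩ : H)) from fun b => ⟨k, by
      obtain ⟨i, hi⟩ := mem_zpowers_iff.1 b.2
      refine Subtype.ext (Subtype.ext ?_)
      have hb : ((b : H) : G) = w ^ i := by rw [← hi]; simp
      show (((b ^ p ^ k : zpowers (⟨w, hw⟩ : H)) : H) : G) = 1
      rw [SubgroupClass.coe_pow, SubgroupClass.coe_pow, hb, ← zpow_natCast, ← _root_.zpow_mul, mul_comm,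
        _root_.zpow_mul, zpow_natCast, hk, one_zpow]⟩).exists_le_sylow
    exact ⟨⟨w, hw⟩, Subsingleton.elim T' T ▸ hT' (mem_zpowers _), rfl⟩
  obtain ⟨A, htA, hsA, hA2, hAcomm, hAcyc, hAel⟩ := D.exists_four
  haveI := hAcomm
  have hAsol : Group.IsSolvable A := Group.isSolvable_of_comm fun a b => mul_comm' a b
  have hAHp : A ≤ normalizer (Hp : Set G) := fun w hw => mem_normalizer_of_forall fun b hb => by
    have hbH := hHpH hb
    rcases hAel w hw with rfl | rfl | rfl | rfl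
    · rwa [one_mul, inv_one, mul_one]
    · rwa [(D.H_inv_mem hbH).1]
    · rw [(D.H_inv_mem hbH).2]; exact inv_mem hb
    · rw [show t * s * b * (t * s)⁻¹ = t * (s * b * s⁻¹) * t⁻¹ by group, (D.H_inv_mem hbH).2,
        (D.H_inv_mem (inv_mem hbH)).1]
      exact inv_mem hb
  have hAnorm : ∀ X : Subgroup G, (∀ o ∈ X, t * o * t⁻¹ ∈ X) → (∀ o ∈ X, s * o * s⁻¹ ∈ X) →
      A ≤ normalizer (X : Set G) := fun X h1 h2 w hw => mem_normalizer_of_forall fun o ho => by
    rcases hAel w hw with rfl | rfl | rfl | rfl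
    · rwa [one_mul, inv_one, mul_one]
    · exact h1 o ho
    · exact h2 o ho
    · rw [show t * s * o * (t * s)⁻¹ = t * (s * o * s⁻¹) * t⁻¹ by group]; exact h1 _ (h2 o ho)
  have hcop : ∀ {X : Subgroup G}, Odd (Nat.card X) → (Nat.card A).Coprime (Nat.card X) := fun {X} hX => by
    obtain ⟨e, he⟩ := hA2.exists_card_eq
    rw [he]
    exact hX.coprime_two_left.pow_left e
  have hHpO : Hp ≤ O := fun w hw =>
    hOmem w (D.H_comm (hHpH hw) hh) (D.odd_H (hHpH hw))
  obtain ⟨T₁, hT₁H, hT₁A⟩ := Cfsg.Lib.Coprime.exists_invariant_sylow_ge (hAnorm O hOt hOs) (hcop hOodd)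
    (Or.inl hAsol) p hHpO hHpp hAHp
  have hxA : A ≤ normalizer ((zpowers x : Subgroup G) : Set G) := by
    have key : ∀ w : G, (w * x * w⁻¹ = x ∨ w * x * w⁻¹ = x⁻¹) → w ∈ normalizer ((zpowers x : Subgroup G) : Set G) := by
      intro w hw
      refine mem_normalizer_of_forall fun b hb => ?_
      obtain ⟨i, rfl⟩ := mem_zpowers_iff.1 hb
      rw [← conj_zpow]
      rcases hw with hw | hw <;> rw [hw]
      · exact zpow_mem (mem_zpowers x) i
      · exact zpow_mem (inv_mem (mem_zpowers x)) i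
    have hxv' : v * x * v⁻¹ = x := by rw [← hxv, mul_inv_cancel_right]
    intro w hw
    rcases hAel w hw with rfl | rfl | rfl | rfl
    · exact key _ (Or.inl (by group))
    · exact key _ (Or.inr hxt)
    · rcases hv with rfl | rfl
      · exact key _ (Or.inl hxv')
      · refine key _ (Or.inr ?_)
        have e : w = t * (t * w) := by rw [← mul_assoc, D.tt, one_mul]
        rw [show w * x * w⁻¹ = t * (t * w * x * (t * w)⁻¹) * t⁻¹ by
          rw [show t * (t * w * x * (t * w)⁻¹) * t⁻¹ = (t * t) * w * x * w⁻¹ * (t * t)⁻¹ by group, D.tt]; group,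
          hxv', hxt]
    · rcases hv with rfl | rfl
      · refine key _ (Or.inr ?_)
        rw [show t * v * x * (t * v)⁻¹ = t * (v * x * v⁻¹) * t⁻¹ by group, hxv', hxt]
      · exact key _ (Or.inl hxv')
  have hxp : IsPGroup p (zpowers x) := IsPGroup.of_card (n := 1) (by rw [Nat.card_zpowers, hxo, pow_one])
  obtain ⟨T₂, hT₂x, hT₂A⟩ := Cfsg.Lib.Coprime.exists_invariant_sylow_ge (hAnorm O hOt hOs) (hcop hOodd)
    (Or.inl hAsol) p (zpowers_le.2 hxO) hxp hxA
  obtain ⟨c', hc', hc'T⟩ := Cfsg.Lib.Coprime.invariant_sylow_conj (hAnorm O hOt hOs) (hcop hOodd)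
    (Or.inl hAsol) p T₁ T₂ hT₁A hT₂A
  have hc'1 : c' = 1 := by
    have hct : (c' : G) * t = t * c' := ((mem_centralizer_iff.1 hc') t htA).symm
    have hcs : (c' : G) * s = s * c' := ((mem_centralizer_iff.1 hc') s hsA).symm
    have h' := D.sH _ (hOfix _ c'.2 hct)
    rw [← hcs, mul_inv_cancel_right] at h'
    exact Subtype.ext (eq_one_of_odd_sq (hodd _ c'.2) (eq_inv_iff_mul_eq_one.1 h'))
  rw [hc'1, one_smul] at hc'T
  subst hc'T
  set P₁ : Subgroup G := (T₁ : Subgroup O).map O.subtype with hP₁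
  have hP₁p : IsPGroup p P₁ := T₁.2.map _
  have hP₁O : P₁ ≤ O := map_subtype_le _
  have hxP₁ : x ∈ P₁ := hT₂x (mem_zpowers x)
  have hxH : x ∉ H := fun h' => hx1 (hfixS x hxO hxv (D.comm x (D.HK h')).symm)
  have hP₁big : Nat.card Hp < Nat.card P₁ :=
    lt_of_le_of_ne (card_le_of_le hT₁H) fun e => hxH (hHpH (eq_of_le_of_card_ge hT₁H e.ge ▸ hxP₁))
  have hinvP : ∀ {X : Subgroup G}, A ≤ normalizer (X : Set G) → ∀ w ∈ A, ∀ o ∈ X, w * o * w⁻¹ ∈ X :=
    fun {X} hX w hw o ho => (mem_normalizer_iff.1 (hX hw) o).1 ho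
  -- a large `p`-group commuting with `h₀`
  obtain ⟨Q, hQp, hQc, hQbig⟩ : ∃ Q : Subgroup G, IsPGroup p Q ∧ Q ≤ centralizer ({h₀} : Set G) ∧
      Nat.card Hp < Nat.card Q := by
    haveI : Nontrivial P₁ := ⟨⟨x, hxP₁⟩, 1, fun e => hx1 (congrArg Subtype.val e)⟩
    haveI := hP₁p.center_nontrivial
    obtain ⟨e₀, he₀, he₀1⟩ := (Subgroup.bot_or_exists_ne_one (center P₁)).resolve_left
      ((nontrivial_iff_ne_bot _).1 inferInstance)
    obtain ⟨n, hn⟩ := exists_pow_order hP₁p e₀.2 (fun e => he₀1 (Subtype.ext e))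
    set e := (e₀ : G) ^ n with hedef
    have heP : e ∈ P₁ := pow_mem e₀.2 n
    have hec : ∀ b ∈ P₁, e * b = b * e := fun b hb =>
      (((show Commute b (e₀ : G) from congrArg Subtype.val (mem_center_iff.1 he₀ ⟨b, hb⟩)).pow_right n).symm).eq
    have hep : e ^ p = 1 := orderOf_dvd_iff_pow_eq_one.1 hn.dvd
    have he1 : e ≠ 1 := fun h' => hp.out.one_lt.ne (by rw [← hn, h', orderOf_one])
    have hcomp : ∀ w : G, w * w = 1 → w ∈ A →
        e * (w * e * w⁻¹) ∈ P₁ ∧ (∀ b ∈ P₁, e * (w * e * w⁻¹) * b = b * (e * (w * e * w⁻¹))) ∧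
          (e * (w * e * w⁻¹)) ^ p = 1 ∧ e * (w * e * w⁻¹) * w = w * (e * (w * e * w⁻¹)) := by
      intro w hww hwA
      have hwP := hinvP hT₁A w hwA
      have hwinv : w⁻¹ = w := inv_eq_of_mul_eq_one_right hww
      have hce : Commute e (w * e * w⁻¹) := hec _ (hwP e heP)
      have hcw : ∀ b ∈ P₁, w * e * w⁻¹ * b = b * (w * e * w⁻¹) := by
        intro b hb
        have h' := hec _ (hwP b hb)
        rw [hwinv] at h' ⊢
        calc w * e * w * b = w * (e * (w * b * w)) * w := by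
              rw [show w * (e * (w * b * w)) * w = w * e * w * b * (w * w) by group, hww, mul_one]
          _ = w * ((w * b * w) * e) * w := by rw [h']
          _ = (w * w) * b * (w * e * w) := by group
          _ = _ := by rw [hww, one_mul]
      refine ⟨mul_mem heP (hwP e heP), fun b hb => ((show Commute e b from hec b hb).mul_left (hcw b hb)).eq,
        by rw [hce.mul_pow, hep, conj_pow, hep, mul_one, mul_inv_cancel, one_mul], ?_⟩
      calc e * (w * e * w⁻¹) * w = e * w * e := by group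
        _ = (w * w) * (e * w * e) := by rw [hww, one_mul]
        _ = w * ((w * e * w⁻¹) * (w * w) * e) := by group
        _ = w * ((w * e * w⁻¹) * e) := by rw [hww, mul_one]
        _ = w * (e * (w * e * w⁻¹)) := by rw [hce.eq]
    have hts2 : t * s * (t * s) = 1 := (D.v_facts (Or.inr rfl)).1
    obtain ⟨h1P, h1c, h1p, h1t⟩ := hcomp t D.tt htA
    by_cases h1 : e * (t * e * t⁻¹) = 1
    · -- some involution other than `t` centralises a central element
      obtain ⟨w, b, hw, hww, hw1, hbP, hb1, hbp, hbw, hbc⟩ : ∃ w b : G, (w = s ∨ w = t * s) ∧ w * w = 1 ∧ w ≠ 1 ∧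
          b ∈ P₁ ∧ b ≠ 1 ∧ b ^ p = 1 ∧ b * w = w * b ∧ ∀ d ∈ P₁, b * d = d * b := by
        obtain ⟨h2P, h2c, h2p, h2s⟩ := hcomp s D.ss hsA
        by_cases h2 : e * (s * e * s⁻¹) = 1
        · have hse : s * e * s⁻¹ = e⁻¹ := eq_inv_of_mul_eq_one_right h2
          have hte : t * e * t⁻¹ = e⁻¹ := eq_inv_of_mul_eq_one_right h1
          refine ⟨t * s, e, Or.inr rfl, hts2, (D.v_facts (Or.inr rfl)).2.1, heP, he1, hep, ?_, hec⟩
          have h3 : t * s * e * (t * s)⁻¹ = e := by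
            rw [show t * s * e * (t * s)⁻¹ = t * (s * e * s⁻¹) * t⁻¹ by group, hse,
              show t * e⁻¹ * t⁻¹ = (t * e * t⁻¹)⁻¹ by group, hte, inv_inv]
          exact (mul_inv_eq_iff_eq_mul.1 h3).symm
        · exact ⟨s, _, Or.inl rfl, D.ss, D.s1, h2P, h2, h2p, h2s, h2c⟩
      obtain ⟨g', -, hgb⟩ := D.conj_hzero h0H h0p hbp hb1 hww hw1 hbw
      refine ⟨P₁.map (MulAut.conj g').toMonoidHom, hP₁p.map _, ?_, ?_⟩
      · rintro _ ⟨d, hd, rfl⟩
        refine mem_centralizer_singleton_iff.2 (commute_of_mem_zpowers (hgb ▸ mem_zpowers h₀) ?_)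
        show g' * d * g'⁻¹ * (g' * b * g'⁻¹) = g' * b * g'⁻¹ * (g' * d * g'⁻¹)
        calc g' * d * g'⁻¹ * (g' * b * g'⁻¹) = g' * (d * b) * g'⁻¹ := by group
          _ = g' * (b * d) * g'⁻¹ := by rw [hbc d hd]
          _ = g' * b * g'⁻¹ * (g' * d * g'⁻¹) := by group
      · rwa [card_map_of_injective (f := (MulAut.conj g').toMonoidHom) (MulAut.conj g').injective]
    · refine ⟨P₁, hP₁p, fun d hd => mem_centralizer_singleton_iff.2 ?_, hP₁big⟩
      have hmem := D.mem_hzero h0H h0p (hOfix _ (hP₁O h1P) h1t) h1p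
      exact commute_of_mem_zpowers (zpowers_eq_of_order h0p hmem h1 ▸ mem_zpowers h₀) (h1c d hd).symm
  -- the centraliser of `h₀`
  have h01 := D.h0_ne h0H h0p
  obtain ⟨O', hO'c, hO'odd, hO'cases, hO'mem, hO'fix⟩ :=
    D.exists_odd_kernel (D.comm h₀ (D.HK h0H)).symm (A := H) (D.cardH ▸ D.odd_m)
      (fun k hk hk' => D.Hcent h₀ h0H h01 k hk hk')
  obtain ⟨hO't, hO's⟩ := D.kernel_inv h0H hO'c hO'odd hO'mem
  have hHpO' : Hp ≤ O' := fun w hw => hO'mem w (D.H_comm (hHpH hw) h0H) (D.odd_H (hHpH hw))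
  obtain ⟨T₃, hT₃H, hT₃A⟩ := Cfsg.Lib.Coprime.exists_invariant_sylow_ge (hAnorm O' hO't hO's) (hcop hO'odd)
    (Or.inl hAsol) p hHpO' hHpp hAHp
  set P : Subgroup G := (T₃ : Subgroup O').map O'.subtype with hP
  have hmax : ∀ Q : Subgroup G, IsPGroup p Q → Q ≤ centralizer ({h₀} : Set G) →
      Nat.card Q ≤ Nat.card P ∧ ∃ o, o * h₀ = h₀ * o ∧ ∀ b ∈ Q, o * b * o⁻¹ ∈ P := by
    intro Q hQ hQc
    have hQO : Q ≤ O' := fun b hb =>
      hO'mem b (mem_centralizer_singleton_iff.1 (hQc hb)) (odd_of_pgroup hpo hQ hb)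
    obtain ⟨T', hT'⟩ := (hQ.of_equiv (subgroupOfEquivOfLe hQO).symm).exists_le_sylow
    obtain ⟨o, ho⟩ := MulAction.exists_smul_eq O' T' T₃
    refine ⟨?_, (o : G), mem_centralizer_singleton_iff.1 (hO'c o.2), fun b hb => ?_⟩
    · calc Nat.card Q = Nat.card (Q.subgroupOf O') := (Nat.card_congr (subgroupOfEquivOfLe hQO).toEquiv).symm
        _ ≤ Nat.card (T' : Subgroup O') := Nat.card_le_card_of_injective _ (inclusion_injective hT')
        _ = Nat.card (T₃ : Subgroup O') := Nat.card_congr (Sylow.equiv T' T₃).toEquiv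
        _ = Nat.card P := (card_map_of_injective O'.subtype_injective).symm
    · refine ⟨o * ⟨b, hQO hb⟩ * o⁻¹, ?_, rfl⟩
      rw [← ho, Sylow.coe_subgroup_smul]
      exact ⟨⟨b, hQO hb⟩, hT' hb, rfl⟩
  have hPH : ¬ P ≤ H := by
    intro hle
    refine absurd ((hmax Q hQp hQc).1.trans (card_le_of_le fun b hb => hHpmem b (hle hb) ?_)) (not_le.2 hQbig)
    obtain ⟨k, hk⟩ := (T₃.2.map O'.subtype) ⟨b, hb⟩
    exact ⟨k, congrArg Subtype.val hk⟩
  obtain ⟨b, hb, hbH⟩ := SetLike.not_le_iff_exists.1 hPH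
  exact D.no_big h0H h0p (O := O') (P := P) {
    Oc := hO'c
    Oodd := hO'odd
    Ocases := hO'cases
    Ofix := hO'fix
    PO := map_subtype_le _
    Pp := T₃.2.map _
    Pt := hinvP hT₃A t htA
    Ps := hinvP hT₃A s hsA
    h0P := hT₃H (hHpmem h₀ h0H ⟨1, by rw [pow_one, ← h0p, pow_orderOf_eq_one]⟩)
    big := ⟨b, hb, hbH⟩
    max := hmax }

end Cfsg.Lib.ReeThree
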