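import Cfsg.Agent.ReeInvolveThree.TorusTools

/-!
A group of Ree type without a section `S₃`: the `p`-part of the centraliser of a torus element,
first configuration.
-/

set_option autoImplicit false
set_option linter.style.haveILetI false
set_option linter.unusedSectionVars false

namespace Cfsg.Lib.ReeThree

open Subgroup

universe u

variable {G : Type u} [Group G]

/-- An invariant `p`-subgroup of maximal order in the centraliser of `h₀`, larger than its torus part. -/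
structure PData (t s : G) (H : Subgroup G) (h₀ : G) (p : ℕ) (O P : Subgroup G) : Prop where
  Oc : O ≤ centralizer ({h₀} : Set G)
  Oodd : Odd (Nat.card O)
  Ocases : ∀ c, c * h₀ = h₀ * c → c ∈ O ∨ c * t ∈ O
  Ofix : ∀ o ∈ O, o * t = t * o → o ∈ H
  PO : P ≤ O
  Pp : IsPGroup p P
  Pt : ∀ a ∈ P, t * a * t⁻¹ ∈ P
  Ps : ∀ a ∈ P, s * a * s⁻¹ ∈ P
  h0P : h₀ ∈ P
  big : ∃ a ∈ P, a ∉ H
  max : ∀ Q : Subgroup G, IsPGroup p Q → Q ≤ centralizer ({h₀} : Set G) →
    Nat.card Q ≤ Nat.card P ∧ ∃ o, o * h₀ = h₀ * o ∧ ∀ a ∈ Q, o * a * o⁻¹ ∈ P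

section Cycle

variable [Finite G] {t s z : G} {K U H R : Subgroup G} {q m r : ℕ} (D : Frame t K q m r U H R s z)
  {h₀ : G} {p : ℕ} [hp : Fact p.Prime] (h0H : h₀ ∈ H) (h0p : orderOf h₀ = p) {O P : Subgroup G}
  (PD : PData t s H h₀ p O P)
include D h0H h0p PD

theorem Frame.P_comm_h0 {a : G} (ha : a ∈ P) : a * h₀ = h₀ * a :=
  mem_centralizer_singleton_iff.1 (PD.Oc (PD.PO ha))

/-- An element of order `p` central in `P` is centralised by no involution of the four-group but `t`. -/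
theorem Frame.no_central {v b : G} (hv : v = s ∨ v = t * s) (hbP : b ∈ P) (hb1 : b ≠ 1) (hbp : b ^ p = 1)
    (hbv : b * v = v * b) (hbc : ∀ x ∈ P, b * x = x * b) : False := by
  classical
  haveI : Fact (Nat.Prime 2) := ⟨Nat.prime_two⟩
  haveI : Fact (Nat.Prime 3) := ⟨Nat.prime_three⟩
  obtain ⟨hvv, hv1, hvt, hvc, hvH, hviff⟩ := D.v_facts hv
  have hts := D.comm s D.sK
  obtain ⟨g, hg, hgb⟩ := D.conj_hzero h0H h0p hbp hb1 hvv hv1 hbv
  have hh0g : h₀ ∈ zpowers (g * b * g⁻¹) := hgb ▸ mem_zpowers h₀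
  set Q : Subgroup G := P.map (MulAut.conj g).toMonoidHom with hQ
  obtain ⟨-, o, ho, hoQ⟩ := PD.max Q (PD.Pp.map _) (by
    rintro _ ⟨x, hx, rfl⟩
    refine mem_centralizer_singleton_iff.2 (commute_of_mem_zpowers hh0g ?_)
    show g * x * g⁻¹ * (g * b * g⁻¹) = g * b * g⁻¹ * (g * x * g⁻¹)
    calc g * x * g⁻¹ * (g * b * g⁻¹) = g * (x * b) * g⁻¹ := by group
      _ = g * (b * x) * g⁻¹ := by rw [hbc x hx]
      _ = g * b * g⁻¹ * (g * x * g⁻¹) := by group)
  set n₁ := o * g with hn₁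
  have hn₁N : n₁ ∈ normalizer (P : Set G) := mem_normalizer_of_forall fun a ha => by
    rw [hn₁, show o * g * a * (o * g)⁻¹ = o * (g * a * g⁻¹) * o⁻¹ by group]
    exact hoQ _ ⟨a, ha, rfl⟩
  have htN : t ∈ normalizer (P : Set G) := mem_normalizer_of_forall PD.Pt
  have hsN : s ∈ normalizer (P : Set G) := mem_normalizer_of_forall PD.Ps
  have hvN : v ∈ normalizer (P : Set G) := by
    rcases hv with rfl | rfl
    exacts [hsN, mul_mem htN hsN]
  have hth : h₀ * t = t * h₀ := (D.comm h₀ (D.HK h0H)).symm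
  set i := n₁ * v * n₁⁻¹ with hi
  have hii : i * i = 1 := by
    rw [hi, show n₁ * v * n₁⁻¹ * (n₁ * v * n₁⁻¹) = n₁ * (v * v) * n₁⁻¹ by group, hvv]; group
  have hi1 : i ≠ 1 := fun h => hv1 (conj_eq_one_iff.1 h)
  have hih : i * h₀ = h₀ * i := by
    rw [hi, hn₁, show o * g * v * (o * g)⁻¹ = o * (g * v * g⁻¹) * o⁻¹ by group, hg]
    exact (((show Commute o h₀ from ho).mul_left (show Commute t h₀ from hth.symm)).mul_left
      (show Commute o h₀ from ho).inv_left).eq
  have hiN : i ∈ normalizer (P : Set G) := mul_mem (mul_mem hn₁N hvN) (inv_mem hn₁N)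
  have hoddO : ∀ o ∈ O, Odd (orderOf o) := fun o ho =>
    PD.Oodd.of_dvd_nat (orderOf_mk o ho ▸ orderOf_dvd_natCard (⟨o, ho⟩ : O))
  have hitO : i * t ∈ O :=
    (PD.Ocases i hih).resolve_left fun h => hi1 (eq_one_of_odd_sq (hoddO i h) hii)
  set o' := i * t with ho'
  have hto : t * o' * t⁻¹ = o'⁻¹ := by
    rw [ho', _root_.mul_inv_rev, D.tinv, inv_eq_of_mul_eq_one_right hii,
      show t * (i * t) * t = t * i * (t * t) by group, D.tt, mul_one]
  obtain ⟨w, hw, hww⟩ := exists_root (hoddO o' hitO)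
  have hwinv : t * w * t⁻¹ = w⁻¹ := by
    obtain ⟨j, rfl⟩ := mem_zpowers_iff.1 hw
    rw [← conj_zpow, hto, _root_.inv_zpow]
  have hwt : w * t * w⁻¹ = i := by
    have hi' : i = o' * t := by rw [ho', mul_assoc, D.tt, mul_one]
    have htw : t * w⁻¹ * t⁻¹ = w := by
      rw [show t * w⁻¹ * t⁻¹ = (t * w * t⁻¹)⁻¹ by group, hwinv, inv_inv]
    rw [hi', show w * t * w⁻¹ = w * (t * w⁻¹ * t⁻¹) * t by group, htw, hww]
  have hwN : w ∈ normalizer (P : Set G) := zpowers_le.2 (mul_mem hiN htN) hw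
  set n := w⁻¹ * n₁ with hn
  have hnN : n ∈ normalizer (P : Set G) := mul_mem (inv_mem hwN) hn₁N
  have hnv : n * v * n⁻¹ = t := by
    rw [hn, show w⁻¹ * n₁ * v * (w⁻¹ * n₁)⁻¹ = w⁻¹ * (n₁ * v * n₁⁻¹) * w by group, ← hi, ← hwt]
    group
  -- the image of `t`
  set j := n * t * n⁻¹ with hj
  have hjt : j * t = t * j := by
    conv_lhs => rw [← hnv]
    conv_rhs => rw [← hnv]
    rw [hj]
    calc n * t * n⁻¹ * (n * v * n⁻¹) = n * (t * v) * n⁻¹ := by group
      _ = n * (v * t) * n⁻¹ := by rw [hvc]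
      _ = n * v * n⁻¹ * (n * t * n⁻¹) := by group
  have hjj : j * j = 1 := by
    rw [hj, show n * t * n⁻¹ * (n * t * n⁻¹) = n * (t * t) * n⁻¹ by group, D.tt]; group
  have hj1 : j ≠ 1 := fun h => D.t1 (conj_eq_one_iff.1 h)
  have hjne : j ≠ t := fun h => hvt (mul_left_cancel (mul_right_cancel (hnv.trans h.symm)))
  obtain ⟨k, hkK, hjk⟩ := D.split j hjt
  have hkk : k * k = 1 := by
    rcases hjk with h | h
    · rw [← h]; exact hjj
    · rw [h, show t * k * (t * k) = t * (k * t) * k by group, ← D.comm k hkK,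
        show t * (t * k) * k = (t * t) * (k * k) by group, D.tt, one_mul] at hjj
      exact hjj
  have hk1 : k ≠ 1 := fun h => by
    rw [h, mul_one] at hjk
    exact hjk.elim hj1 hjne
  have hjN : j ∈ normalizer (P : Set G) := mul_mem (mul_mem hnN htN) (inv_mem hnN)
  have hkN : k ∈ normalizer (P : Set G) := by
    rcases hjk with h | h
    · rw [← h]; exact hjN
    · rw [show k = t⁻¹ * j by rw [h]; group]; exact mul_mem (inv_mem htN) hjN
  have hfixH : ∀ a ∈ P, a * t = t * a → a ∈ H := fun a ha hat => PD.Ofix a (PD.PO ha) hat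
  have hkh : k * h₀ * k⁻¹ ∈ H := hfixH _ ((mem_normalizer_iff.1 hkN h₀).1 PD.h0P)
    (((show Commute k t from (D.comm k hkK).symm).mul_left (show Commute h₀ t from hth)).mul_left
      (show Commute k t from (D.comm k hkK).symm).inv_left).eq
  have ha : k * s ∈ H := (D.Hnorm h₀ h0H (D.h0_ne h0H h0p) k hkK hkh).resolve_left
    fun h => hk1 (eq_one_of_odd_sq (D.odd_H h) hkk)
  obtain ⟨l, hl, hll⟩ := exists_root (D.odd_H ha)
  have hlH : l ∈ H := zpowers_le.2 ha hl
  have hlN : l ∈ normalizer (P : Set G) := zpowers_le.2 (mul_mem hkN hsN) hl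
  have hlk : l⁻¹ * k * l = s := by
    have hsl : s * l⁻¹ * s⁻¹ = l := by rw [D.sH _ (inv_mem hlH), inv_inv]
    have hks : k = k * s * s := by rw [mul_assoc, D.ss, mul_one]
    rw [hks, ← hll, show l⁻¹ * (l * l * s) * l = l * (s * l⁻¹ * s⁻¹)⁻¹ * s by group, hsl, mul_inv_cancel, one_mul]
  set n' := l⁻¹ * n with hn'
  have hn'N : n' ∈ normalizer (P : Set G) := mul_mem (inv_mem hlN) hnN
  have hn'v : n' * v * n'⁻¹ = t := by
    rw [hn', show l⁻¹ * n * v * (l⁻¹ * n)⁻¹ = l⁻¹ * (n * v * n⁻¹) * l by group, hnv, mul_assoc,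
      D.comm l (D.HK hlH), inv_mul_cancel_left]
  have hn't : n' * t * n'⁻¹ = v ∨ n' * t * n'⁻¹ = t * v := by
    have h : n' * t * n'⁻¹ = s ∨ n' * t * n'⁻¹ = t * s := by
      rw [hn', show l⁻¹ * n * t * (l⁻¹ * n)⁻¹ = l⁻¹ * (n * t * n⁻¹) * l by group, ← hj]
      rcases hjk with h | h
      · left; rw [h, hlk]
      · right
        rw [h, show l⁻¹ * (t * k) * l = (l⁻¹ * t) * (k * l) by group,
          show l⁻¹ * t = t * l⁻¹ from ((show Commute t l from D.comm l (D.HK hlH)).inv_right).symm.eq,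
          show t * l⁻¹ * (k * l) = t * (l⁻¹ * k * l) by group, hlk]
    rcases hv with rfl | rfl
    · exact h
    · rcases h with h | h
      · right; rw [h, ← mul_assoc, D.tt, one_mul]
      · left; exact h
  have htvv : t * v * (t * v) = 1 := by
    rw [show t * v * (t * v) = t * (v * t) * v by group, hvc, show t * (t * v) * v = (t * t) * (v * v) by group,
      D.tt, hvv, one_mul]
  rcases hn't with hswap | hcyc
  · -- a transposition would give a non-abelian `2`-group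
    obtain ⟨a, b, -, hb, hab, ⟨e, he⟩, hbo⟩ := Cfsg.Lib.Transfer.exists_pPart 2 n'
    have hbt : b * t * b⁻¹ = t ∧ b * v * b⁻¹ = v := by
      have hbsq : b ∈ zpowers (n' * n') := by
        obtain ⟨i, hi⟩ := mem_zpowers_iff.1 hb
        have h2 : b * b ∈ zpowers (n' * n') :=
          mem_zpowers_iff.2 ⟨i, by rw [← hi, (Commute.refl n').mul_zpow]⟩
        exact zpowers_le.2 h2 (mem_zpowers_sq (Nat.coprime_two_right.1 hbo))
      have hfix : ∀ x, n' * n' * x * (n' * n')⁻¹ = x → b * x * b⁻¹ = x := fun x hx => by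
        have h1 : zpowers (n' * n') ≤ centralizer ({x} : Set G) :=
          zpowers_le.2 (mem_centralizer_singleton_iff.2 (mul_inv_eq_iff_eq_mul.1 hx))
        exact mul_inv_eq_iff_eq_mul.2 (mem_centralizer_singleton_iff.1 (h1 hbsq))
      refine ⟨hfix t ?_, hfix v ?_⟩
      · rw [show n' * n' * t * (n' * n')⁻¹ = n' * (n' * t * n'⁻¹) * n'⁻¹ by group, hswap, hn'v]
      · rw [show n' * n' * v * (n' * n')⁻¹ = n' * (n' * v * n'⁻¹) * n'⁻¹ by group, hn'v, hswap]
    have hat : a * t * a⁻¹ = v := by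
      rw [← hswap, ← hab]
      conv_lhs => rw [← hbt.1]
      group
    have hav : a * v * a⁻¹ = t := by
      rw [← hn'v, ← hab]
      conv_lhs => rw [← hbt.2]
      group
    obtain ⟨A, htA, hsA, hA2, -, -, hAel⟩ := D.exists_four
    have hvA : v ∈ A := by
      rcases hv with rfl | rfl
      exacts [hsA, mul_mem htA hsA]
    have haA : a ∈ normalizer (A : Set G) := mem_normalizer_of_forall fun x hx => by
      have hx' : x = 1 ∨ x = t ∨ x = v ∨ x = t * v := by
        rcases hAel x hx with h | h | h | h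
        · exact Or.inl h
        · exact Or.inr (Or.inl h)
        · rcases hv with rfl | rfl
          · exact Or.inr (Or.inr (Or.inl h))
          · exact Or.inr (Or.inr (Or.inr (by rw [h, ← mul_assoc, D.tt, one_mul])))
        · rcases hv with rfl | rfl
          · exact Or.inr (Or.inr (Or.inr h))
          · exact Or.inr (Or.inr (Or.inl h))
      rcases hx' with h | h | h | h <;> rw [h]
      · rw [mul_one, mul_inv_cancel]; exact A.one_mem
      · rw [hat]; exact hvA
      · rw [hav]; exact htA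
      · rw [show a * (t * v) * a⁻¹ = (a * t * a⁻¹) * (a * v * a⁻¹) by group, hat, hav]; exact mul_mem hvA htA
    have hP2 : IsPGroup 2 ↥(zpowers a ⊔ A) :=
      (IsPGroup.of_card (n := e) (by rw [Nat.card_zpowers, he])).to_sup_of_normal_right' hA2 (zpowers_le.2 haA)
    have hcomm := D.two_comm hP2 (mem_sup_left (mem_zpowers a)) (mem_sup_right htA)
    rw [hcomm, mul_inv_cancel_right] at hat
    exact hvt hat.symm
  · -- a cycle of length three
    have hn'tv : n' * (t * v) * n'⁻¹ = v := by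
      rw [show n' * (t * v) * n'⁻¹ = (n' * t * n'⁻¹) * (n' * v * n'⁻¹) by group, hcyc, hn'v, mul_assoc, hvc,
        ← mul_assoc, D.tt, one_mul]
    obtain ⟨x, b, hx, hb, hxb, ⟨e, he⟩, hbo⟩ := Cfsg.Lib.Transfer.exists_pPart 3 n'
    have hb3 : b ∈ zpowers (n' ^ 3) := by
      obtain ⟨i, hi⟩ := mem_zpowers_iff.1 hb
      have h3 : b ^ 3 ∈ zpowers (n' ^ 3) := mem_zpowers_iff.2 ⟨i, by
        rw [← hi, ← zpow_natCast, ← zpow_natCast, ← _root_.zpow_mul, ← _root_.zpow_mul, mul_comm]⟩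
      exact zpowers_le.2 h3 (mem_zpowers_pow_iff.2 hbo.symm)
    have hfix : ∀ y, n' ^ 3 * y * (n' ^ 3)⁻¹ = y → b * y * b⁻¹ = y := fun y hy => by
      have h1 : zpowers (n' ^ 3) ≤ centralizer ({y} : Set G) :=
        zpowers_le.2 (mem_centralizer_singleton_iff.2 (mul_inv_eq_iff_eq_mul.1 hy))
      exact mul_inv_eq_iff_eq_mul.2 (mem_centralizer_singleton_iff.1 (h1 hb3))
    have h3e : ∀ y, n' ^ 3 * y * (n' ^ 3)⁻¹ = n' * (n' * (n' * y * n'⁻¹) * n'⁻¹) * n'⁻¹ := fun y => by
      simp only [pow_succ, pow_zero, one_mul]; group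
    have hbt : b * t * b⁻¹ = t := hfix t (by rw [h3e, hcyc, hn'tv, hn'v])
    have hbtv : b * (t * v) * b⁻¹ = t * v := hfix _ (by rw [h3e, hn'tv, hn'v, hcyc])
    have hxt : x * t * x⁻¹ = t * v := by
      rw [← hcyc, ← hxb]
      conv_lhs => rw [← hbt]
      group
    have hxv : x * (t * v) * x⁻¹ = t * (t * v) := by
      rw [← mul_assoc t t, D.tt, one_mul]
      refine Eq.trans ?_ hn'tv
      rw [← hxb]
      conv_lhs => rw [← hbtv]
      group
    have hv' : t * v = s ∨ t * v = t * s := by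
      rcases hv with rfl | rfl
      · exact Or.inr rfl
      · exact Or.inl (by rw [← mul_assoc, D.tt, one_mul])
    refine D.no_cycle hv' (D.three_elt he) hxt hxv h0H (D.h0_ne h0H h0p) ?_
    have hxN : x ∈ normalizer (P : Set G) := zpowers_le.2 hn'N hx
    exact (D.P_comm_h0 h0H h0p PD ((mem_normalizer_iff.1 hxN h₀).1 PD.h0P)).symm

end Cycle

end Cfsg.Lib.ReeThree
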