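import Cfsg.Agent.GoldschmidtSFour.Basic

/-!
Two transvections on an elementary abelian group of order `p²` give a section `S₃`.
-/

set_option autoImplicit false
set_option linter.style.haveILetI false
set_option linter.unusedSectionVars false

namespace Cfsg.Lib.ReeThree

open Subgroup
open Polynomial (C X)

universe u

variable {G : Type u} [Group G]

theorem pow_val_add {p : ℕ} [NeZero p] {h : G} (hh : h ^ p = 1) (a b : ZMod p) :
    h ^ (a + b).val = h ^ a.val * h ^ b.val := by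
  rw [← pow_add, ZMod.val_add, ← pow_eq_pow_mod _ hh]

theorem pow_val_natCast {p : ℕ} [NeZero p] {h : G} (hh : h ^ p = 1) (n : ℕ) :
    h ^ (n : ZMod p).val = h ^ n := by
  rw [ZMod.val_natCast, ← pow_eq_pow_mod _ hh]

theorem exists_quadratic_neg_one {p : ℕ} [Fact p.Prime] (hp2 : p ≠ 2) (hp3 : p ≠ 3) :
    ∃ α β : ZMod p, α * α + α * β + β * β = -1 ∧ α + β ≠ 0 := by
  have hodd : p % 2 = 1 := (Nat.Prime.eq_two_or_odd (Fact.out : p.Prime)).resolve_left hp2
  have h2 : (2 : ZMod p) ≠ 0 := by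
    intro h
    have h' : ((2 : ℕ) : ZMod p) = 0 := by exact_mod_cast h
    rw [ZMod.natCast_eq_zero_iff] at h'
    exact hp2 ((Nat.prime_dvd_prime_iff_eq Fact.out Nat.prime_two).1 h')
  have h3 : (3 : ZMod p) ≠ 0 := by
    intro h
    have h' : ((3 : ℕ) : ZMod p) = 0 := by exact_mod_cast h
    rw [ZMod.natCast_eq_zero_iff] at h'
    exact hp3 ((Nat.prime_dvd_prime_iff_eq Fact.out Nat.prime_three).1 h')
  obtain ⟨a, b, hab⟩ := FiniteField.exists_root_sum_quadratic (R := ZMod p) (f := (X : Polynomial (ZMod p)) ^ 2)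
    (g := C (3 : ZMod p) * X ^ 2 + C (4 : ZMod p)) (Polynomial.degree_X_pow 2)
    (by
      rw [Polynomial.degree_add_eq_left_of_degree_lt] <;> rw [Polynomial.degree_C_mul_X_pow 2 h3]
      · rfl
      · exact lt_of_le_of_lt Polynomial.degree_C_le (by decide))
    (by rw [ZMod.card, hodd])
  simp at hab
  have key : ∀ α β : ZMod p, α * α + α * β + β * β = -1 → ∃ α β : ZMod p, α * α + α * β + β * β = -1 ∧ α + β ≠ 0 := by
    intro α β h
    by_cases hs : α + β = 0
    · refine ⟨α + β, -α, by linear_combination h, fun h' => ?_⟩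
      have hβ : β = 0 := by linear_combination h'
      have hα : α = 0 := by linear_combination hs - hβ
      rw [hα, hβ] at h
      simp at h
    · exact ⟨α, β, h, hs⟩
  refine key ((a - b) / 2) b ?_
  field_simp
  linear_combination hab

/-- Two independent transvections give a section `S₃`. -/
theorem involves_three_of_transvections [Finite G] {p : ℕ} [Fact p.Prime] (hp2 : p ≠ 2) (hp3 : p ≠ 3)
    {h a x y : G} (hh : h ^ p = 1) (ha : a ^ p = 1) (hcomm : h * a = a * h) (hne : a ≠ h)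
    {i j : ℕ} (hi : ¬ p ∣ i) (hj : ¬ p ∣ j)
    (hya : y * a * y⁻¹ = a) (hyh : y * h * y⁻¹ = h * a ^ i)
    (hxh : x * h * x⁻¹ = h) (hxa : x * a * x⁻¹ = a * h ^ j) :
    Cfsg.Involves (Equiv.Perm (Fin 3)) G := by
  classical
  haveI : Fact (Nat.Prime 3) := ⟨Nat.prime_three⟩
  haveI : NeZero p := ⟨(Fact.out : p.Prime).ne_zero⟩
  let φ : ZMod p → ZMod p → G := fun u w => h ^ u.val * a ^ w.val
  have hφmul : ∀ u w u' w', φ u w * φ u' w' = φ (u + u') (w + w') := by
    intro u w u' w'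
    simp only [φ, pow_val_add hh, pow_val_add ha]
    exact (Commute.pow_pow (show Commute a h from hcomm.symm) w.val u'.val).mul_mul_mul_comm _ _
  let E : Subgroup G :=
    { carrier := {e | ∃ u w, φ u w = e}
      one_mem' := ⟨0, 0, by simp [φ]⟩
      mul_mem' := by
        rintro _ _ ⟨u, w, rfl⟩ ⟨u', w', rfl⟩
        exact ⟨_, _, (hφmul u w u' w').symm⟩
      inv_mem' := by
        rintro _ ⟨u, w, rfl⟩
        refine ⟨-u, -w, eq_inv_of_mul_eq_one_left ?_⟩
        rw [hφmul, neg_add_cancel, neg_add_cancel]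
        simp [φ] }
  -- transvections and their products
  let Acts : G → (ZMod p → ZMod p → ZMod p × ZMod p) → Prop := fun g f =>
    ∀ u w, g * φ u w * g⁻¹ = φ (f u w).1 (f u w).2
  have hy1 : ∀ n : ℕ, Acts (y ^ n) fun u w => (u, w + (n : ZMod p) * (i : ZMod p) * u) := by
    intro n
    induction n with
    | zero => intro u w; simp
    | succ n ih =>
      intro u w
      have hb : ∀ u w : ZMod p, y * φ u w * y⁻¹ = φ u (w + (i : ZMod p) * u) := by
        intro u w
        simp only [φ, pow_val_add ha]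
        rw [conj_mul.symm, ← conj_pow, ← conj_pow, hyh, hya, (show Commute h (a ^ i) from
          Commute.pow_right hcomm i).mul_pow]
        rw [show (a ^ i) ^ u.val = a ^ ((i : ZMod p) * u).val by
          rw [← pow_mul, ← pow_val_natCast ha, Nat.cast_mul, ZMod.natCast_zmod_val]]
        rw [mul_assoc, ← pow_add, ← pow_add, Nat.add_comm]
      rw [pow_succ', show y * y ^ n * φ u w * (y * y ^ n)⁻¹ = y * (y ^ n * φ u w * (y ^ n)⁻¹) * y⁻¹ by group,
        ih u w, hb]
      push_cast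
      congr 1
      ring
  have hx1 : ∀ n : ℕ, Acts (x ^ n) fun u w => (u + (n : ZMod p) * (j : ZMod p) * w, w) := by
    intro n
    induction n with
    | zero => intro u w; simp
    | succ n ih =>
      intro u w
      have hb : ∀ u w : ZMod p, x * φ u w * x⁻¹ = φ (u + (j : ZMod p) * w) w := by
        intro u w
        simp only [φ, pow_val_add hh]
        rw [conj_mul.symm, ← conj_pow, ← conj_pow, hxh, hxa,
          (show Commute a (h ^ j) from Commute.pow_right hcomm.symm j).mul_pow]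
        rw [show (h ^ j) ^ w.val = h ^ ((j : ZMod p) * w).val by
          rw [← pow_mul, ← pow_val_natCast hh, Nat.cast_mul, ZMod.natCast_zmod_val]]
        rw [(Commute.pow_pow (show Commute a h from hcomm.symm) _ _).eq, mul_assoc]
      rw [pow_succ', show x * x ^ n * φ u w * (x * x ^ n)⁻¹ = x * (x ^ n * φ u w * (x ^ n)⁻¹) * x⁻¹ by group,
        ih u w, hb]
      push_cast
      congr 1
      ring
  have hi0 : (i : ZMod p) ≠ 0 := fun e => hi ((ZMod.natCast_eq_zero_iff _ _).1 e)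
  have hj0 : (j : ZMod p) ≠ 0 := fun e => hj ((ZMod.natCast_eq_zero_iff _ _).1 e)
  have hlow : ∀ c : ZMod p, ∃ g, Acts g fun u w => (u, w + c * u) := fun c =>
    ⟨y ^ (c / (i : ZMod p)).val, fun u w => by
      rw [hy1 _ u w, ZMod.natCast_zmod_val, div_mul_cancel₀ c hi0]⟩
  have hupp : ∀ c : ZMod p, ∃ g, Acts g fun u w => (u + c * w, w) := fun c =>
    ⟨x ^ (c / (j : ZMod p)).val, fun u w => by
      rw [hx1 _ u w, ZMod.natCast_zmod_val, div_mul_cancel₀ c hj0]⟩
  have hgen : ∀ A B C D : ZMod p, C ≠ 0 → A * D - B * C = 1 →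
      ∃ g, Acts g fun u w => (A * u + B * w, C * u + D * w) := by
    intro A B C D hC hdet
    obtain ⟨g₁, hg₁⟩ := hupp ((A - 1) / C)
    obtain ⟨g₂, hg₂⟩ := hlow C
    obtain ⟨g₃, hg₃⟩ := hupp ((D - 1) / C)
    refine ⟨g₁ * g₂ * g₃, fun u w => ?_⟩
    rw [show g₁ * g₂ * g₃ * φ u w * (g₁ * g₂ * g₃)⁻¹ = g₁ * (g₂ * (g₃ * φ u w * g₃⁻¹) * g₂⁻¹) * g₁⁻¹ by group,
      hg₃ u w, hg₂ _ _, hg₁ _ _]
    congr 1
    · field_simp
      linear_combination w * hdet
    · field_simp
      ring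
  obtain ⟨α, β, hαβ, hsum⟩ := exists_quadratic_neg_one (p := p) hp2 hp3
  obtain ⟨gC, hC⟩ := hgen 0 (-1) 1 (-1) one_ne_zero (by ring)
  obtain ⟨gA, hA⟩ := hgen α β (α + β) (-α) hsum (by linear_combination -hαβ)
  have hnorm : ∀ g f, Acts g f → g ∈ normalizer (E : Set G) := by
    intro g f hg
    refine mem_normalizer_iff.2 fun e => ?_
    have hfin : Function.Injective (fun e : E => (⟨g * e * g⁻¹, by
        obtain ⟨u, w, he⟩ := e.2
        exact ⟨_, _, by rw [← he, hg u w]⟩⟩ : E)) := fun e e' h' =>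
      Subtype.ext ((MulAut.conj g).injective (congrArg Subtype.val h'))
    constructor
    · rintro ⟨u, w, rfl⟩
      exact ⟨_, _, (hg u w).symm⟩
    · intro he
      obtain ⟨e', he'⟩ := (Finite.injective_iff_surjective.1 hfin) ⟨_, he⟩
      have : (e' : G) = e := (MulAut.conj g).injective (congrArg Subtype.val he')
      exact this ▸ e'.2
  let c : normalizer (E : Set G) := ⟨gC, hnorm _ _ hC⟩
  let d : normalizer (E : Set G) := ⟨gA, hnorm _ _ hA⟩
  set ψ := E.normalizerMonoidHom with hψ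
  have hext : ∀ n n' : normalizer (E : Set G),
      (∀ u w, (n : G) * φ u w * (n : G)⁻¹ = (n' : G) * φ u w * (n' : G)⁻¹) → ψ n = ψ n' := fun n n' h' => by
    refine MulEquiv.ext fun e => Subtype.ext ?_
    obtain ⟨u, w, he⟩ := e.2
    show (n : G) * e * (n : G)⁻¹ = (n' : G) * e * (n' : G)⁻¹
    rw [← he]
    exact h' u w
  have hc3 : ψ c ^ 3 = 1 := by
    rw [← map_pow, ← map_one ψ]
    refine hext _ _ fun u w => ?_
    rw [show ((c ^ 3 : normalizer (E : Set G)) : G) * φ u w * ((c ^ 3 : normalizer (E : Set G)) : G)⁻¹ =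
      gC * (gC * (gC * φ u w * gC⁻¹) * gC⁻¹) * gC⁻¹ by
      simp only [c, pow_succ, pow_zero, one_mul, Subgroup.coe_mul]; group]
    rw [hC, hC, hC]
    simp only [OneMemClass.coe_one, one_mul, inv_one, mul_one]
    congr 1 <;> ring
  have hc1 : ψ c ≠ 1 := by
    intro h'
    have hhE : φ 1 0 = h := by simp [φ, ZMod.val_one]
    have he := congrArg (fun f : MulAut E => ((f ⟨φ 1 0, 1, 0, rfl⟩ : E) : G)) h'
    have he' : gC * φ 1 0 * gC⁻¹ = φ 1 0 := he
    rw [hC] at he'
    simp [φ, ZMod.val_one] at he'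
    exact hne he'
  have hrel : ψ d * ψ c * (ψ d)⁻¹ = (ψ c)⁻¹ := by
    refine mul_inv_eq_iff_eq_mul.2 (eq_inv_mul_iff_mul_eq.2 ?_)
    rw [← map_mul, ← map_mul]
    refine hext _ _ fun u w => ?_
    show gC * (gA * gC) * φ u w * (gC * (gA * gC))⁻¹ = gA * φ u w * gA⁻¹
    rw [show gC * (gA * gC) * φ u w * (gC * (gA * gC))⁻¹ =
      gC * (gA * (gC * φ u w * gC⁻¹) * gA⁻¹) * gC⁻¹ by group, hC, hA, hC, hA]
    congr 1 <;> ring
  have hinv : Cfsg.Involves (Equiv.Perm (Fin 3)) ψ.range :=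
    Cfsg.Lib.GoldschmidtSFour.involves_of_real
      (x := (⟨ψ d, ⟨d, rfl⟩⟩ : ψ.range)) (y := ⟨ψ c, ⟨c, rfl⟩⟩)
      (orderOf_eq_prime (Subtype.ext hc3) (fun e => hc1 (congrArg Subtype.val e))) (Subtype.ext hrel)
  exact Cfsg.Lib.QdFree.involves_of_injective (normalizer (E : Set G)).subtype_injective
    (Cfsg.Lib.QuadPair.involves_of_surjective ψ.rangeRestrict_surjective hinv)

end Cfsg.Lib.ReeThree
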