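import Cfsg.Agent.ReeInvolveThree.TorusCycle
import Cfsg.Agent.ReeInvolveThree.TransvectionPair

/-!
A group of Ree type without a section `S₃`: the `p`-part of the centraliser of a torus element,
second configuration.
-/

set_option autoImplicit false
set_option linter.style.haveILetI false
set_option linter.unusedSectionVars false

namespace Cfsg.Lib.ReeThree

open Subgroup

universe u

variable {G : Type u} [Group G]

/-- Iterated conjugation when the commutator is central. -/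
theorem conj_pow_of_central {a x c : G} (hx : a * x * a⁻¹ = c * x) (hac : a * c = c * a) :
    ∀ n : ℕ, a ^ n * x * (a ^ n)⁻¹ = c ^ n * x
  | 0 => by simp
  | n + 1 => by
    rw [pow_succ', show a * a ^ n * x * (a * a ^ n)⁻¹ = a * (a ^ n * x * (a ^ n)⁻¹) * a⁻¹ by group,
      conj_pow_of_central hx hac n, show a * (c ^ n * x) * a⁻¹ = (a * c ^ n * a⁻¹) * (a * x * a⁻¹) by group, hx,
      ((show Commute a c from hac).pow_right n).eq, mul_inv_cancel_right, ← mul_assoc, ← pow_succ]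

section Generate

variable [Finite G] {t s z : G} {K U H R : Subgroup G} {q m r : ℕ} (D : Frame t K q m r U H R s z)
  {h₀ : G} {p : ℕ} [hp : Fact p.Prime] (h0H : h₀ ∈ H) (h0p : orderOf h₀ = p) {O P : Subgroup G}
  (PD : PData t s H h₀ p O P)
include D h0H h0p PD

theorem Frame.P_v_inv {v : G} (hv : v = s ∨ v = t * s) {a : G} (ha : a ∈ P) : v * a * v⁻¹ ∈ P := by
  rcases hv with rfl | rfl
  · exact PD.Ps a ha
  · rw [show t * s * a * (t * s)⁻¹ = t * (s * a * s⁻¹) * t⁻¹ by group]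
    exact PD.Pt _ (PD.Ps a ha)

/-- The centre of `P` meets the centraliser of the other involutions trivially. -/
theorem Frame.center_fix {v b : G} (hv : v = s ∨ v = t * s) (hbP : b ∈ P) (hbc : ∀ x ∈ P, b * x = x * b)
    (hbv : b * v = v * b) : b = 1 := by
  by_contra hb1
  obtain ⟨n, hn⟩ := exists_pow_order PD.Pp hbP hb1
  exact D.no_central h0H h0p PD hv (pow_mem hbP n) (fun h => hp.out.one_lt.ne (by rw [← hn, h, orderOf_one]))
    (orderOf_dvd_iff_pow_eq_one.1 hn.dvd) ((show Commute b v from hbv).pow_left n).eq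
    (fun x hx => ((show Commute b x from hbc x hx).pow_left n).eq)

theorem Frame.center_le {b : G} (hbP : b ∈ P) (hbc : ∀ x ∈ P, b * x = x * b) : b * t = t * b ∧ b ∈ H := by
  have key : ∀ v, (v = s ∨ v = t * s) → v * b * v⁻¹ = b⁻¹ := by
    intro v hv
    obtain ⟨hvv, -, -, -, -, -⟩ := D.v_facts hv
    have hvbP := D.P_v_inv h0H h0p PD hv hbP
    have hvinv : v⁻¹ = v := inv_eq_of_mul_eq_one_right hvv
    have hcen : ∀ x ∈ P, v * b * v⁻¹ * x = x * (v * b * v⁻¹) := by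
      intro x hx
      have h' := hbc _ (D.P_v_inv h0H h0p PD hv hx)
      rw [hvinv] at h' ⊢
      calc v * b * v * x = v * (b * (v * x * v)) * v := by rw [show v * (b * (v * x * v)) * v = v * b * v * x * (v * v) by group, hvv, mul_one]
        _ = v * ((v * x * v) * b) * v := by rw [h']
        _ = (v * v) * x * (v * b * v) := by group
        _ = _ := by rw [hvv, one_mul]
    have h := D.center_fix h0H h0p PD hv (b := b * (v * b * v⁻¹)) (mul_mem hbP hvbP)
      (fun x hx => ((show Commute b x from hbc x hx).mul_left (hcen x hx)).eq) (by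
        have hc : b * (v * b * v⁻¹) = v * b * v⁻¹ * b := hbc _ hvbP
        calc b * (v * b * v⁻¹) * v = b * v * b := by group
          _ = (v * v) * (b * v * b) := by rw [hvv, one_mul]
          _ = v * (v * b * v⁻¹ * (v * v) * b) := by group
          _ = v * (v * b * v⁻¹ * b) := by rw [hvv, mul_one]
          _ = v * (b * (v * b * v⁻¹)) := by rw [← hc])
    exact eq_inv_of_mul_eq_one_right h
  have h1 := key s (Or.inl rfl)
  have h2 := key (t * s) (Or.inr rfl)
  have ht : t * b * t⁻¹ = b := by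
    rw [show t * b * t⁻¹ = t * s * (s⁻¹ * b * s) * (t * s)⁻¹ by group,
      show s⁻¹ * b * s = s * b * s⁻¹ by rw [inv_eq_of_mul_eq_one_right D.ss], h1,
      show t * s * b⁻¹ * (t * s)⁻¹ = (t * s * b * (t * s)⁻¹)⁻¹ by group, h2, inv_inv]
  have hbt : b * t = t * b := (mul_inv_eq_iff_eq_mul.1 ht).symm
  exact ⟨hbt, PD.Ofix b (PD.PO hbP) hbt⟩

/-- Conjugation inverts or centralises commutators. -/
theorem Frame.exists_a : ∃ (v a : G), (v = s ∨ v = t * s) ∧ a ∈ P ∧ a * v = v * a ∧ a ^ p = 1 ∧ a ≠ 1 ∧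
    ∀ x ∈ P, ∀ y ∈ P, a * x * a⁻¹ * x⁻¹ * y = y * (a * x * a⁻¹ * x⁻¹) := by
  classical
  obtain ⟨a₀, ha₀, ha₀H⟩ := PD.big
  obtain ⟨A, htA, hsA, hA2, hAcomm, hAcyc, hAel⟩ := D.exists_four
  set Zp : Subgroup G := P ⊓ centralizer (P : Set G) with hZp
  have hZmem : ∀ c, c ∈ Zp ↔ c ∈ P ∧ ∀ x ∈ P, c * x = x * c := fun c => by
    rw [hZp, mem_inf]
    exact and_congr_right fun _ => ⟨fun h x hx => (mem_centralizer_iff.1 h x hx).symm,
      fun h => mem_centralizer_iff.2 fun x hx => (h x hx).symm⟩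
  -- the second centre
  let Q₂ : Subgroup G :=
    { carrier := {a | a ∈ P ∧ ∀ x ∈ P, a * x * a⁻¹ * x⁻¹ ∈ Zp}
      one_mem' := ⟨one_mem _, fun x _ => by
        rw [one_mul, inv_one, mul_one, mul_inv_cancel]; exact Zp.one_mem⟩
      mul_mem' := by
        rintro a b ⟨ha, ha'⟩ ⟨hb, hb'⟩
        refine ⟨mul_mem ha hb, fun x hx => ?_⟩
        have hc := ((hZmem _).1 (hb' x hx)).2 a ha
        rw [show a * b * x * (a * b)⁻¹ * x⁻¹ = (a * (b * x * b⁻¹ * x⁻¹)) * (x * a⁻¹ * x⁻¹) by group, ← hc,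
          show b * x * b⁻¹ * x⁻¹ * a * (x * a⁻¹ * x⁻¹) = (b * x * b⁻¹ * x⁻¹) * (a * x * a⁻¹ * x⁻¹) by group]
        exact mul_mem (hb' x hx) (ha' x hx)
      inv_mem' := by
        rintro a ⟨ha, ha'⟩
        refine ⟨inv_mem ha, fun x hx => ?_⟩
        have h1 := (hZmem _).1 (inv_mem (ha' x hx))
        have h2 := h1.2 a ha
        rw [show a⁻¹ * x * a⁻¹⁻¹ * x⁻¹ = a⁻¹ * ((a * x * a⁻¹ * x⁻¹)⁻¹ * a) by group, h2, inv_mul_cancel_left]
        exact inv_mem (ha' x hx) }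
  have hAP : ∀ w ∈ A, ∀ a ∈ P, w * a * w⁻¹ ∈ P := by
    intro w hw a ha
    rcases hAel w hw with rfl | rfl | rfl | rfl
    · rwa [one_mul, inv_one, mul_one]
    · exact PD.Pt a ha
    · exact PD.Ps a ha
    · exact D.P_v_inv h0H h0p PD (Or.inr rfl) ha
  have hAZ : ∀ w ∈ A, ∀ c ∈ Zp, w * c * w⁻¹ ∈ Zp := by
    intro w hw c hc
    refine (hZmem _).2 ⟨hAP w hw c ((hZmem c).1 hc).1, fun x hx => ?_⟩
    have h := ((hZmem c).1 hc).2 _ (hAP w⁻¹ (inv_mem hw) x hx)
    rw [inv_inv] at h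
    calc w * c * w⁻¹ * x = w * (c * (w⁻¹ * x * w)) * w⁻¹ := by group
      _ = w * (w⁻¹ * x * w * c) * w⁻¹ := by rw [h]
      _ = x * (w * c * w⁻¹) := by group
  have hAQ : A ≤ normalizer (Q₂ : Set G) := fun w hw => mem_normalizer_of_forall fun a ha => by
    refine ⟨hAP w hw a ha.1, fun x hx => ?_⟩
    have hx' : w⁻¹ * x * w ∈ P := by
      have := hAP w⁻¹ (inv_mem hw) x hx
      rwa [inv_inv] at this
    rw [show w * a * w⁻¹ * x * (w * a * w⁻¹)⁻¹ * x⁻¹ =
      w * (a * (w⁻¹ * x * w) * a⁻¹ * (w⁻¹ * x * w)⁻¹) * w⁻¹ by group]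
    exact hAZ w hw _ (ha.2 _ hx')
  have hQP : Q₂ ≤ P := fun a ha => ha.1
  have hQ₂p : IsPGroup p Q₂ := PD.Pp.to_le hQP
  haveI := hAcomm
  have hcop : (Nat.card A).Coprime (Nat.card Q₂) := by
    obtain ⟨e, he⟩ := hA2.exists_card_eq
    obtain ⟨f, hf⟩ := hQ₂p.exists_card_eq
    rw [he, hf]
    exact ((Nat.coprime_primes Nat.prime_two hp.out).2 (D.p_ne h0H h0p).1.symm).pow e f
  have hjoin := Cfsg.Lib.Coprime.join_qgroup hAcyc hAQ hcop hQ₂p
  -- the second centre is not in the centre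
  have hnot : ¬ Q₂ ≤ Zp := by
    intro hle
    haveI : Nontrivial P := ⟨⟨⟨a₀, ha₀⟩, 1, fun h => ha₀H (by
      rw [show a₀ = 1 from congrArg Subtype.val h]; exact H.one_mem)⟩⟩
    haveI : Nontrivial ((P : Subgroup G) ⧸ center P) := by
      refine QuotientGroup.nontrivial_iff.2 fun h => ha₀H ?_
      have hm : (⟨a₀, ha₀⟩ : P) ∈ center P := h ▸ mem_top _
      exact (D.center_le h0H h0p PD ha₀ fun x hx =>
        (congrArg Subtype.val (mem_center_iff.1 hm ⟨x, hx⟩)).symm).2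
    haveI := (PD.Pp.to_quotient (center P)).center_nontrivial
    obtain ⟨e, he, he1⟩ := (Subgroup.bot_or_exists_ne_one (center (P ⧸ center P))).resolve_left
      ((nontrivial_iff_ne_bot _).1 inferInstance)
    obtain ⟨a, rfl⟩ := QuotientGroup.mk_surjective e
    refine he1 ((QuotientGroup.eq_one_iff a).2 (mem_center_iff.2 fun x => ?_))
    have haQ : (a : G) ∈ Q₂ := by
      refine ⟨a.2, fun x hx => (hZmem _).2 ⟨mul_mem (mul_mem (mul_mem a.2 hx) (inv_mem a.2)) (inv_mem hx), fun y hy => ?_⟩⟩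
      have hmem : a * ⟨x, hx⟩ * a⁻¹ * (⟨x, hx⟩ : P)⁻¹ ∈ center P := by
        refine (QuotientGroup.eq_one_iff _).1 ?_
        rw [QuotientGroup.mk_mul, QuotientGroup.mk_mul, QuotientGroup.mk_mul, QuotientGroup.mk_inv, QuotientGroup.mk_inv,
          ← mem_center_iff.1 he, mul_inv_cancel_right, mul_inv_cancel]
      exact (congrArg Subtype.val (mem_center_iff.1 hmem ⟨y, hy⟩)).symm
    exact Subtype.ext (((hZmem _).1 (hle haQ)).2 x x.2).symm
  -- an element outside
  obtain ⟨w, hw, a, haQ, haw, haZ⟩ : ∃ w ∈ {w : G | w ∈ A ∧ w ≠ 1}, ∃ a ∈ Q₂, a * w = w * a ∧ a ∉ Zp := by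
    by_contra! hcon
    refine hnot (hjoin.trans (iSup₂_le fun w hw a ha => ?_))
    exact hcon w hw a (mem_inf.1 ha).1 (mem_centralizer_singleton_iff.1 (mem_inf.1 ha).2)
  have hfinal : ∀ v, (v = s ∨ v = t * s) → ∀ a ∈ Q₂, a * v = v * a → a ∉ Zp →
      ∃ (v a : G), (v = s ∨ v = t * s) ∧ a ∈ P ∧ a * v = v * a ∧ a ^ p = 1 ∧ a ≠ 1 ∧
        ∀ x ∈ P, ∀ y ∈ P, a * x * a⁻¹ * x⁻¹ * y = y * (a * x * a⁻¹ * x⁻¹) := by
    intro v hv a haQ hav haZ
    obtain ⟨n, hn⟩ := exists_pow_order PD.Pp haQ.1 (fun h => haZ (h ▸ Zp.one_mem))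
    refine ⟨v, a ^ n, hv, pow_mem haQ.1 n, ((show Commute a v from hav).pow_left n).eq,
      orderOf_dvd_iff_pow_eq_one.1 hn.dvd, fun h => hp.out.one_lt.ne (by rw [← hn, h, orderOf_one]), ?_⟩
    exact fun x hx y hy => ((hZmem _).1 ((pow_mem haQ n : a ^ n ∈ Q₂).2 x hx)).2 y hy
  rcases hAel w hw.1 with hw' | hw' | hw' | hw'
  · exact absurd hw' hw.2
  · -- centralised by `t`: central
    exfalso
    rw [hw'] at haw
    have haH : a ∈ H := PD.Ofix a (PD.PO haQ.1) haw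
    refine haZ ((hZmem a).2 ⟨haQ.1, fun x hx => ?_⟩)
    have hgen : P ≤ centralizer ({a} : Set G) := by
      have hcopP : (Nat.card A).Coprime (Nat.card P) := by
        obtain ⟨e, he⟩ := hA2.exists_card_eq
        obtain ⟨f, hf⟩ := PD.Pp.exists_card_eq
        rw [he, hf]
        exact ((Nat.coprime_primes Nat.prime_two hp.out).2 (D.p_ne h0H h0p).1.symm).pow e f
      refine (Cfsg.Lib.Coprime.join_qgroup hAcyc (fun w hw => mem_normalizer_of_forall (hAP w hw)) hcopP PD.Pp).trans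
        (iSup₂_le fun w hw x hx => ?_)
      have hxP := (mem_inf.1 hx).1
      have hxw := mem_centralizer_singleton_iff.1 (mem_inf.1 hx).2
      refine mem_centralizer_singleton_iff.2 ?_
      rcases hAel w hw.1 with h | h | hv
      · exact absurd h hw.2
      · rw [h] at hxw
        exact D.H_comm (PD.Ofix x (PD.PO hxP) hxw) haH
      · obtain ⟨hvv, hv1, -, hvc, hvH, -⟩ := D.v_facts hv
        -- `t` inverts the fixed points of `w`
        set S : Subgroup G := P ⊓ centralizer ({w} : Set G) with hS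
        have hSinv : ∀ y ∈ S, t * y * t⁻¹ ∈ S := fun y hy => mem_inf.2 ⟨PD.Pt y (mem_inf.1 hy).1,
          mem_centralizer_singleton_iff.2 (((show Commute t w from hvc.symm).mul_left
            (mem_centralizer_singleton_iff.1 (mem_inf.1 hy).2)).mul_left (show Commute t w from hvc.symm).inv_left).eq⟩
        have hinv := (fpf_inverts D.tt (S := S) hSinv fun y hy hyt => by
          have hyH := PD.Ofix y (PD.PO (mem_inf.1 hy).1) hyt
          have h := hvH y hyH
          rw [← mem_centralizer_singleton_iff.1 (mem_inf.1 hy).2, mul_inv_cancel_right] at h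
          exact eq_one_of_odd_sq (D.odd_H hyH) (eq_inv_iff_mul_eq_one.1 h)).1 x hx
        have hcen := haQ.2 x hxP
        set c := a * x * a⁻¹ * x⁻¹ with hc
        have hcP := (hZmem c).1 hcen
        obtain ⟨hct, hcH⟩ := D.center_le h0H h0p PD hcP.1 hcP.2
        have htc : t * c * t⁻¹ = c⁻¹ := by
          have hat : t * a * t⁻¹ = a := by rw [D.comm a (D.HK haH), mul_inv_cancel_right]
          rw [hc, show t * (a * x * a⁻¹ * x⁻¹) * t⁻¹ =
            (t * a * t⁻¹) * (t * x * t⁻¹) * (t * a * t⁻¹)⁻¹ * (t * x * t⁻¹)⁻¹ by group, hat, hinv, inv_inv,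
            show a * x⁻¹ * a⁻¹ * x = x⁻¹ * ((a * x * a⁻¹ * x⁻¹)⁻¹ * x) by group, ← hc,
            ((show Commute c x from hcP.2 x hxP).inv_left).eq, inv_mul_cancel_left]
        have hc1 := D.t_fix_inv (D.odd_H hcH) hct htc
        rw [hc, mul_inv_eq_one, mul_inv_eq_iff_eq_mul] at hc1
        exact hc1.symm
    exact (mem_centralizer_singleton_iff.1 (hgen hx)).symm
  · exact hfinal w (Or.inl hw') a haQ haw haZ
  · exact hfinal w (Or.inr hw') a haQ haw haZ

/-- There is no such subgroup `P`. -/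
theorem Frame.no_big : False := by
  classical
  haveI : Fact (Nat.Prime 2) := ⟨Nat.prime_two⟩
  obtain ⟨v, a, hv, haP, hav, hap, ha1, hcomm⟩ := D.exists_a h0H h0p PD
  obtain ⟨hvv, hv1, hvt, hvc, hvH, hviff⟩ := D.v_facts hv
  obtain ⟨hp2, hp3⟩ := D.p_ne h0H h0p
  have hpo := D.p_odd h0H h0p
  have hv' : t * v = s ∨ t * v = t * s := by
    rcases hv with rfl | rfl
    · exact Or.inr rfl
    · exact Or.inl (by rw [← mul_assoc, D.tt, one_mul])
  obtain ⟨hv'v, hv'1, -, hv'c, -, -⟩ := D.v_facts hv'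
  have hodd : ∀ e ∈ P, Odd (orderOf e) := fun e he => odd_of_pgroup hpo PD.Pp he
  -- `t` inverts `a`
  set S : Subgroup G := P ⊓ centralizer ({v} : Set G) with hS
  have hSinv : ∀ y ∈ S, t * y * t⁻¹ ∈ S := fun y hy => mem_inf.2 ⟨PD.Pt y (mem_inf.1 hy).1,
    mem_centralizer_singleton_iff.2 (((show Commute t v from hvc.symm).mul_left
      (mem_centralizer_singleton_iff.1 (mem_inf.1 hy).2)).mul_left (show Commute t v from hvc.symm).inv_left).eq⟩
  have hfixS : ∀ y, y ∈ P → y * v = v * y → y * t = t * y → y = 1 := fun y hy hyv hyt => by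
    have hyH := PD.Ofix y (PD.PO hy) hyt
    have h := hvH y hyH
    rw [← hyv, mul_inv_cancel_right] at h
    exact eq_one_of_odd_sq (hodd y hy) (eq_inv_iff_mul_eq_one.1 h)
  have hat : t * a * t⁻¹ = a⁻¹ := (fpf_inverts D.tt (S := S) hSinv fun y hy =>
    hfixS y (mem_inf.1 hy).1 (mem_centralizer_singleton_iff.1 (mem_inf.1 hy).2)).1 a
      (mem_inf.2 ⟨haP, mem_centralizer_singleton_iff.2 hav⟩)
  have haH : a ∉ H := fun h => ha1 (hfixS a haP hav (D.comm a (D.HK h)).symm)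
  have hah : a ∉ zpowers h₀ := fun h => haH (zpowers_le.2 h0H h)
  -- the commutators
  have hcP : ∀ x ∈ P, a * x * a⁻¹ * x⁻¹ ∈ P := fun x hx =>
    mul_mem (mul_mem (mul_mem haP hx) (inv_mem haP)) (inv_mem hx)
  have hciter : ∀ x ∈ P, ∀ n : ℕ, a ^ n * x * (a ^ n)⁻¹ = (a * x * a⁻¹ * x⁻¹) ^ n * x := fun x hx n =>
    conj_pow_of_central (by group) (hcomm x hx a haP).symm n
  have hcz : ∀ x ∈ P, a * x * a⁻¹ * x⁻¹ ∈ zpowers h₀ := fun x hx => by
    have h := hciter x hx p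
    rw [hap, one_mul, inv_one, mul_one, right_eq_mul] at h
    exact D.mem_hzero h0H h0p (D.center_le h0H h0p PD (hcP x hx) (fun y hy => hcomm x hx y hy)).2 h
  -- an element centralised by `t v` which does not commute with `a`
  obtain ⟨x, hxP, hxv, hxa⟩ : ∃ x ∈ P, x * (t * v) = t * v * x ∧ a * x ≠ x * a := by
    by_contra! hcon
    obtain ⟨A, htA, hsA, hA2, hAcomm, hAcyc, hAel⟩ := D.exists_four
    haveI := hAcomm
    have hAP : A ≤ normalizer (P : Set G) := fun w hw => mem_normalizer_of_forall fun b hb => by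
      rcases hAel w hw with rfl | rfl | rfl | rfl
      · rwa [one_mul, inv_one, mul_one]
      · exact PD.Pt b hb
      · exact PD.Ps b hb
      · exact D.P_v_inv h0H h0p PD (Or.inr rfl) hb
    have hcop : (Nat.card A).Coprime (Nat.card P) := by
      obtain ⟨e, he⟩ := hA2.exists_card_eq
      obtain ⟨f, hf⟩ := PD.Pp.exists_card_eq
      rw [he, hf]
      exact ((Nat.coprime_primes Nat.prime_two hp.out).2 hp2.symm).pow e f
    have hgen : P ≤ centralizer ({a} : Set G) := by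
      refine (Cfsg.Lib.Coprime.join_qgroup hAcyc hAP hcop PD.Pp).trans (iSup₂_le fun w hw y hy => ?_)
      have hyP := (mem_inf.1 hy).1
      have hyw := mem_centralizer_singleton_iff.1 (mem_inf.1 hy).2
      refine mem_centralizer_singleton_iff.2 ?_
      have hw' : w = t ∨ w = v ∨ w = t * v := by
        rcases hAel w hw.1 with h | h | h | h
        · exact absurd h hw.2
        · exact Or.inl h
        · rcases hv with hv | hv
          · exact Or.inr (Or.inl (h.trans hv.symm))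
          · exact Or.inr (Or.inr (by rw [h, hv, ← mul_assoc, D.tt, one_mul]))
        · rcases hv with hv | hv
          · exact Or.inr (Or.inr (by rw [h, hv]))
          · exact Or.inr (Or.inl (h.trans hv.symm))
      rcases hw' with h | h | h <;> rw [h] at hyw
      · -- `t` inverts and fixes the commutator
        set c := a * y * a⁻¹ * y⁻¹ with hc
        obtain ⟨hct, -⟩ := D.center_le h0H h0p PD (hcP y hyP) (fun e he => hcomm y hyP e he)
        have htc : t * c * t⁻¹ = c⁻¹ := by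
          have hyt : t * y * t⁻¹ = y := by rw [← hyw, mul_inv_cancel_right]
          rw [hc, show t * (a * y * a⁻¹ * y⁻¹) * t⁻¹ =
            (t * a * t⁻¹) * (t * y * t⁻¹) * (t * a * t⁻¹)⁻¹ * (t * y * t⁻¹)⁻¹ by group, hat, hyt,
            show a⁻¹ * y * a⁻¹⁻¹ * y⁻¹ = a⁻¹ * ((a * y * a⁻¹ * y⁻¹)⁻¹ * a) by group, ← hc,
            ((show Commute c a from hcomm y hyP a haP).inv_left).eq, inv_mul_cancel_left]
        have hc1 := D.t_fix_inv (hodd _ (hcP y hyP)) hct htc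
        rw [mul_inv_eq_one, mul_inv_eq_iff_eq_mul] at hc1
        exact hc1.symm
      · have hc1 : a * y * a⁻¹ * y⁻¹ = 1 := D.center_fix h0H h0p PD hv (hcP y hyP) (fun e he => hcomm y hyP e he)
          ((((show Commute a v from hav).mul_left hyw).mul_left (show Commute a v from hav).inv_left).mul_left
            (show Commute y v from hyw).inv_left).eq
        rw [mul_inv_eq_one, mul_inv_eq_iff_eq_mul] at hc1
        exact hc1.symm
      · exact (hcon y hyP hyw).symm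
    refine D.no_central h0H h0p PD hv haP ha1 hap hav fun y hy => ?_
    exact (mem_centralizer_singleton_iff.1 (hgen hy)).symm
  set c := a * x * a⁻¹ * x⁻¹ with hc
  have hc1 : c ≠ 1 := fun h => hxa (by rwa [hc, mul_inv_eq_one, mul_inv_eq_iff_eq_mul] at h)
  have hcgen : zpowers c = zpowers h₀ := zpowers_eq_of_order h0p (hcz x hxP) hc1
  have hh0x : h₀ * x = x * h₀ := (D.P_comm_h0 h0H h0p PD hxP).symm
  have hcp : c ^ p = 1 := by
    obtain ⟨i, hi⟩ := mem_zpowers_iff.1 (hcz x hxP : c ∈ zpowers h₀)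
    change h₀ ^ i = c at hi
    rw [← hi, ← zpow_natCast, ← _root_.zpow_mul, mul_comm, _root_.zpow_mul, zpow_natCast, ← h0p, pow_orderOf_eq_one,
      one_zpow]
  -- the centraliser of `a` in `P`
  set Q : Subgroup G := P ⊓ centralizer ({a} : Set G) with hQ
  have hQmem : ∀ e, e ∈ Q ↔ e ∈ P ∧ e * a = a * e := fun e => by
    rw [hQ, mem_inf, mem_centralizer_singleton_iff]
  have hxc : a * x * a⁻¹ = c * x := by rw [hc]; group
  have hdec : ∀ y ∈ P, ∃ (i : ℤ) (e : G), e ∈ Q ∧ y = e * x ^ i := by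
    intro y hy
    obtain ⟨i, hi⟩ := mem_zpowers_iff.1 (hcgen.symm ▸ hcz y hy : a * y * a⁻¹ * y⁻¹ ∈ zpowers c)
    refine ⟨i, y * (x ^ i)⁻¹, (hQmem _).2 ⟨mul_mem hy (inv_mem (zpow_mem hxP i)), ?_⟩, (inv_mul_cancel_right _ _).symm⟩
    have hcx : Commute c x := hcomm x hxP x hxP
    have hyy : a * y * a⁻¹ = c ^ i * y := by rw [hi]; group
    have hxi : a * x ^ i * a⁻¹ = c ^ i * x ^ i := by rw [← conj_zpow, hxc, hcx.mul_zpow]
    have hcy : Commute (c ^ i) y := (show Commute c y from hcomm x hxP y hy).zpow_left i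
    have h' : a * (y * (x ^ i)⁻¹) * a⁻¹ = y * (x ^ i)⁻¹ := by
      rw [show a * (y * (x ^ i)⁻¹) * a⁻¹ = (a * y * a⁻¹) * (a * x ^ i * a⁻¹)⁻¹ by group, hyy, hxi, hcy.eq,
        ((hcx.zpow_left i).zpow_right i).eq]
      group
    exact (mul_inv_eq_iff_eq_mul.1 h').symm
  have hxpQ : x ^ p ∈ Q := (hQmem _).2 ⟨pow_mem hxP p, by
    have hcx : Commute c x := hcomm x hxP x hxP
    have h' : a * x ^ p * a⁻¹ = x ^ p := by rw [← conj_pow, hxc, hcx.mul_pow, hcp, one_mul]
    exact (mul_inv_eq_iff_eq_mul.1 h').symm⟩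
  have hcardPQ : Nat.card P ≤ p * Nat.card Q := by
    let f : Fin p × Q → P := fun w => ⟨(w.2 : G) * x ^ (w.1 : ℕ),
      mul_mem ((hQmem _).1 w.2.2).1 (pow_mem hxP _)⟩
    have hsurj : Function.Surjective f := by
      rintro ⟨y, hy⟩
      obtain ⟨i, e, he, rfl⟩ := hdec y hy
      have hp0 : (p : ℤ) ≠ 0 := Int.natCast_ne_zero.2 hp.out.ne_zero
      refine ⟨(⟨(i % p).toNat, ?_⟩, ⟨e * (x ^ p) ^ (i / p), mul_mem he (zpow_mem hxpQ _)⟩), Subtype.ext ?_⟩
      · rw [Int.toNat_lt (Int.emod_nonneg _ hp0)]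
        exact Int.emod_lt_of_pos _ (Int.natCast_pos.2 hp.out.pos)
      · show e * (x ^ p) ^ (i / p) * x ^ ((i % p).toNat) = e * x ^ i
        rw [← zpow_natCast x p, ← zpow_natCast, ← _root_.zpow_mul, mul_assoc, ← zpow_add,
          Int.toNat_of_nonneg (Int.emod_nonneg _ hp0), Int.mul_ediv_add_emod]
    have h' := Nat.card_le_card_of_surjective f hsurj
    rwa [Nat.card_prod, Nat.card_fin] at h'
  have hQp : IsPGroup p Q := PD.Pp.to_le (fun e he => ((hQmem e).1 he).1)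
  have hh0Q : h₀ ∈ Q := (hQmem _).2 ⟨PD.h0P, (D.P_comm_h0 h0H h0p PD haP).symm⟩
  have haQ : a ∈ Q := (hQmem _).2 ⟨haP, rfl⟩
  have htQ : ∀ e ∈ Q, t * e * t⁻¹ ∈ Q := fun e he => (hQmem _).2 ⟨PD.Pt e ((hQmem e).1 he).1, by
    have h1 : Commute e a := ((hQmem e).1 he).2
    have h2 : t * a⁻¹ * t⁻¹ = a := by rw [show t * a⁻¹ * t⁻¹ = (t * a * t⁻¹)⁻¹ by group, hat, inv_inv]
    show t * e * t⁻¹ * a = a * (t * e * t⁻¹)
    nth_rewrite 1 [← h2]
    conv_rhs => rw [← h2]
    calc t * e * t⁻¹ * (t * a⁻¹ * t⁻¹) = t * (e * a⁻¹) * t⁻¹ := by group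
      _ = t * (a⁻¹ * e) * t⁻¹ := by rw [h1.inv_right.eq]
      _ = t * a⁻¹ * t⁻¹ * (t * e * t⁻¹) := by group⟩
  have hvQ : ∀ e ∈ Q, v * e * v⁻¹ ∈ Q := fun e he => (hQmem _).2 ⟨D.P_v_inv h0H h0p PD hv ((hQmem e).1 he).1, by
    exact (((show Commute v a from hav.symm).mul_left ((hQmem e).1 he).2).mul_left
      (show Commute v a from hav.symm).inv_left).eq⟩
  -- elements of order `p` in the centre of `Q`
  have hE : ∀ e ∈ Q, e ^ p = 1 → (∀ y ∈ Q, e * y = y * e) → ∃ i j : ℕ, e = h₀ ^ i * a ^ j := by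
    intro e he hep hec
    have htvQ : ∀ e ∈ Q, t * v * e * (t * v)⁻¹ ∈ Q := fun e he => by
      rw [show t * v * e * (t * v)⁻¹ = t * (v * e * v⁻¹) * t⁻¹ by group]; exact htQ _ (hvQ e he)
    have hcent : ∀ w : G, w * w = 1 → (∀ e ∈ Q, w * e * w⁻¹ ∈ Q) → ∀ y ∈ Q, w * e * w⁻¹ * y = y * (w * e * w⁻¹) := by
      intro w hww hwQ y hy
      have hwinv : w⁻¹ = w := inv_eq_of_mul_eq_one_right hww
      have h' := hec _ (hwQ y hy)
      rw [hwinv] at h' ⊢
      calc w * e * w * y = w * (e * (w * y * w)) * w := by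
            rw [show w * (e * (w * y * w)) * w = w * e * w * y * (w * w) by group, hww, mul_one]
        _ = w * ((w * y * w) * e) * w := by rw [h']
        _ = (w * w) * y * (w * e * w) := by group
        _ = _ := by rw [hww, one_mul]
    have hcomp : ∀ w : G, w * w = 1 → (∀ e ∈ Q, w * e * w⁻¹ ∈ Q) →
        (e * (w * e * w⁻¹)) ∈ Q ∧ (∀ y ∈ Q, e * (w * e * w⁻¹) * y = y * (e * (w * e * w⁻¹))) ∧
          (e * (w * e * w⁻¹)) ^ p = 1 ∧ e * (w * e * w⁻¹) * w = w * (e * (w * e * w⁻¹)) := by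
      intro w hww hwQ
      have hce : Commute e (w * e * w⁻¹) := hec _ (hwQ e he)
      refine ⟨mul_mem he (hwQ e he), fun y hy => ((show Commute e y from hec y hy).mul_left
        (hcent w hww hwQ y hy)).eq, by rw [hce.mul_pow, hep, conj_pow, hep, mul_one, mul_inv_cancel, one_mul], ?_⟩
      calc e * (w * e * w⁻¹) * w = e * w * e := by group
        _ = (w * w) * (e * w * e) := by rw [hww, one_mul]
        _ = w * ((w * e * w⁻¹) * (w * w) * e) := by group
        _ = w * ((w * e * w⁻¹) * e) := by rw [hww, mul_one]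
        _ = w * (e * (w * e * w⁻¹)) := by rw [hce.eq]
    obtain ⟨h1Q, h1c, h1p, h1t⟩ := hcomp t D.tt htQ
    obtain ⟨h2Q, h2c, h2p, h2v⟩ := hcomp v hvv hvQ
    obtain ⟨h3Q, h3c, h3p, h3w⟩ := hcomp (t * v) hv'v htvQ
    set a₁ := e * (t * e * t⁻¹) with ha₁
    set a₂ := e * (v * e * v⁻¹) with ha₂
    set a₃ := e * (t * v * e * (t * v)⁻¹) with ha₃
    have h1 : a₁ ∈ zpowers h₀ :=
      D.mem_hzero h0H h0p (PD.Ofix _ (PD.PO ((hQmem _).1 h1Q).1) h1t) h1p
    have h2 : a₂ ∈ zpowers a := D.inv_pair h0H h0p hap ha1 h2p hvv hv1 hav h2v ((hQmem _).1 h2Q).2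
    have h3 : a₃ = 1 := by
      refine D.center_fix h0H h0p PD hv' ((hQmem _).1 h3Q).1 (fun y hy => ?_) h3w
      obtain ⟨i, e', he', rfl⟩ := hdec y hy
      have h3x : Commute a₃ x := D.p_comm_invol h0H h0p (T := P ⊓ centralizer ({t * v} : Set G))
        (PD.Pp.to_le inf_le_left) hv'v hv'1 (fun b hb => mem_centralizer_singleton_iff.1 (mem_inf.1 hb).2)
        (mem_inf.2 ⟨((hQmem _).1 h3Q).1, mem_centralizer_singleton_iff.2 h3w⟩)
        (mem_inf.2 ⟨hxP, mem_centralizer_singleton_iff.2 hxv⟩)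
      exact ((show Commute a₃ e' from h3c e' he').mul_right (h3x.zpow_right i)).eq
    -- the product of the four conjugates is trivial
    set T' := t * e * t⁻¹ with hT'
    set V' := v * e * v⁻¹ with hV'
    set W' := t * v * e * (t * v)⁻¹ with hW'
    have hTQ : T' ∈ Q := htQ e he
    have hVQ : V' ∈ Q := hvQ e he
    have hWQ : W' ∈ Q := htvQ e he
    have cTV : Commute T' V' := hcent t D.tt htQ V' hVQ
    have cTW : Commute T' W' := hcent t D.tt htQ W' hWQ
    have cVW : Commute V' W' := hcent v hvv hvQ W' hWQ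
    have ceT : Commute e T' := hec T' hTQ
    have ceV : Commute e V' := hec V' hVQ
    have ceW : Commute e W' := hec W' hWQ
    have htT : t * T' * t⁻¹ = e := by
      rw [hT', show t * (t * e * t⁻¹) * t⁻¹ = (t * t) * e * (t * t)⁻¹ by group, D.tt]; group
    have htV : t * V' * t⁻¹ = W' := by rw [hV', hW']; group
    have htW : t * W' * t⁻¹ = V' := by
      rw [hW', show t * (t * v * e * (t * v)⁻¹) * t⁻¹ = (t * t) * (v * e * v⁻¹) * (t * t)⁻¹ by group, D.tt, hV']
      group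
    have hvT : v * T' * v⁻¹ = W' := by
      rw [hT', hW', show v * (t * e * t⁻¹) * v⁻¹ = (v * t) * e * (v * t)⁻¹ by group, hvc]
    have hvV : v * V' * v⁻¹ = e := by
      rw [hV', show v * (v * e * v⁻¹) * v⁻¹ = (v * v) * e * (v * v)⁻¹ by group, hvv]; group
    have hvW : v * W' * v⁻¹ = T' := by
      rw [hW', hT', show v * (t * v * e * (t * v)⁻¹) * v⁻¹ = (v * t) * v * e * v⁻¹ * (v * t)⁻¹ by group, hvc,
        show t * v * v * e * v⁻¹ * (t * v)⁻¹ = t * (v * v) * e * (t * (v * v))⁻¹ by group, hvv, mul_one]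
    have hN1 : e * T' * V' * W' = 1 := by
      have hNP : e * T' * V' * W' ∈ P :=
        mul_mem (mul_mem (mul_mem ((hQmem _).1 he).1 ((hQmem _).1 hTQ).1) ((hQmem _).1 hVQ).1) ((hQmem _).1 hWQ).1
      refine hfixS _ hNP ?_ ?_
      · refine (mul_inv_eq_iff_eq_mul.1 ?_).symm
        rw [show v * (e * T' * V' * W') * v⁻¹ = (v * e * v⁻¹) * (v * T' * v⁻¹) * (v * V' * v⁻¹) * (v * W' * v⁻¹) by
          group, hvT, hvV, hvW, ← hV', (ceV.symm.mul_left ceW.symm).eq,
          mul_assoc e, (cTV.symm.mul_left cTW.symm).eq, ← mul_assoc e, ← mul_assoc, mul_assoc]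
      · refine (mul_inv_eq_iff_eq_mul.1 ?_).symm
        rw [show t * (e * T' * V' * W') * t⁻¹ = (t * e * t⁻¹) * (t * T' * t⁻¹) * (t * V' * t⁻¹) * (t * W' * t⁻¹) by
          group, htT, htV, htW, ← hT', ← ceT.eq, mul_assoc _ W', ← cVW.eq, ← mul_assoc]
    have hprod : a₁ * a₂ = e * e := by
      have : a₁ * a₂ * a₃ = e * e * (e * T' * V' * W') := by
        have ha₁' : a₁ = e * T' := rfl
        have ha₂' : a₂ = e * V' := rfl
        have ha₃' : a₃ = e * W' := rfl
        rw [ha₁', ha₂', ha₃']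
        calc e * T' * (e * V') * (e * W') = e * (T' * e) * (V' * e) * W' := by group
          _ = e * (e * T') * (e * V') * W' := by rw [← ceT.eq, ← ceV.eq]
          _ = e * e * (T' * e) * V' * W' := by group
          _ = e * e * (e * T') * V' * W' := by rw [← ceT.eq]
          _ = e * e * (e * T' * V' * W') := by group
      rwa [h3, hN1, mul_one, mul_one] at this
    obtain ⟨i, hi⟩ := (mem_powers_iff_mem_zpowers (x := h₀)).2 h1
    obtain ⟨j, hj⟩ := (mem_powers_iff_mem_zpowers (x := a)).2 h2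
    obtain ⟨k, hk⟩ := (mem_powers_iff_mem_zpowers (x := e * e)).2 (mem_zpowers_sq (hodd e ((hQmem _).1 he).1))
    refine ⟨i * k, j * k, ?_⟩
    have hi' : h₀ ^ i = a₁ := hi
    have hj' : a ^ j = a₂ := hj
    have hk' : (e * e) ^ k = e := hk
    rw [pow_mul, pow_mul, hi', hj', ← (show Commute a₁ a₂ from h1c a₂ h2Q).mul_pow, hprod, hk']
  -- a conjugate of `P` in the centraliser of `a`
  obtain ⟨g, hg, hga⟩ := D.conj_hzero h0H h0p hap ha1 hvv hv1 hav
  have hgP : ∀ b ∈ P, g⁻¹ * b * g * a = a * (g⁻¹ * b * g) := by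
    intro b hb
    have hb' : b * (g * a * g⁻¹) = g * a * g⁻¹ * b :=
      commute_of_mem_zpowers (hga ▸ mem_zpowers (g * a * g⁻¹)) (D.P_comm_h0 h0H h0p PD hb)
    calc g⁻¹ * b * g * a = g⁻¹ * (b * (g * a * g⁻¹)) * g := by group
      _ = g⁻¹ * (g * a * g⁻¹ * b) * g := by rw [hb']
      _ = a * (g⁻¹ * b * g) := by group
  set Ca : Subgroup G := centralizer ({a} : Set G) with hCa
  have hQCa : Q ≤ Ca := fun e he => mem_centralizer_singleton_iff.2 ((hQmem e).1 he).2
  obtain ⟨S₀, hS₀⟩ := (hQp.of_equiv (subgroupOfEquivOfLe hQCa).symm).exists_le_sylow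
  set S' : Subgroup G := (S₀ : Subgroup Ca).map Ca.subtype with hS'
  have hS'p : IsPGroup p S' := S₀.2.map _
  have hQS : Q ≤ S' := fun e he => ⟨⟨e, hQCa he⟩, hS₀ he, rfl⟩
  set P₁ : Subgroup G := P.map (MulAut.conj g⁻¹).toMonoidHom with hP₁
  have hP₁Ca : P₁ ≤ Ca := by
    rintro _ ⟨b, hb, rfl⟩
    refine mem_centralizer_singleton_iff.2 ?_
    show g⁻¹ * b * g⁻¹⁻¹ * a = a * (g⁻¹ * b * g⁻¹⁻¹)
    rw [inv_inv]
    exact hgP b hb
  have hlt : Nat.card Q < Nat.card S' := by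
    obtain ⟨T₀, hT₀⟩ := ((PD.Pp.map (MulAut.conj g⁻¹).toMonoidHom).of_equiv
      (subgroupOfEquivOfLe hP₁Ca).symm).exists_le_sylow
    have h1 : Nat.card P ≤ Nat.card S' := by
      calc Nat.card P = Nat.card P₁ := (card_map_of_injective (MulAut.conj g⁻¹).injective).symm
        _ = Nat.card (P₁.subgroupOf Ca) := (Nat.card_congr (subgroupOfEquivOfLe hP₁Ca).toEquiv).symm
        _ ≤ Nat.card (T₀ : Subgroup Ca) := Nat.card_le_card_of_injective _ (inclusion_injective hT₀)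
        _ = Nat.card (S₀ : Subgroup Ca) := Nat.card_congr (Sylow.equiv T₀ S₀).toEquiv
        _ = Nat.card S' := by rw [hS', card_map_of_injective Ca.subtype_injective]
    refine lt_of_lt_of_le (lt_of_le_of_ne (card_le_of_le fun e he => ((hQmem e).1 he).1) fun h => hxa ?_) h1
    exact (((hQmem x).1 (eq_of_le_of_card_ge (fun e he => ((hQmem e).1 he).1) h.ge ▸ hxP)).2).symm
  obtain ⟨y, hyS, hyQ, hyN⟩ : ∃ y ∈ S', y ∉ Q ∧ y ∈ normalizer (Q : Set G) := by
    haveI := hS'p.isNilpotent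
    have hQlt : Q.subgroupOf S' < ⊤ := lt_top_iff_ne_top.2 fun h => by
      rw [subgroupOf_eq_top] at h
      exact absurd (card_le_of_le h) (not_le.2 hlt)
    obtain ⟨⟨y, hy⟩, hyN, hyQ⟩ := SetLike.exists_of_lt (Group.normalizerCondition_of_isNilpotent (G := S') _ hQlt)
    refine ⟨y, hy, hyQ, mem_normalizer_of_forall fun e he => ?_⟩
    exact (mem_normalizer_iff.1 hyN ⟨e, hQS he⟩).1 he
  have hya : y * a * y⁻¹ = a := by
    obtain ⟨y', -, rfl⟩ := hyS
    rw [show (Ca.subtype y') = (y' : G) from rfl, mem_centralizer_singleton_iff.1 y'.2, mul_inv_cancel_right]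
  -- `y` does not centralise `h₀`
  have hyh : y * h₀ ≠ h₀ * y := by
    intro hyh
    set T : Subgroup G := Q ⊔ zpowers y with hT
    have hTp : IsPGroup p T := hS'p.to_le (sup_le hQS (zpowers_le.2 hyS))
    obtain ⟨-, o, ho, hoT⟩ := PD.max T hTp (sup_le (fun e he => mem_centralizer_singleton_iff.2
      (D.P_comm_h0 h0H h0p PD ((hQmem e).1 he).1)) (zpowers_le.2 (mem_centralizer_singleton_iff.2 hyh)))
    obtain ⟨α, hα⟩ := hTp.exists_card_eq
    obtain ⟨β, hβ⟩ := hQp.exists_card_eq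
    have hlt' : Nat.card Q < Nat.card T := by
      refine lt_of_le_of_ne (card_le_of_le le_sup_left) fun h => hyQ ?_
      exact eq_of_le_of_card_ge le_sup_left h.ge ▸ mem_sup_right (mem_zpowers y)
    have hβα : β + 1 ≤ α := by
      by_contra hcon
      have := pow_le_pow_right₀ hp.out.one_le (show α ≤ β by omega)
      omega
    have hTP : Nat.card P ≤ Nat.card T :=
      hcardPQ.trans (by rw [hα, hβ, ← pow_succ']; exact pow_le_pow_right₀ hp.out.one_le hβα)
    have hinj : Function.Injective (fun b : T => (⟨o * b * o⁻¹, hoT b b.2⟩ : P)) := fun b b' h =>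
      Subtype.ext ((MulAut.conj o).injective (congrArg Subtype.val h))
    have hsurj : Function.Surjective (fun b : T => (⟨o * b * o⁻¹, hoT b b.2⟩ : P)) := by
      have hle : Nat.card T ≤ Nat.card P := Nat.card_le_card_of_injective _ hinj
      exact ((Nat.bijective_iff_injective_and_card _).2 ⟨hinj, le_antisymm hle hTP⟩).2
    have hTa : ∀ b ∈ T, b * a = a * b := by
      intro b hb
      have hTC : T ≤ Ca := sup_le hQCa (zpowers_le.2 (mem_centralizer_singleton_iff.2 (mul_inv_eq_iff_eq_mul.1 hya)))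
      exact mem_centralizer_singleton_iff.1 (hTC hb)
    have haT : a ∈ T := mem_sup_left haQ
    obtain ⟨-, hoaH⟩ := D.center_le h0H h0p PD (hoT a haT) (fun b hb => by
      obtain ⟨b', hb'⟩ := hsurj ⟨b, hb⟩
      have hb'' : o * (b' : G) * o⁻¹ = b := congrArg Subtype.val hb'
      rw [← hb'']
      calc o * a * o⁻¹ * (o * b' * o⁻¹) = o * (a * b') * o⁻¹ := by group
        _ = o * ((b' : G) * a) * o⁻¹ := by rw [hTa b' b'.2]
        _ = o * b' * o⁻¹ * (o * a * o⁻¹) := by group)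
    obtain ⟨i, hi⟩ := mem_zpowers_iff.1
      (D.mem_hzero h0H h0p hoaH (by rw [conj_pow, hap, mul_one, mul_inv_cancel]))
    refine hah (mem_zpowers_iff.2 ⟨i, ?_⟩)
    have h' : a = o⁻¹ * h₀ ^ i * o := by rw [hi]; group
    rw [h', mul_assoc, ((show Commute o h₀ from ho).zpow_right i).symm.eq, inv_mul_cancel_left]
  -- the action of `y` on `⟨h₀, a⟩`
  have hh0p : h₀ ^ p = 1 := h0p ▸ pow_orderOf_eq_one h₀
  have hh0c : ∀ e ∈ Q, h₀ * e = e * h₀ := fun e he => (D.P_comm_h0 h0H h0p PD ((hQmem e).1 he).1).symm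
  have hyhQ : y * h₀ * y⁻¹ ∈ Q := (mem_normalizer_iff.1 hyN h₀).1 hh0Q
  obtain ⟨i, j, hij⟩ := hE _ hyhQ (by rw [conj_pow, hh0p, mul_one, mul_inv_cancel]) (fun e he => by
    have he' : y⁻¹ * e * y ∈ Q := (mem_normalizer_iff''.1 hyN e).1 he
    calc y * h₀ * y⁻¹ * e = y * (h₀ * (y⁻¹ * e * y)) * y⁻¹ := by group
      _ = y * (y⁻¹ * e * y * h₀) * y⁻¹ := by rw [hh0c _ he']
      _ = e * (y * h₀ * y⁻¹) := by group)
  have hca : Commute h₀ a := hh0c a haQ
  have hiter : ∀ n : ℕ, ∃ J : ℕ, y ^ n * h₀ * (y ^ n)⁻¹ = h₀ ^ (i ^ n) * a ^ J := by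
    intro n
    induction n with
    | zero => exact ⟨0, by simp⟩
    | succ n ih =>
      obtain ⟨J, hJ⟩ := ih
      refine ⟨j * i ^ n + J, ?_⟩
      rw [pow_succ' y, show y * y ^ n * h₀ * (y * y ^ n)⁻¹ = y * (y ^ n * h₀ * (y ^ n)⁻¹) * y⁻¹ by group, hJ,
        show y * (h₀ ^ i ^ n * a ^ J) * y⁻¹ = (y * h₀ ^ i ^ n * y⁻¹) * (y * a ^ J * y⁻¹) by group, ← conj_pow,
        ← conj_pow, hij, hya, (hca.pow_pow i j).mul_pow, ← pow_mul, ← pow_mul, ← pow_succ', mul_assoc, ← pow_add]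
  obtain ⟨k, hk⟩ := hS'p ⟨y, hyS⟩
  obtain ⟨J, hJ⟩ := hiter (p ^ k)
  rw [show y ^ p ^ k = 1 from congrArg Subtype.val hk, one_mul, inv_one, mul_one] at hJ
  have hJH : a ^ J ∈ H := by
    rw [show a ^ J = (h₀ ^ i ^ p ^ k)⁻¹ * h₀ by rw [eq_inv_mul_iff_mul_eq]; exact hJ.symm]
    exact mul_mem (inv_mem (pow_mem h0H _)) h0H
  have hJ1 : a ^ J = 1 :=
    hfixS _ (pow_mem haP J) ((show Commute a v from hav).pow_left J).eq (D.comm _ (D.HK hJH)).symm
  rw [hJ1, mul_one] at hJ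
  have hmod : i ^ p ^ k ≡ 1 [MOD p] := by
    have := pow_eq_pow_iff_modEq.1 ((pow_one h₀).trans hJ)
    rwa [h0p, Nat.ModEq.comm] at this
  have hi1 : (i : ZMod p) = 1 := by
    have := (ZMod.natCast_eq_natCast_iff _ _ p).2 hmod
    rwa [Nat.cast_pow, ZMod.pow_card_pow, Nat.cast_one] at this
  have hi' : h₀ ^ i = h₀ := by
    conv_rhs => rw [← pow_one h₀]
    refine pow_eq_pow_iff_modEq.2 ?_
    rw [h0p, ← ZMod.natCast_eq_natCast_iff, hi1, Nat.cast_one]
  rw [hi'] at hij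
  have hj0 : ¬ p ∣ j := by
    rintro ⟨w, rfl⟩
    rw [pow_mul, hap, one_pow, mul_one] at hij
    exact hyh (mul_inv_eq_iff_eq_mul.1 hij)
  -- the action of `x`
  obtain ⟨d, hd⟩ := (mem_powers_iff_mem_zpowers (x := h₀)).2 (inv_mem (hcz x hxP))
  have hd' : h₀ ^ d = c⁻¹ := hd
  have hd0 : ¬ p ∣ d := by
    rintro ⟨w, rfl⟩
    rw [pow_mul, hh0p, one_pow] at hd'
    exact hc1 (inv_eq_one.1 hd'.symm)
  have hxa' : x * a * x⁻¹ = a * h₀ ^ d := by
    rw [hd', ← ((show Commute c a from hcomm x hxP a haP).inv_left).eq, hc]; group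
  exact D.free (involves_three_of_transvections hp2 hp3 hh0p hap hca.eq (fun h => hah (h ▸ mem_zpowers h₀))
    hj0 hd0 hya hij (by rw [← hh0x, mul_inv_cancel_right]) hxa')

end Generate

end Cfsg.Lib.ReeThree
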